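import Mathlib
import Cfsg.Prelude.Def_Blocks
import Cfsg.Agent.Lib.Helper77.BlockIdem

/-!
# Block idempotents inside a subring of the centre

If a subring `T` of the centre of the group algebra consists of integral elements, is closed
under scalars from the local ring and contains enough class sums to separate a block from the
other characters, then the block idempotent lies in `T`.
-/

set_option autoImplicit false

namespace Cfsg.Agent.Lib.Helper77.IdemIn

open Cfsg Cfsg.Agent.Lib.Helper77.LocalRing Cfsg.Agent.Lib.Helper77.CentralChar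
  Cfsg.Agent.Lib.Helper77.ClassSum Cfsg.Agent.Lib.CT.Wedderburn
  Cfsg.Agent.Lib.Helper77.BlockIdem

universe u
variable {G : Type u} [Group G] [Finite G] {M : Ideal AlgInt} (hMp : M.IsPrime)

/-- Separation of a character outside the block from the block, inside `T`. -/
theorem exists_sep_in (T : Subring (Zc G)) (hT : T ≤ goodSubring M hMp)
    (hsmul : ∀ r : ℂ, MemLocalRing M r → ∀ z ∈ T, r • z ∈ T)
    (χ₀ ψ : IrrCharacter G) (g : G) (hgT : cs g ∈ T)
    (hg : ¬ MemLocalIdeal M (centralChar (χ₀ : G → ℂ) g - centralChar (ψ : G → ℂ) g)) :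
    ∃ a ∈ T, omegaHom ψ.2 a = 0 ∧
      ∀ χ ∈ blockOf M (χ₀ : G → ℂ), MemLocalIdeal M (omegaHom χ.2 a - 1) := by
  set u : ℂ := centralChar (χ₀ : G → ℂ) g - centralChar (ψ : G → ℂ) g with hu
  have hu0 : u ≠ 0 := by
    intro h0
    rw [h0] at hg
    exact hg (memLocalIdeal_zero hMp)
  have hψR : MemLocalRing M (centralChar (ψ : G → ℂ) g) :=
    memLocalRing_of_isIntegral hMp (isIntegral_centralChar ψ.2 g)
  have huR : MemLocalRing M u :=
    memLocalRing_sub hMp (memLocalRing_of_isIntegral hMp (isIntegral_centralChar χ₀.2 g)) hψR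
  have huinv : MemLocalRing M u⁻¹ := memLocalRing_inv huR hg
  refine ⟨u⁻¹ • (cs g - centralChar (ψ : G → ℂ) g • (1 : Zc G)), ?_, ?_, ?_⟩
  · apply hsmul _ huinv
    exact Subring.sub_mem _ hgT (hsmul _ hψR _ (Subring.one_mem _))
  · rw [omegaHom_smul, map_sub, omegaHom_smul, map_one, omegaHom_cs]
    ring
  · intro χ hχ
    have hχ' : MemLocalIdeal M (centralChar (χ₀ : G → ℂ) g - centralChar (χ : G → ℂ) g) := hχ g
    rw [omegaHom_smul, map_sub, omegaHom_smul, map_one, omegaHom_cs]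
    have hu1 : u⁻¹ * u = 1 := inv_mul_cancel₀ hu0
    have : u⁻¹ * (centralChar (χ : G → ℂ) g - centralChar (ψ : G → ℂ) g * 1) - 1
        = - (u⁻¹ * (centralChar (χ₀ : G → ℂ) g - centralChar (χ : G → ℂ) g)) := by
      calc u⁻¹ * (centralChar (χ : G → ℂ) g - centralChar (ψ : G → ℂ) g * 1) - 1
          = u⁻¹ * (centralChar (χ : G → ℂ) g - centralChar (ψ : G → ℂ) g) - u⁻¹ * u := by
            rw [hu1]; ring
        _ = - (u⁻¹ * (centralChar (χ₀ : G → ℂ) g - centralChar (χ : G → ℂ) g)) := by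
            rw [hu]; ring
    rw [this]
    exact memLocalIdeal_neg (memLocalIdeal_mul_left hMp huinv hχ')

open Classical in
/-- The block idempotent as an element of `T`. -/
theorem exists_idem_in (T : Subring (Zc G)) (hT : T ≤ goodSubring M hMp)
    (hsmul : ∀ r : ℂ, MemLocalRing M r → ∀ z ∈ T, r • z ∈ T)
    (χ₀ : IrrCharacter G)
    (hsep : ∀ ψ : IrrCharacter G, ψ ∉ blockOf M (χ₀ : G → ℂ) → ∃ g : G, cs g ∈ T ∧
      ¬ MemLocalIdeal M (centralChar (χ₀ : G → ℂ) g - centralChar (ψ : G → ℂ) g)) :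
    ∃ ε ∈ T, ∀ ψ : IrrCharacter G,
      omegaHom ψ.2 ε = if ψ ∈ blockOf M (χ₀ : G → ℂ) then 1 else 0 := by
  have := finite_irrCharacter G
  have := Fintype.ofFinite (IrrCharacter G)
  set B : Set (IrrCharacter G) := blockOf M (χ₀ : G → ℂ) with hB
  have hex : ∀ ψ : IrrCharacter G, ∃ a ∈ T, ψ ∉ B →
      (omegaHom ψ.2 a = 0 ∧ ∀ χ ∈ B, MemLocalIdeal M (omegaHom χ.2 a - 1)) := by
    intro ψ
    by_cases h : ψ ∈ B
    · exact ⟨1, Subring.one_mem _, fun h' => absurd h h'⟩
    · obtain ⟨g, hgT, hg⟩ := hsep ψ h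
      obtain ⟨a, ha, h1, h2⟩ := exists_sep_in hMp T hT hsmul χ₀ ψ g hgT hg
      exact ⟨a, ha, fun _ => ⟨h1, h2⟩⟩
  choose a ha ha' using hex
  set c : Zc G := ∏ ψ ∈ Finset.univ.filter (fun ψ : IrrCharacter G => ψ ∉ B), a ψ with hc
  have hcT : c ∈ T := Subring.prod_mem _ fun ψ _ => ha ψ
  have hc_good : c ∈ goodSubring M hMp := hT hcT
  have hc0 : ∀ ψ : IrrCharacter G, ψ ∉ B → omegaHom ψ.2 c = 0 := by
    intro ψ hψ
    rw [hc, map_prod]
    exact Finset.prod_eq_zero (Finset.mem_filter.mpr ⟨Finset.mem_univ _, hψ⟩) (ha' ψ hψ).1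
  have hcR : ∀ χ : IrrCharacter G, MemLocalRing M (omegaHom χ.2 c) :=
    ((mem_goodSubring M hMp).mp hc_good).2
  have hc1 : ∀ χ : IrrCharacter G, χ ∈ B → ¬ MemLocalIdeal M (omegaHom χ.2 c) := by
    intro χ hχ
    rw [hc, map_prod]
    apply not_memLocalIdeal_prod hMp
    · intro ψ _
      exact ((mem_goodSubring M hMp).mp (hT (ha ψ))).2 χ
    · intro ψ hψ
      exact not_memLocalIdeal_of_sub_one hMp ((ha' ψ (Finset.mem_filter.mp hψ).2).2 χ hχ)
  set α : IrrCharacter G → ℂ := fun χ => omegaHom χ.2 c with hα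
  set γ : ℂ := ∏ χ ∈ Finset.univ.filter (fun χ : IrrCharacter G => χ ∈ B), (- α χ) with hγ
  have hγR : MemLocalRing M γ :=
    memLocalRing_prod hMp _ _ fun χ _ => memLocalRing_neg (hcR χ)
  have hγm : ¬ MemLocalIdeal M γ := by
    apply not_memLocalIdeal_prod hMp
    · intro χ _
      exact memLocalRing_neg (hcR χ)
    · intro χ hχ
      rw [memLocalIdeal_neg_iff]
      exact hc1 χ (Finset.mem_filter.mp hχ).2
  have hγ0 : γ ≠ 0 := by
    intro h0
    rw [h0] at hγm
    exact hγm (memLocalIdeal_zero hMp)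
  have hγinv : MemLocalRing M γ⁻¹ := memLocalRing_inv hγR hγm
  refine ⟨1 - γ⁻¹ • ∏ χ ∈ Finset.univ.filter (fun χ : IrrCharacter G => χ ∈ B),
    (c - α χ • (1 : Zc G)), ?_, ?_⟩
  · apply Subring.sub_mem _ (Subring.one_mem _)
    apply hsmul _ hγinv
    exact Subring.prod_mem _ fun χ _ => Subring.sub_mem _ hcT
      (hsmul _ (hcR χ) _ (Subring.one_mem _))
  · intro ψ
    rw [map_sub, map_one, omegaHom_smul, map_prod]
    have hfac : ∀ χ : IrrCharacter G, omegaHom ψ.2 (c - α χ • (1 : Zc G))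
        = omegaHom ψ.2 c - α χ := by
      intro χ
      rw [map_sub, omegaHom_smul, map_one, mul_one]
    simp only [hfac]
    by_cases hψ : ψ ∈ B
    · rw [if_pos hψ]
      have : ∏ χ ∈ Finset.univ.filter (fun χ : IrrCharacter G => χ ∈ B),
          (omegaHom ψ.2 c - α χ) = 0 :=
        Finset.prod_eq_zero (Finset.mem_filter.mpr ⟨Finset.mem_univ _, hψ⟩) (sub_self _)
      rw [this, mul_zero, sub_zero]
    · rw [if_neg hψ, hc0 ψ hψ]
      simp only [zero_sub]
      rw [← hγ, inv_mul_cancel₀ hγ0, sub_self]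

/-- The block idempotent lies in `T`. -/
theorem blockIdem_mem_in (T : Subring (Zc G)) (hT : T ≤ goodSubring M hMp)
    (hsmul : ∀ r : ℂ, MemLocalRing M r → ∀ z ∈ T, r • z ∈ T)
    (χ₀ : IrrCharacter G)
    (hsep : ∀ ψ : IrrCharacter G, ψ ∉ blockOf M (χ₀ : G → ℂ) → ∃ g : G, cs g ∈ T ∧
      ¬ MemLocalIdeal M (centralChar (χ₀ : G → ℂ) g - centralChar (ψ : G → ℂ) g)) :
    ∃ ε ∈ T, (ε : MonoidAlgebra ℂ G) = blockIdem (blockOf M (χ₀ : G → ℂ)) := by
  classical
  obtain ⟨ε, hε, hω⟩ := exists_idem_in hMp T hT hsmul χ₀ hsep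
  refine ⟨ε, hε, ?_⟩
  apply eq_of_omega_eq _ _ ε.2 (blockIdem_mem_center _)
  intro χ
  rw [omega_blockIdem]
  exact hω χ

omit [Finite G] in
/-- The group algebra elements supported on a subgroup. -/
def supportSubring (C : Subgroup G) : Subring (MonoidAlgebra ℂ G) where
  carrier := {z | ∀ g : G, g ∉ C → z.coeff g = 0}
  mul_mem' := by
    classical
    intro x y hx hy g hg
    rw [MonoidAlgebra.coeff_mul]
    unfold Finsupp.sum
    refine Finset.sum_eq_zero fun a _ => Finset.sum_eq_zero fun b _ => ?_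
    show (if a * b = g then x.coeff a * y.coeff b else 0) = 0
    split_ifs with h
    · by_cases ha : a ∈ C
      · have hb : b ∉ C := by
          intro hb
          exact hg (h ▸ C.mul_mem ha hb)
        rw [hy b hb, mul_zero]
      · rw [hx a ha, zero_mul]
    · rfl
  one_mem' := by
    classical
    intro g hg
    rw [MonoidAlgebra.one_def, MonoidAlgebra.coeff_single, Finsupp.single_apply]
    rw [if_neg]
    intro h
    exact hg (h ▸ C.one_mem)
  add_mem' := by
    intro x y hx hy g hg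
    rw [MonoidAlgebra.coeff_add]
    show x.coeff g + y.coeff g = 0
    rw [hx g hg, hy g hg, add_zero]
  zero_mem' := by
    intro g _
    simp
  neg_mem' := by
    intro x hx g hg
    rw [MonoidAlgebra.coeff_neg]
    show -(x.coeff g) = 0
    rw [hx g hg, neg_zero]

omit [Finite G] in
theorem mem_supportSubring {C : Subgroup G} {z : MonoidAlgebra ℂ G} :
    z ∈ supportSubring C ↔ ∀ g : G, g ∉ C → z.coeff g = 0 := Iff.rfl

include hMp in
/-- If the classes outside a normal subgroup `C` have central character values in the local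
ideal, then every block idempotent is supported on `C`. -/
theorem blockCoeff_eq_zero_of_normal (C : Subgroup G) [C.Normal]
    (hC : ∀ (χ : IrrCharacter G) (g : G), g ∉ C → MemLocalIdeal M (centralChar (χ : G → ℂ) g))
    (B : Set (IrrCharacter G)) (hB : IsPBlock M B) (g : G) (hg : g ∉ C) :
    blockCoeff B g = 0 := by
  classical
  obtain ⟨χ₀, rfl⟩ := hB
  set T : Subring (Zc G) := goodSubring M hMp ⊓ (supportSubring C).comap (Zc G).val.toRingHom
    with hTdef
  have hT : T ≤ goodSubring M hMp := inf_le_left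
  have hsmul : ∀ r : ℂ, MemLocalRing M r → ∀ z ∈ T, r • z ∈ T := by
    intro r hr z hz
    rw [hTdef, Subring.mem_inf] at hz ⊢
    refine ⟨smul_mem_goodSubring M hMp hr hz.1, ?_⟩
    intro x hx
    have h2 : (z : MonoidAlgebra ℂ G).coeff x = 0 := hz.2 x hx
    show ((r • z : Zc G) : MonoidAlgebra ℂ G).coeff x = 0
    rw [Subalgebra.coe_smul, MonoidAlgebra.coeff_smul]
    show r • (z : MonoidAlgebra ℂ G).coeff x = 0
    rw [h2, smul_zero]
  have hsep : ∀ ψ : IrrCharacter G, ψ ∉ blockOf M (χ₀ : G → ℂ) → ∃ g : G, cs g ∈ T ∧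
      ¬ MemLocalIdeal M (centralChar (χ₀ : G → ℂ) g - centralChar (ψ : G → ℂ) g) := by
    intro ψ hψ
    have h' : ¬ ∀ g : G, MemLocalIdeal M
        (centralChar (χ₀ : G → ℂ) g - centralChar (ψ : G → ℂ) g) := hψ
    push Not at h'
    obtain ⟨x, hx⟩ := h'
    refine ⟨x, ?_, hx⟩
    have hxC : x ∈ C := by
      by_contra hxC
      exact hx (memLocalIdeal_sub hMp (hC χ₀ x hxC) (hC ψ x hxC))
    rw [hTdef, Subring.mem_inf]
    refine ⟨cs_mem_goodSubring M hMp x, ?_⟩
    intro y hy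
    show (classSum x).coeff y = 0
    unfold classSum
    rw [coeff_ofFun, if_neg]
    intro hconj
    obtain ⟨c, hc⟩ := isConj_iff.mp hconj
    apply hy
    rw [← hc]
    exact ‹C.Normal›.conj_mem x hxC c
  obtain ⟨ε, hε, heq⟩ := blockIdem_mem_in hMp T hT hsmul χ₀ hsep
  rw [hTdef, Subring.mem_inf] at hε
  have h1 : (ε : MonoidAlgebra ℂ G).coeff g = 0 := hε.2 g hg
  rw [heq, coeff_blockIdem] at h1
  exact h1

end Cfsg.Agent.Lib.Helper77.IdemIn
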