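import Mathlib
import Cfsg.Prelude.Def_BrauerPairs
import Cfsg.Agent.Lib.Helper77.OsimaVanish
import Cfsg.Agent.Lib.Helper77.IdemIn
import Cfsg.Agent.Lib.Helper16.ZR

/-!
# Brauer pairs: restriction, extension and truncation in the group algebra

Everything is done inside `MonoidAlgebra ℂ G`: elements supported on a subgroup, elements fixed
under conjugation by a subgroup, truncation to a subgroup, and central characters of subgroups
evaluated on elements of the big group algebra.
-/

set_option autoImplicit false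

namespace Cfsg.Agent.Lib.Helper77.BPBasic

open Cfsg Cfsg.Agent.Lib.Helper77.LocalRing Cfsg.Agent.Lib.Helper77.CentralChar
  Cfsg.Agent.Lib.Helper77.ClassSum Cfsg.Agent.Lib.Helper77.BlockIdem
  Cfsg.Agent.Lib.Helper77.OsimaVanish Cfsg.Agent.Lib.Helper77.IdemIn

universe u
variable {G : Type u} [Group G]

/-! ### Coefficients of products -/

theorem coeff_mul' [Fintype G] (z w : MonoidAlgebra ℂ G) (x : G) :
    (z * w).coeff x = ∑ h : G, z.coeff (x * h⁻¹) * w.coeff h := by
  have h := coeff_ofFun_mul (fun g => z.coeff g) (fun g => w.coeff g) x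
  rwa [ofFun_coeff, ofFun_coeff] at h

/-! ### Elements fixed under conjugation by a subgroup -/

/-- The elements of the group algebra fixed under conjugation by the subgroup `K`. -/
def fixedSubring [Finite G] (K : Subgroup G) : Subring (MonoidAlgebra ℂ G) where
  carrier := {z | ∀ x ∈ K, ∀ g : G, z.coeff (x * g * x⁻¹) = z.coeff g}
  mul_mem' := by
    intro z w hz hw x hx g
    cases nonempty_fintype G
    rw [coeff_mul', coeff_mul']
    symm
    apply Fintype.sum_equiv (MulAut.conj x).toEquiv
    intro h
    show z.coeff (g * h⁻¹) * w.coeff h = z.coeff (x * g * x⁻¹ * (x * h * x⁻¹)⁻¹) *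
      w.coeff (x * h * x⁻¹)
    rw [hw x hx h, show x * g * x⁻¹ * (x * h * x⁻¹)⁻¹ = x * (g * h⁻¹) * x⁻¹ by group,
      hz x hx]
  one_mem' := by
    classical
    intro x _ g
    rw [MonoidAlgebra.one_def, MonoidAlgebra.coeff_single, Finsupp.single_apply,
      Finsupp.single_apply]
    have : (1 = x * g * x⁻¹) ↔ (1 = g) := by
      constructor
      · intro h
        have : g = x⁻¹ * (x * g * x⁻¹) * x := by group
        rw [this, ← h]; group
      · intro h
        rw [← h]; group
    simp only [this]
  add_mem' := by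
    intro z w hz hw x hx g
    rw [MonoidAlgebra.coeff_add]
    show z.coeff (x * g * x⁻¹) + w.coeff (x * g * x⁻¹) = z.coeff g + w.coeff g
    rw [hz x hx, hw x hx]
  zero_mem' := by
    intro x _ g
    simp
  neg_mem' := by
    intro z hz x hx g
    rw [MonoidAlgebra.coeff_neg]
    show -(z.coeff (x * g * x⁻¹)) = -(z.coeff g)
    rw [hz x hx]

theorem mem_fixedSubring [Finite G] {K : Subgroup G} {z : MonoidAlgebra ℂ G} :
    z ∈ fixedSubring K ↔ ∀ x ∈ K, ∀ g : G, z.coeff (x * g * x⁻¹) = z.coeff g := Iff.rfl

theorem fixedSubring_mono [Finite G] {K L : Subgroup G} (h : K ≤ L) :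
    fixedSubring L ≤ fixedSubring K := fun _ hz x hx g => hz x (h hx) g

theorem mem_fixedSubring_top_iff [Finite G] {z : MonoidAlgebra ℂ G} :
    z ∈ fixedSubring (⊤ : Subgroup G) ↔ z ∈ Zc G := by
  rw [mem_center_iff, mem_fixedSubring]
  exact ⟨fun h x g => h x (Subgroup.mem_top x) g, fun h x _ g => h x g⟩

theorem smul_mem_fixedSubring [Finite G] {K : Subgroup G} (r : ℂ) {z : MonoidAlgebra ℂ G}
    (hz : z ∈ fixedSubring K) : r • z ∈ fixedSubring K := by
  intro x hx g
  rw [MonoidAlgebra.coeff_smul]
  show r • z.coeff (x * g * x⁻¹) = r • z.coeff g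
  rw [hz x hx]

omit [Group G] in
theorem smul_mem_supportSubring {G : Type u} [Group G] {H : Subgroup G} (r : ℂ)
    {z : MonoidAlgebra ℂ G} (hz : z ∈ supportSubring H) : r • z ∈ supportSubring H := by
  intro g hg
  rw [MonoidAlgebra.coeff_smul]
  show r • z.coeff g = 0
  rw [hz g hg, smul_zero]

/-! ### Restriction, extension, truncation -/

/-- Restriction of a group algebra element to a subgroup. -/
noncomputable def res [Finite G] (H : Subgroup G) (z : MonoidAlgebra ℂ G) : MonoidAlgebra ℂ H :=
  ofFun (fun h : H => z.coeff (h : G))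

@[simp] theorem coeff_res [Finite G] (H : Subgroup G) (z : MonoidAlgebra ℂ G) (h : H) :
    (res H z).coeff h = z.coeff (h : G) := rfl

open Classical in
/-- Extension by zero of an element of the group algebra of a subgroup. -/
noncomputable def ext [Finite G] (H : Subgroup G) (w : MonoidAlgebra ℂ H) : MonoidAlgebra ℂ G :=
  ofFun (fun g : G => if h : g ∈ H then w.coeff ⟨g, h⟩ else 0)

open Classical in
theorem coeff_ext [Finite G] (H : Subgroup G) (w : MonoidAlgebra ℂ H) (g : G) :
    (ext H w).coeff g = if h : g ∈ H then w.coeff ⟨g, h⟩ else 0 := rfl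

theorem coeff_ext_of_mem [Finite G] (H : Subgroup G) (w : MonoidAlgebra ℂ H) (h : H) :
    (ext H w).coeff (h : G) = w.coeff h := by
  classical
  rw [coeff_ext, dif_pos h.2]

theorem coeff_ext_of_not_mem [Finite G] (H : Subgroup G) (w : MonoidAlgebra ℂ H) {g : G}
    (hg : g ∉ H) : (ext H w).coeff g = 0 := by
  classical
  rw [coeff_ext, dif_neg hg]

open Classical in
/-- Truncation of a group algebra element to a subgroup. -/
noncomputable def trunc [Finite G] (K : Subgroup G) (z : MonoidAlgebra ℂ G) : MonoidAlgebra ℂ G :=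
  ofFun (fun g : G => if g ∈ K then z.coeff g else 0)

open Classical in
theorem coeff_trunc [Finite G] (K : Subgroup G) (z : MonoidAlgebra ℂ G) (g : G) :
    (trunc K z).coeff g = if g ∈ K then z.coeff g else 0 := rfl

theorem coeff_trunc_of_mem [Finite G] (K : Subgroup G) (z : MonoidAlgebra ℂ G) {g : G}
    (hg : g ∈ K) : (trunc K z).coeff g = z.coeff g := by
  classical
  rw [coeff_trunc, if_pos hg]

theorem coeff_trunc_of_not_mem [Finite G] (K : Subgroup G) (z : MonoidAlgebra ℂ G) {g : G}
    (hg : g ∉ K) : (trunc K z).coeff g = 0 := by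
  classical
  rw [coeff_trunc, if_neg hg]

theorem res_ext [Finite G] (H : Subgroup G) (w : MonoidAlgebra ℂ H) : res H (ext H w) = w := by
  ext h
  rw [coeff_res, coeff_ext_of_mem]

theorem ext_res [Finite G] (H : Subgroup G) (z : MonoidAlgebra ℂ G) :
    ext H (res H z) = trunc H z := by
  classical
  ext g
  rw [coeff_ext, coeff_trunc]
  split_ifs <;> rfl

theorem trunc_mem_supportSubring [Finite G] (K : Subgroup G) (z : MonoidAlgebra ℂ G) :
    trunc K z ∈ supportSubring K := fun _ hg => coeff_trunc_of_not_mem K z hg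

theorem ext_mem_supportSubring [Finite G] (H : Subgroup G) (w : MonoidAlgebra ℂ H) :
    ext H w ∈ supportSubring H := fun _ hg => coeff_ext_of_not_mem H w hg

theorem trunc_eq_self [Finite G] {K : Subgroup G} {z : MonoidAlgebra ℂ G}
    (hz : z ∈ supportSubring K) : trunc K z = z := by
  classical
  ext g
  rw [coeff_trunc]
  split_ifs with h
  · rfl
  · exact (hz g h).symm

theorem res_trunc [Finite G] {C K : Subgroup G} (hCK : C ≤ K) (z : MonoidAlgebra ℂ G) :
    res C (trunc K z) = res C z := by
  ext c
  rw [coeff_res, coeff_res, coeff_trunc_of_mem K z (hCK c.2)]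

theorem res_add [Finite G] (H : Subgroup G) (z w : MonoidAlgebra ℂ G) :
    res H (z + w) = res H z + res H w := by
  ext h; simp

theorem res_sub [Finite G] (H : Subgroup G) (z w : MonoidAlgebra ℂ G) :
    res H (z - w) = res H z - res H w := by
  ext h; simp

theorem res_smul [Finite G] (H : Subgroup G) (r : ℂ) (z : MonoidAlgebra ℂ G) :
    res H (r • z) = r • res H z := by
  ext h; simp

theorem res_zero [Finite G] (H : Subgroup G) : res H (0 : MonoidAlgebra ℂ G) = 0 := by
  ext h; simp

theorem res_one [Finite G] (H : Subgroup G) : res H (1 : MonoidAlgebra ℂ G) = 1 := by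
  classical
  ext h
  rw [coeff_res, MonoidAlgebra.one_def, MonoidAlgebra.one_def, MonoidAlgebra.coeff_single,
    MonoidAlgebra.coeff_single, Finsupp.single_apply, Finsupp.single_apply]
  by_cases h1 : (1 : H) = h
  · subst h1
    simp
  · have : ¬ (1 : G) = (h : G) := fun hh => h1 (Subtype.ext hh)
    simp [h1, this]

theorem res_sum [Finite G] (H : Subgroup G) {ι : Type*} (s : Finset ι)
    (f : ι → MonoidAlgebra ℂ G) : res H (∑ i ∈ s, f i) = ∑ i ∈ s, res H (f i) := by
  classical
  induction s using Finset.induction_on with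
  | empty => simp [res_zero]
  | insert a s ha ih => rw [Finset.sum_insert ha, Finset.sum_insert ha, res_add, ih]

/-- Restriction to `H` is multiplicative when the right factor is supported on `H`. -/
theorem res_mul [Finite G] (H : Subgroup G) (z w : MonoidAlgebra ℂ G)
    (hw : w ∈ supportSubring H) : res H (z * w) = res H z * res H w := by
  classical
  cases nonempty_fintype G
  ext h
  rw [coeff_res, coeff_mul', coeff_mul']
  have h1 : ∑ k : G, z.coeff ((h : G) * k⁻¹) * w.coeff k =
      ∑ k ∈ Finset.univ.filter (fun k : G => k ∈ H), z.coeff ((h : G) * k⁻¹) * w.coeff k := by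
    symm
    apply Finset.sum_subset (Finset.filter_subset _ _)
    intro k _ hk
    have hk' : k ∉ H := fun hh => hk (Finset.mem_filter.mpr ⟨Finset.mem_univ _, hh⟩)
    rw [hw k hk', mul_zero]
  rw [h1]
  symm
  apply Finset.sum_bij (fun (k : H) _ => (k : G))
  · intro k _
    exact Finset.mem_filter.mpr ⟨Finset.mem_univ _, k.2⟩
  · intro a _ b _ hab
    exact Subtype.ext hab
  · intro k hk
    exact ⟨⟨k, (Finset.mem_filter.mp hk).2⟩, Finset.mem_univ _, rfl⟩
  · intro k _
    rfl

theorem res_mem_center [Finite G] (H : Subgroup G) {z : MonoidAlgebra ℂ G}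
    (hz : z ∈ fixedSubring H) : res H z ∈ Zc H := by
  rw [mem_center_iff]
  intro x g
  exact hz x x.2 g

theorem ext_injective_of_res [Finite G] {H : Subgroup G} {z w : MonoidAlgebra ℂ G}
    (hz : z ∈ supportSubring H) (hw : w ∈ supportSubring H) (h : res H z = res H w) : z = w := by
  rw [← trunc_eq_self hz, ← trunc_eq_self hw, ← ext_res, ← ext_res, h]

theorem trunc_mem_fixedSubring [Finite G] {K L : Subgroup G}
    (hLK : L ≤ Subgroup.normalizer (K : Set G)) {z : MonoidAlgebra ℂ G}
    (hz : z ∈ fixedSubring L) : trunc K z ∈ fixedSubring L := by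
  classical
  intro x hx g
  rw [coeff_trunc, coeff_trunc, hz x hx g]
  have : x * g * x⁻¹ ∈ K ↔ g ∈ K := ((Subgroup.mem_normalizer_iff.mp (hLK hx)) g).symm
  simp only [this]

theorem trunc_mem_intSubring [Finite G] {M : Ideal AlgInt} (hMp : M.IsPrime) (K : Subgroup G)
    {z : MonoidAlgebra ℂ G} (hz : z ∈ intSubring M hMp) : trunc K z ∈ intSubring M hMp := by
  classical
  intro g
  rw [coeff_trunc]
  split_ifs
  · exact hz g
  · exact memLocalRing_zero hMp

end Cfsg.Agent.Lib.Helper77.BPBasic
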