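import Mathlib
import Cfsg.Prelude.Def_BrauerPairs
import Cfsg.Agent.Lib.Helper77.BPBasic
import Cfsg.Agent.Lib.Helper16.Brauer

/-!
# Brauer pairs: the Brauer map is multiplicative modulo the local ideal

Truncation to the centralizer of a `p`-subgroup `P` is multiplicative modulo the local ideal on
integral elements fixed by `P`.  Consequently the central characters of `C_G(P)` composed with the
truncation agree, modulo the local ideal, with central characters of the ambient group.
-/

set_option autoImplicit false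

namespace Cfsg.Agent.Lib.Helper77.BPBrauer

open Cfsg Cfsg.Agent.Lib.Helper77.LocalRing Cfsg.Agent.Lib.Helper77.CentralChar
  Cfsg.Agent.Lib.Helper77.ClassSum Cfsg.Agent.Lib.Helper77.BlockIdem
  Cfsg.Agent.Lib.Helper77.OsimaVanish Cfsg.Agent.Lib.Helper77.IdemIn
  Cfsg.Agent.Lib.Helper77.BPBasic Cfsg.Agent.Lib.CT.Wedderburn

universe u
variable {G : Type u} [Group G] {M : Ideal AlgInt}

/-! ### Central characters of a subgroup on the big group algebra -/

/-- The central character of a function on the subgroup `H` at the restriction to `H`. -/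
noncomputable def om [Finite G] (H : Subgroup G) (ξ : H → ℂ) (z : MonoidAlgebra ℂ G) : ℂ :=
  omega ξ (res H z)

theorem om_add [Finite G] (H : Subgroup G) (ξ : H → ℂ) (z w : MonoidAlgebra ℂ G) :
    om H ξ (z + w) = om H ξ z + om H ξ w := by
  unfold om
  rw [res_add, omega_add]

theorem om_sub [Finite G] (H : Subgroup G) (ξ : H → ℂ) (z w : MonoidAlgebra ℂ G) :
    om H ξ (z - w) = om H ξ z - om H ξ w := by
  unfold om
  rw [res_sub, omega_sub]

theorem om_smul [Finite G] (H : Subgroup G) (ξ : H → ℂ) (r : ℂ) (z : MonoidAlgebra ℂ G) :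
    om H ξ (r • z) = r * om H ξ z := by
  unfold om
  rw [res_smul, omega_smul]

theorem om_zero [Finite G] (H : Subgroup G) (ξ : H → ℂ) : om H ξ 0 = 0 := by
  unfold om
  rw [res_zero, omega_zero]

theorem om_one [Finite G] (H : Subgroup G) {ξ : H → ℂ} (hξ : IsIrrCharacter H ξ) :
    om H ξ 1 = 1 := by
  unfold om
  rw [res_one, omega_one_irr hξ]

theorem om_sum [Finite G] (H : Subgroup G) (ξ : H → ℂ) {ι : Type*} (s : Finset ι)
    (f : ι → MonoidAlgebra ℂ G) : om H ξ (∑ i ∈ s, f i) = ∑ i ∈ s, om H ξ (f i) := by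
  unfold om
  rw [res_sum, omega_sum]

theorem om_sub_smul_one [Finite G] (H : Subgroup G) {ξ : H → ℂ} (hξ : IsIrrCharacter H ξ)
    (z : MonoidAlgebra ℂ G) (r : ℂ) : om H ξ (z - r • 1) = om H ξ z - r := by
  rw [om_sub, om_smul, om_one H hξ, mul_one]

theorem om_mul [Finite G] (H : Subgroup G) {ξ : H → ℂ} (hξ : IsIrrCharacter H ξ)
    (z w : MonoidAlgebra ℂ G) (hz : z ∈ fixedSubring H) (hw : w ∈ supportSubring H) :
    om H ξ (z * w) = om H ξ z * om H ξ w := by
  unfold om
  rw [res_mul H z w hw, omega_mul hξ _ _ (res_mem_center H hz)]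

theorem om_memLocalRing [Finite G] (hMp : M.IsPrime) (H : Subgroup G) {ξ : H → ℂ}
    (hξ : IsIrrCharacter H ξ) (z : MonoidAlgebra ℂ G) (hz : z ∈ fixedSubring H)
    (hzR : z ∈ intSubring M hMp) : MemLocalRing M (om H ξ z) :=
  Cfsg.Agent.Lib.Helper16.ZR.omega_memLocalRing hMp hξ _ (res_mem_center H hz)
    (fun h => hzR (h : G))

theorem om_memLocalIdeal [Finite G] (hMp : M.IsPrime) (H : Subgroup G) {ξ : H → ℂ}
    (hξ : IsIrrCharacter H ξ) (z : MonoidAlgebra ℂ G) (hz : z ∈ fixedSubring H)
    (hzm : ∀ h : H, MemLocalIdeal M (z.coeff (h : G))) : MemLocalIdeal M (om H ξ z) :=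
  Cfsg.Agent.Lib.Helper16.ZR.omega_memLocalIdeal hMp hξ _ (res_mem_center H hz) hzm

theorem om_sub_mem_of_sameBlock [Finite G] (hMp : M.IsPrime) (H : Subgroup G) {ξ ξ' : H → ℂ}
    (hξ : IsIrrCharacter H ξ) (hξ' : IsIrrCharacter H ξ') (hs : SameBlock M ξ ξ')
    (z : MonoidAlgebra ℂ G) (hz : z ∈ fixedSubring H) (hzR : z ∈ intSubring M hMp) :
    MemLocalIdeal M (om H ξ z - om H ξ' z) :=
  Cfsg.Agent.Lib.Helper16.ZR.omega_sub_mem_of_sameBlock hMp hξ hξ' hs _ (res_mem_center H hz)
    (fun h => hzR (h : G))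

theorem om_trunc [Finite G] {C K : Subgroup G} (hCK : C ≤ K) (ξ : C → ℂ)
    (z : MonoidAlgebra ℂ G) : om C ξ (trunc K z) = om C ξ z := by
  unfold om
  rw [res_trunc hCK]

open Classical in
theorem om_ext_blockIdem [Finite G] (H : Subgroup G) (f : Set (IrrCharacter H))
    (ζ : IrrCharacter H) :
    om H (ζ : H → ℂ) (ext H (blockIdem f)) = if ζ ∈ f then 1 else 0 := by
  unfold om
  rw [res_ext, omega_blockIdem]

/-- The Brauer-map central character of the Prelude, in group algebra terms. -/
theorem brauerOmega_eq [Finite G] (P : Subgroup G) (β : G → ℂ)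
    (ξ : Subgroup.centralizer (P : Set G) → ℂ) :
    brauerOmega P β ξ = om (Subgroup.centralizer (P : Set G)) ξ (ofFun β) := by
  cases nonempty_fintype G
  have : Fintype (Subgroup.centralizer (P : Set G)) := Fintype.ofFinite _
  unfold brauerOmega om omega
  rw [finsum_eq_sum_of_fintype, pair_eq_sum, Finset.sum_div]
  rfl

/-! ### Multiplicativity of the truncation modulo the local ideal -/

/-- The Brauer map is multiplicative modulo the local ideal on integral `P`-fixed elements. -/
theorem coeff_mul_sub_trunc [Finite G] {p : ℕ} [Fact p.Prime] (hM : IsPModular p M)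
    (P : Subgroup G) (hP : IsPGroup p P) (z w : MonoidAlgebra ℂ G)
    (hz : z ∈ fixedSubring P) (hw : w ∈ fixedSubring P)
    (hzR : z ∈ intSubring M (isPrime_of_isPModular hM))
    (hwR : w ∈ intSubring M (isPrime_of_isPModular hM)) (c : G)
    (hc : c ∈ Subgroup.centralizer (P : Set G)) :
    MemLocalIdeal M ((z * w).coeff c -
      (trunc (Subgroup.centralizer (P : Set G)) z *
        trunc (Subgroup.centralizer (P : Set G)) w).coeff c) := by
  classical
  have hMp := isPrime_of_isPModular hM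
  cases nonempty_fintype G
  set C := Subgroup.centralizer (P : Set G) with hC
  rw [coeff_mul', coeff_mul', ← Finset.sum_sub_distrib]
  have h1 : ∀ k : G, z.coeff (c * k⁻¹) * w.coeff k -
      (trunc C z).coeff (c * k⁻¹) * (trunc C w).coeff k =
      if k ∉ C then z.coeff (c * k⁻¹) * w.coeff k else 0 := by
    intro k
    by_cases hk : k ∈ C
    · rw [if_neg (not_not.mpr hk), coeff_trunc_of_mem C w hk,
        coeff_trunc_of_mem C z (C.mul_mem hc (C.inv_mem hk)), sub_self]
    · rw [if_pos hk, coeff_trunc_of_not_mem C w hk, mul_zero, sub_zero]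
  simp only [h1]
  rw [← Finset.sum_filter]
  apply Cfsg.Agent.Lib.Helper16.ZR.sum_mem_of_invariant p hM P hP
  · intro x hx u hu
    rw [Finset.mem_filter] at hx ⊢
    refine ⟨Finset.mem_univ _, fun h => hx.2 ?_⟩
    exact (Cfsg.Agent.Lib.Helper16.Brauer.conj_mem_centralizer_iff P hu).mp h
  · intro x hx
    have hx' : x ∉ C := (Finset.mem_filter.mp hx).2
    rw [hC, Subgroup.mem_centralizer_iff] at hx'
    push Not at hx'
    obtain ⟨u, hu, hne⟩ := hx'
    refine ⟨u, hu, fun h => hne ?_⟩
    calc u * x = u * x * u⁻¹ * u := by group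
      _ = x * u := by rw [h]
  · intro x _ u hu
    have hcu : u * c = c * u := (Subgroup.mem_centralizer_iff.mp hc) u hu
    have e1 : c * (u * x * u⁻¹)⁻¹ = u * (c * x⁻¹) * u⁻¹ := by
      calc c * (u * x * u⁻¹)⁻¹ = (c * u) * x⁻¹ * u⁻¹ := by group
        _ = (u * c) * x⁻¹ * u⁻¹ := by rw [hcu]
        _ = u * (c * x⁻¹) * u⁻¹ := by group
    rw [e1, hz u hu, hw u hu]
  · intro x _
    exact memLocalRing_mul hMp (hzR _) (hwR _)

/-- The central characters of `C_G(P)` composed with truncation are multiplicative modulo the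
local ideal on integral elements fixed by `P` and by `C_G(P)`. -/
theorem om_mul_sub [Finite G] {p : ℕ} [Fact p.Prime] (hM : IsPModular p M)
    (P : Subgroup G) (hP : IsPGroup p P) {ξ : Subgroup.centralizer (P : Set G) → ℂ}
    (hξ : IsIrrCharacter (Subgroup.centralizer (P : Set G)) ξ) (z w : MonoidAlgebra ℂ G)
    (hz : z ∈ fixedSubring P) (hw : w ∈ fixedSubring P)
    (hzC : z ∈ fixedSubring (Subgroup.centralizer (P : Set G)))
    (hwC : w ∈ fixedSubring (Subgroup.centralizer (P : Set G)))
    (hzR : z ∈ intSubring M (isPrime_of_isPModular hM))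
    (hwR : w ∈ intSubring M (isPrime_of_isPModular hM)) :
    MemLocalIdeal M (om (Subgroup.centralizer (P : Set G)) ξ (z * w) -
      om (Subgroup.centralizer (P : Set G)) ξ z * om (Subgroup.centralizer (P : Set G)) ξ w) := by
  have hMp := isPrime_of_isPModular hM
  set C := Subgroup.centralizer (P : Set G) with hC
  have hzc : res C z ∈ Zc C := res_mem_center C hzC
  have hwc : res C w ∈ Zc C := res_mem_center C hwC
  have hzwc : res C (z * w) ∈ Zc C := res_mem_center C (Subring.mul_mem _ hzC hwC)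
  unfold om
  rw [← omega_mul hξ _ _ hzc, ← omega_sub]
  apply Cfsg.Agent.Lib.Helper16.ZR.omega_memLocalIdeal hMp hξ _
    (Subalgebra.sub_mem _ hzwc (Subalgebra.mul_mem _ hzc hwc))
  intro c
  have e1 : res C z * res C w = res C (trunc C z * trunc C w) := by
    rw [res_mul C _ _ (trunc_mem_supportSubring C w), res_trunc le_rfl, res_trunc le_rfl]
  rw [e1, MonoidAlgebra.coeff_sub]
  show MemLocalIdeal M ((res C (z * w)).coeff c - (res C (trunc C z * trunc C w)).coeff c)
  rw [coeff_res, coeff_res]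
  exact coeff_mul_sub_trunc hM P hP z w hz hw hzR hwR c c.2

/-! ### Multiplicative functionals -/

/-- A functional that is multiplicative modulo the local ideal on a subring agrees modulo the
local ideal with one of finitely many separating ring homomorphisms. -/
theorem exists_of_multiplicative {𝒜 : Type*} [Ring 𝒜] [Module ℂ 𝒜] (hMp : M.IsPrime)
    (𝒮 : Subring 𝒜) (hsmul : ∀ r : ℂ, MemLocalRing M r → ∀ z ∈ 𝒮, r • z ∈ 𝒮)
    {ι : Type*} [Finite ι] (ω : ι → 𝒜 → ℂ)
    (hω1 : ∀ i z r, ω i (z - r • (1 : 𝒜)) = ω i z - r)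
    (hωmul : ∀ i, ∀ z ∈ 𝒮, ∀ w ∈ 𝒮, ω i (z * w) = ω i z * ω i w)
    (hωR : ∀ i, ∀ z ∈ 𝒮, MemLocalRing M (ω i z))
    (hsep : ∀ z ∈ 𝒮, (∀ i, ω i z = 0) → z = 0)
    (lam : 𝒜 → ℂ) (hlam0 : lam 0 = 0) (hlam_one : lam 1 = 1)
    (hlam1 : ∀ z r, lam (z - r • (1 : 𝒜)) = lam z - r)
    (hlamR : ∀ z ∈ 𝒮, MemLocalRing M (lam z))
    (hlammul : ∀ z ∈ 𝒮, ∀ w ∈ 𝒮, MemLocalIdeal M (lam (z * w) - lam z * lam w)) :
    ∃ i : ι, ∀ z ∈ 𝒮, MemLocalIdeal M (lam z - ω i z) := by
  classical
  have := Fintype.ofFinite ι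
  by_contra hcon
  push Not at hcon
  choose z hz hzn using hcon
  set t : ι → 𝒜 := fun i => z i - ω i (z i) • (1 : 𝒜) with ht
  have htS : ∀ i, t i ∈ 𝒮 := fun i =>
    Subring.sub_mem _ (hz i) (hsmul _ (hωR i _ (hz i)) _ (Subring.one_mem _))
  have htω : ∀ i, ω i (t i) = 0 := by
    intro i
    rw [ht, hω1, sub_self]
  have htl : ∀ i, lam (t i) = lam (z i) - ω i (z i) := by
    intro i
    rw [ht, hlam1]
  have key : ∀ s : Finset ι, ∃ y ∈ 𝒮, (∀ j ∈ s, ω j y = 0) ∧ ¬ MemLocalIdeal M (lam y) := by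
    intro s
    induction s using Finset.induction_on with
    | empty =>
      refine ⟨1, Subring.one_mem _, fun j hj => absurd hj (Finset.notMem_empty j), ?_⟩
      rw [hlam_one]
      exact not_memLocalIdeal_one hMp
    | insert a s ha ih =>
      obtain ⟨y, hy, hyω, hyl⟩ := ih
      refine ⟨t a * y, Subring.mul_mem _ (htS a) hy, ?_, ?_⟩
      · intro j hj
        rw [hωmul j _ (htS a) _ hy]
        rcases Finset.mem_insert.mp hj with rfl | hjs
        · rw [htω, zero_mul]
        · rw [hyω j hjs, mul_zero]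
      · intro hmem
        have h1 := hlammul _ (htS a) _ hy
        have h2 : MemLocalIdeal M (lam (t a) * lam y) := by
          have := memLocalIdeal_sub hMp hmem h1
          rwa [sub_sub_cancel] at this
        rcases memLocalIdeal_or_of_mul hMp (hlamR _ (htS a)) h2 with h | h
        · rw [htl] at h
          exact hzn a h
        · exact hyl h
  obtain ⟨y, hy, hyω, hyl⟩ := key Finset.univ
  have hy0 : y = 0 := hsep y hy fun i => hyω i (Finset.mem_univ i)
  rw [hy0, hlam0] at hyl
  exact hyl (memLocalIdeal_zero hMp)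

/-! ### The subring of integral elements of the centre of a subgroup fixed by `P` -/

/-- Integral elements supported on `H`, fixed by `H` and by `P`. -/
noncomputable def pairSubring [Finite G] (hMp : M.IsPrime) (H P : Subgroup G) :
    Subring (MonoidAlgebra ℂ G) :=
  supportSubring H ⊓ fixedSubring H ⊓ fixedSubring P ⊓ intSubring M hMp

theorem mem_pairSubring [Finite G] (hMp : M.IsPrime) {H P : Subgroup G}
    {z : MonoidAlgebra ℂ G} : z ∈ pairSubring hMp H P ↔
      z ∈ supportSubring H ∧ z ∈ fixedSubring H ∧ z ∈ fixedSubring P ∧ z ∈ intSubring M hMp := by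
  unfold pairSubring
  simp only [Subring.mem_inf, and_assoc]

theorem smul_mem_pairSubring [Finite G] (hMp : M.IsPrime) {H P : Subgroup G} {r : ℂ}
    (hr : MemLocalRing M r) {z : MonoidAlgebra ℂ G} (hz : z ∈ pairSubring hMp H P) :
    r • z ∈ pairSubring hMp H P := by
  rw [mem_pairSubring] at hz ⊢
  exact ⟨smul_mem_supportSubring r hz.1, smul_mem_fixedSubring r hz.2.1,
    smul_mem_fixedSubring r hz.2.2.1, smul_mem_intSubring M hMp hr hz.2.2.2⟩

/-- **Key lemma**, subgroup form: the central characters of `C_G(P)` composed with truncation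
agree modulo the local ideal with a central character of `H ⊇ C_G(P)` on the integral central
elements of the group algebra of `H` fixed by `P`. -/
theorem exists_irr_sub [Finite G] {p : ℕ} [Fact p.Prime] (hM : IsPModular p M)
    (H P : Subgroup G) (hP : IsPGroup p P) (hCH : Subgroup.centralizer (P : Set G) ≤ H)
    (ξ : IrrCharacter (Subgroup.centralizer (P : Set G))) :
    ∃ ζ₀ : IrrCharacter H, ∀ z ∈ pairSubring (isPrime_of_isPModular hM) H P,
      MemLocalIdeal M (om (Subgroup.centralizer (P : Set G))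
        (ξ : Subgroup.centralizer (P : Set G) → ℂ) z - om H (ζ₀ : H → ℂ) z) := by
  have hMp := isPrime_of_isPModular hM
  have := finite_irrCharacter H
  refine exists_of_multiplicative hMp (pairSubring hMp H P)
    (fun r hr z hz => smul_mem_pairSubring hMp hr hz)
    (fun (ζ : IrrCharacter H) z => om H (ζ : H → ℂ) z)
    (fun ζ z r => om_sub_smul_one H ζ.2 z r)
    (fun ζ z hz w hw => om_mul H ζ.2 z w ((mem_pairSubring hMp).mp hz).2.1
      ((mem_pairSubring hMp).mp hw).1)
    (fun ζ z hz => om_memLocalRing hMp H ζ.2 z ((mem_pairSubring hMp).mp hz).2.1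
      ((mem_pairSubring hMp).mp hz).2.2.2)
    ?_ (fun z => om (Subgroup.centralizer (P : Set G)) (ξ : Subgroup.centralizer (P : Set G) → ℂ) z)
      (om_zero _ _) (om_one _ ξ.2)
    (fun z r => om_sub_smul_one _ ξ.2 z r)
    (fun z hz => om_memLocalRing hMp _ ξ.2 z
      (fixedSubring_mono hCH ((mem_pairSubring hMp).mp hz).2.1)
      ((mem_pairSubring hMp).mp hz).2.2.2)
    (fun z hz w hw => om_mul_sub hM P hP ξ.2 z w ((mem_pairSubring hMp).mp hz).2.2.1
      ((mem_pairSubring hMp).mp hw).2.2.1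
      (fixedSubring_mono hCH ((mem_pairSubring hMp).mp hz).2.1)
      (fixedSubring_mono hCH ((mem_pairSubring hMp).mp hw).2.1)
      ((mem_pairSubring hMp).mp hz).2.2.2 ((mem_pairSubring hMp).mp hw).2.2.2)
  intro z hz h0
  rw [mem_pairSubring] at hz
  apply ext_injective_of_res hz.1 (Subring.zero_mem _)
  rw [res_zero]
  apply eq_of_omega_eq _ _ (res_mem_center H hz.2.1) (Subalgebra.zero_mem _)
  intro ζ
  rw [omega_zero]
  exact h0 ζ

/-- **Key lemma**, global form: the central characters of `C_G(P)` composed with truncation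
agree modulo the local ideal with a central character of `G` on integral central elements. -/
theorem exists_irr_top [Finite G] {p : ℕ} [Fact p.Prime] (hM : IsPModular p M)
    (P : Subgroup G) (hP : IsPGroup p P)
    (ξ : IrrCharacter (Subgroup.centralizer (P : Set G))) :
    ∃ χ₀ : IrrCharacter G, ∀ z ∈ fixedSubring (⊤ : Subgroup G) ⊓
        intSubring M (isPrime_of_isPModular hM),
      MemLocalIdeal M (om (Subgroup.centralizer (P : Set G))
        (ξ : Subgroup.centralizer (P : Set G) → ℂ) z - omega (χ₀ : G → ℂ) z) := by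
  have hMp := isPrime_of_isPModular hM
  have := finite_irrCharacter G
  have hcen : ∀ z ∈ fixedSubring (⊤ : Subgroup G) ⊓ intSubring M hMp, z ∈ Zc G :=
    fun z hz => mem_fixedSubring_top_iff.mp (Subring.mem_inf.mp hz).1
  refine exists_of_multiplicative hMp (fixedSubring (⊤ : Subgroup G) ⊓ intSubring M hMp)
    (fun r hr z hz => Subring.mem_inf.mpr ⟨smul_mem_fixedSubring r (Subring.mem_inf.mp hz).1,
      smul_mem_intSubring M hMp hr (Subring.mem_inf.mp hz).2⟩)
    (fun (χ : IrrCharacter G) z => omega (χ : G → ℂ) z)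
    (fun χ z r => by rw [omega_sub, omega_smul, omega_one_irr χ.2, mul_one])
    (fun χ z hz w _ => omega_mul χ.2 z w (hcen z hz))
    (fun χ z hz => Cfsg.Agent.Lib.Helper16.ZR.omega_memLocalRing hMp χ.2 z (hcen z hz)
      (Subring.mem_inf.mp hz).2)
    ?_ (fun z => om (Subgroup.centralizer (P : Set G)) (ξ : Subgroup.centralizer (P : Set G) → ℂ) z)
      (om_zero _ _) (om_one _ ξ.2)
    (fun z r => om_sub_smul_one _ ξ.2 z r)
    (fun z hz => om_memLocalRing hMp _ ξ.2 z
      (fixedSubring_mono le_top (Subring.mem_inf.mp hz).1) (Subring.mem_inf.mp hz).2)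
    (fun z hz w hw => om_mul_sub hM P hP ξ.2 z w
      (fixedSubring_mono le_top (Subring.mem_inf.mp hz).1)
      (fixedSubring_mono le_top (Subring.mem_inf.mp hw).1)
      (fixedSubring_mono le_top (Subring.mem_inf.mp hz).1)
      (fixedSubring_mono le_top (Subring.mem_inf.mp hw).1)
      (Subring.mem_inf.mp hz).2 (Subring.mem_inf.mp hw).2)
  intro z hz h0
  apply eq_of_omega_eq _ _ (hcen z hz) (Subalgebra.zero_mem _)
  intro χ
  rw [omega_zero]
  exact h0 χ

end Cfsg.Agent.Lib.Helper77.BPBrauer
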