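import Mathlib
import Cfsg.Prelude.Def_BrauerPairs
import Cfsg.Agent.Lib.Helper77.BPBrauer
import Cfsg.Agent.Lib.CT.Ops

/-!
# Transport of blocks along group isomorphisms, conjugate blocks
-/

set_option autoImplicit false

namespace Cfsg.Agent.Lib.Helper77.BPTransport

open Cfsg Cfsg.Agent.Lib.Helper77.LocalRing Cfsg.Agent.Lib.Helper77.CentralChar
  Cfsg.Agent.Lib.Helper77.ClassSum Cfsg.Agent.Lib.Helper77.BlockIdem
  Cfsg.Agent.Lib.Helper77.OsimaVanish Cfsg.Agent.Lib.Helper77.IdemIn
  Cfsg.Agent.Lib.Helper77.BPBasic Cfsg.Agent.Lib.Helper77.BPBrauer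
  Cfsg.Agent.Lib.CT.Wedderburn Cfsg.Agent.Lib.Helper16.ZR
open scoped ComplexConjugate

universe u v

section General

variable {H : Type u} {K : Type v} [Group H] [Group K] {M : Ideal AlgInt}

/-- Pull back an irreducible character along a group isomorphism. -/
def pull (φ : H ≃* K) (χ : IrrCharacter K) : IrrCharacter H :=
  ⟨fun x => (χ : K → ℂ) (φ x), Cfsg.Agent.Lib.CT.Ops.isIrrCharacter_comp_mulEquiv φ χ.2⟩

theorem pull_apply (φ : H ≃* K) (χ : IrrCharacter K) (x : H) :
    (pull φ χ : H → ℂ) x = (χ : K → ℂ) (φ x) := rfl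

theorem pull_symm_pull (φ : H ≃* K) (χ : IrrCharacter K) : pull φ.symm (pull φ χ) = χ := by
  apply Subtype.ext
  funext x
  rw [pull_apply, pull_apply, MulEquiv.apply_symm_apply]

theorem pull_pull_symm (φ : H ≃* K) (χ : IrrCharacter H) : pull φ (pull φ.symm χ) = χ := by
  apply Subtype.ext
  funext x
  rw [pull_apply, pull_apply, MulEquiv.symm_apply_apply]

theorem pull_injective (φ : H ≃* K) : Function.Injective (pull φ) := by
  intro a b h
  rw [← pull_symm_pull φ a, ← pull_symm_pull φ b, h]

theorem index_centralizer_map (φ : H ≃* K) (h : H) :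
    (Subgroup.centralizer ({φ h} : Set K)).index = (Subgroup.centralizer ({h} : Set H)).index := by
  have : Subgroup.centralizer ({φ h} : Set K) =
      (Subgroup.centralizer ({h} : Set H)).map (φ : H →* K) := by
    ext k
    rw [Subgroup.mem_map, Subgroup.mem_centralizer_iff]
    constructor
    · intro hk
      refine ⟨φ.symm k, ?_, by simp⟩
      rw [Subgroup.mem_centralizer_iff]
      intro y hy
      rw [Set.mem_singleton_iff] at hy
      subst hy
      have := hk (φ y) (Set.mem_singleton _)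
      apply φ.injective
      rw [map_mul, map_mul, MulEquiv.apply_symm_apply]
      exact this
    · rintro ⟨y, hy, rfl⟩ z hz
      rw [Set.mem_singleton_iff] at hz
      subst hz
      rw [Subgroup.mem_centralizer_iff] at hy
      have := hy h (Set.mem_singleton _)
      show φ h * φ y = φ y * φ h
      rw [← map_mul, ← map_mul, this]
  rw [this, Subgroup.index_map_equiv]

theorem centralChar_pull (φ : H ≃* K) (χ : K → ℂ) (h : H) :
    centralChar (fun x => χ (φ x)) h = centralChar χ (φ h) := by
  unfold centralChar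
  rw [index_centralizer_map]
  show _ * χ (φ h) / χ (φ 1) = _
  rw [map_one]

theorem sameBlock_pull_iff (φ : H ≃* K) (χ ψ : K → ℂ) :
    SameBlock M (fun x => χ (φ x)) (fun x => ψ (φ x)) ↔ SameBlock M χ ψ := by
  constructor
  · intro h k
    have := h (φ.symm k)
    rwa [centralChar_pull, centralChar_pull, MulEquiv.apply_symm_apply] at this
  · intro h x
    rw [centralChar_pull, centralChar_pull]
    exact h (φ x)

theorem blockOf_pull (φ : H ≃* K) (χ : IrrCharacter K) :
    blockOf M (pull φ χ : H → ℂ) = pull φ '' blockOf M (χ : K → ℂ) := by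
  ext ψ
  constructor
  · intro hψ
    refine ⟨pull φ.symm ψ, ?_, pull_pull_symm φ ψ⟩
    have h1 : SameBlock M (fun x => (χ : K → ℂ) (φ x))
        (fun x => (pull φ.symm ψ : K → ℂ) (φ x)) := by
      have h2 : (fun x => (pull φ.symm ψ : K → ℂ) (φ x)) = (ψ : H → ℂ) := by
        funext x
        rw [pull_apply, MulEquiv.symm_apply_apply]
      rw [h2]
      exact hψ
    exact (sameBlock_pull_iff φ _ _).mp h1
  · rintro ⟨ψ', hψ', rfl⟩
    exact (sameBlock_pull_iff φ _ _).mpr hψ'

theorem isPBlock_pull (φ : H ≃* K) {f : Set (IrrCharacter K)} (hf : IsPBlock M f) :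
    IsPBlock M (pull φ '' f) := by
  obtain ⟨χ, rfl⟩ := hf
  exact ⟨pull φ χ, (blockOf_pull φ χ).symm⟩

theorem blockCoeff_pull (φ : H ≃* K) (f : Set (IrrCharacter K)) (h : H) :
    blockCoeff (pull φ '' f) h = blockCoeff f (φ h) := by
  unfold blockCoeff
  rw [finsum_mem_image (fun a _ b _ hab => pull_injective φ hab), Nat.card_congr φ.toEquiv]
  congr 1
  refine finsum_mem_congr rfl fun χ _ => ?_
  rw [pull_apply, pull_apply, map_one]

theorem mem_pull_image_iff (φ : H ≃* K) (f : Set (IrrCharacter K)) (ψ : IrrCharacter H) :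
    ψ ∈ pull φ '' f ↔ pull φ.symm ψ ∈ f := by
  constructor
  · rintro ⟨χ, hχ, rfl⟩
    rwa [pull_symm_pull]
  · intro h
    exact ⟨_, h, pull_pull_symm φ ψ⟩

end General

end Cfsg.Agent.Lib.Helper77.BPTransport
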