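import Mathlib
import Cfsg.Prelude.Def_BrauerPairs
import Cfsg.Agent.Lib.Helper77.BPTransport

/-!
# Conjugation of blocks of a subgroup by elements of its normalizer
-/

set_option autoImplicit false

namespace Cfsg.Agent.Lib.Helper77.BPConj

open Cfsg Cfsg.Agent.Lib.Helper77.LocalRing Cfsg.Agent.Lib.Helper77.CentralChar
  Cfsg.Agent.Lib.Helper77.ClassSum Cfsg.Agent.Lib.Helper77.BlockIdem
  Cfsg.Agent.Lib.Helper77.OsimaVanish Cfsg.Agent.Lib.Helper77.IdemIn
  Cfsg.Agent.Lib.Helper77.BPBasic Cfsg.Agent.Lib.Helper77.BPBrauer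
  Cfsg.Agent.Lib.Helper77.BPTransport
  Cfsg.Agent.Lib.CT.Wedderburn Cfsg.Agent.Lib.Helper16.ZR

universe u
variable {G : Type u} [Group G] {M : Ideal AlgInt}

/-! ### Fixed-point-free actions of `p`-groups -/

/-- A `p`-group acting on a finite set without fixed points: `p` divides the cardinality. -/
theorem card_dvd_of_fpf {p : ℕ} [Fact p.Prime] {K : Type*} [Group K] [Finite K]
    (hK : IsPGroup p K) {X : Type*} (act : K → X → X) (h1 : ∀ s, act 1 s = s)
    (hmul : ∀ u v s, act (u * v) s = act u (act v s)) (S : Finset X)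
    (hS : ∀ u, ∀ s ∈ S, act u s ∈ S) (hfix : ∀ s ∈ S, ∃ u, act u s ≠ s) : p ∣ S.card := by
  let _ : MulAction K {x // x ∈ S} :=
    { smul := fun u x => ⟨act u x.1, hS u x.1 x.2⟩
      one_smul := fun x => Subtype.ext (h1 x.1)
      mul_smul := fun u v x => Subtype.ext (hmul u v x.1) }
  have h := hK.card_modEq_card_fixedPoints {x // x ∈ S}
  have hempty : IsEmpty (MulAction.fixedPoints K {x // x ∈ S}) := by
    constructor
    rintro ⟨x, hx⟩
    obtain ⟨u, hne⟩ := hfix x.1 x.2
    apply hne
    have := hx u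
    exact congrArg Subtype.val this
  have h2 : Nat.card (MulAction.fixedPoints K {x // x ∈ S}) = 0 := Nat.card_of_isEmpty
  rw [h2, Nat.card_eq_fintype_card, Fintype.card_coe] at h
  exact Nat.modEq_zero_iff_dvd.mp h

/-- The sum of an invariant function with values in the local ring over a stable set without
fixed points lies in the local ideal. -/
theorem sum_mem_of_fpf {p : ℕ} [Fact p.Prime] (hM : IsPModular p M) {K : Type*} [Group K]
    [Finite K] (hK : IsPGroup p K) {X : Type*} (act : K → X → X) (h1 : ∀ s, act 1 s = s)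
    (hmul : ∀ u v s, act (u * v) s = act u (act v s)) (S : Finset X)
    (hS : ∀ u, ∀ s ∈ S, act u s ∈ S) (hfix : ∀ s ∈ S, ∃ u, act u s ≠ s) (F : X → ℂ)
    (hF : ∀ u, ∀ s ∈ S, F (act u s) = F s) (hFR : ∀ s ∈ S, MemLocalRing M (F s)) :
    MemLocalIdeal M (∑ s ∈ S, F s) := by
  classical
  have hMp : M.IsPrime := isPrime_of_isPModular hM
  rw [← Finset.sum_fiberwise_of_maps_to (g := F) (t := S.image F)
    (fun x hx => Finset.mem_image_of_mem F hx)]
  apply memLocalIdeal_sum hMp
  intro a ha
  rw [Finset.sum_congr rfl (fun x hx => (Finset.mem_filter.mp hx).2), Finset.sum_const]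
  obtain ⟨k, hk⟩ := card_dvd_of_fpf hK act h1 hmul (S.filter (fun x => F x = a))
    (by
      intro u x hx
      rw [Finset.mem_filter] at hx ⊢
      exact ⟨hS u x hx.1, by rw [hF u x hx.1]; exact hx.2⟩)
    (by
      intro x hx
      exact hfix x (Finset.mem_filter.mp hx).1)
  obtain ⟨x0, hx0, rfl⟩ := Finset.mem_image.mp ha
  rw [hk, nsmul_eq_mul, Nat.cast_mul, mul_assoc]
  exact memLocalIdeal_mul_right hMp ((memLocalIdeal_natCast_iff hM p).mpr dvd_rfl)
    (memLocalRing_mul hMp (memLocalRing_natCast hMp k) (hFR x0 hx0))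

/-! ### Conjugation by an element of the normalizer as an automorphism -/

/-- The automorphism `h ↦ x⁻¹ h x` of a subgroup `H` normalized by `x`. -/
def normConj (H : Subgroup G) (x : G) (hx : x ∈ Subgroup.normalizer (H : Set G)) : H ≃* H where
  toFun h := ⟨x⁻¹ * h * x, (Subgroup.mem_normalizer_iff.mp hx _).mpr (by
    have : x * (x⁻¹ * (h : G) * x) * x⁻¹ = h := by group
    rw [this]; exact h.2)⟩
  invFun h := ⟨x * h * x⁻¹, (Subgroup.mem_normalizer_iff.mp hx _).mp h.2⟩
  left_inv h := Subtype.ext (by show x * (x⁻¹ * (h : G) * x) * x⁻¹ = h; group)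
  right_inv h := Subtype.ext (by show x⁻¹ * (x * (h : G) * x⁻¹) * x = h; group)
  map_mul' a b := Subtype.ext (by
    show x⁻¹ * ((a : G) * (b : G)) * x = x⁻¹ * (a : G) * x * (x⁻¹ * (b : G) * x); group)

theorem coe_normConj (H : Subgroup G) (x : G) (hx : x ∈ Subgroup.normalizer (H : Set G))
    (h : H) : ((normConj H x hx h : H) : G) = x⁻¹ * h * x := rfl

theorem conj_mem_iff {H : Subgroup G} {x : G} (hx : x ∈ Subgroup.normalizer (H : Set G))
    (g : G) : x⁻¹ * g * x ∈ H ↔ g ∈ H := by
  have h := Subgroup.mem_normalizer_iff.mp hx (x⁻¹ * g * x)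
  have e : x * (x⁻¹ * g * x) * x⁻¹ = g := by group
  rw [e] at h
  exact h

/-- The conjugate of a set of irreducible characters of `H` by `x ∈ N_G(H)`. -/
def conjB (H : Subgroup G) (x : G) (hx : x ∈ Subgroup.normalizer (H : Set G))
    (f : Set (IrrCharacter H)) : Set (IrrCharacter H) :=
  pull (normConj H x hx) '' f

theorem isPBlock_conjB (H : Subgroup G) (x : G) (hx : x ∈ Subgroup.normalizer (H : Set G))
    {f : Set (IrrCharacter H)} (hf : IsPBlock M f) : IsPBlock M (conjB H x hx f) :=
  isPBlock_pull _ hf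

theorem blockCoeff_conjB (H : Subgroup G) (x : G) (hx : x ∈ Subgroup.normalizer (H : Set G))
    (f : Set (IrrCharacter H)) (k : H) :
    blockCoeff (conjB H x hx f) k = blockCoeff f (normConj H x hx k) :=
  blockCoeff_pull _ f k

/-! ### Conjugation on the group algebra -/

/-- Conjugation by `x` on the group algebra: the coefficient at `g` becomes that at
`x⁻¹ g x`. -/
noncomputable def conjA [Finite G] (x : G) (z : MonoidAlgebra ℂ G) : MonoidAlgebra ℂ G :=
  ofFun (fun g => z.coeff (x⁻¹ * g * x))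

@[simp] theorem coeff_conjA [Finite G] (x : G) (z : MonoidAlgebra ℂ G) (g : G) :
    (conjA x z).coeff g = z.coeff (x⁻¹ * g * x) := rfl

theorem conjA_one [Finite G] (z : MonoidAlgebra ℂ G) : conjA 1 z = z := by
  ext g
  rw [coeff_conjA]
  congr 1
  group

theorem conjA_mul [Finite G] (x y : G) (z : MonoidAlgebra ℂ G) :
    conjA (x * y) z = conjA x (conjA y z) := by
  ext g
  rw [coeff_conjA, coeff_conjA, coeff_conjA]
  congr 1
  group

theorem conjA_add [Finite G] (x : G) (z w : MonoidAlgebra ℂ G) :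
    conjA x (z + w) = conjA x z + conjA x w := by
  ext g
  simp

theorem conjA_zero [Finite G] (x : G) : conjA x (0 : MonoidAlgebra ℂ G) = 0 := by
  ext g
  simp

theorem conjA_sum [Finite G] (x : G) {ι : Type*} (s : Finset ι) (F : ι → MonoidAlgebra ℂ G) :
    conjA x (∑ i ∈ s, F i) = ∑ i ∈ s, conjA x (F i) := by
  classical
  induction s using Finset.induction_on with
  | empty => simp [conjA_zero]
  | insert a s ha ih => rw [Finset.sum_insert ha, Finset.sum_insert ha, conjA_add, ih]

theorem conjA_inv_cancel [Finite G] (x : G) (z : MonoidAlgebra ℂ G) :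
    conjA x⁻¹ (conjA x z) = z := by
  rw [← conjA_mul, inv_mul_cancel, conjA_one]

theorem conjA_cancel_inv [Finite G] (x : G) (z : MonoidAlgebra ℂ G) :
    conjA x (conjA x⁻¹ z) = z := by
  rw [← conjA_mul, mul_inv_cancel, conjA_one]

theorem conjA_injective [Finite G] (x : G) : Function.Injective (conjA (G := G) x) := by
  intro a b h
  rw [← conjA_inv_cancel x a, ← conjA_inv_cancel x b, h]

theorem mem_fixedSubring_iff_conjA [Finite G] {K : Subgroup G} {z : MonoidAlgebra ℂ G} :
    z ∈ fixedSubring K ↔ ∀ x ∈ K, conjA x z = z := by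
  constructor
  · intro h x hx
    ext g
    rw [coeff_conjA]
    have := h x⁻¹ (K.inv_mem hx) g
    rwa [inv_inv] at this
  · intro h x hx g
    have := congrArg (fun w : MonoidAlgebra ℂ G => w.coeff g) (h x⁻¹ (K.inv_mem hx))
    simp only [coeff_conjA, inv_inv] at this
    exact this

theorem res_conjA [Finite G] (C : Subgroup G) (x : G) (hx : ∀ c ∈ C, x⁻¹ * c * x = c)
    (z : MonoidAlgebra ℂ G) : res C (conjA x z) = res C z := by
  ext c
  rw [coeff_res, coeff_res, coeff_conjA, hx c c.2]

theorem conjA_ext_blockIdem [Finite G] (H : Subgroup G) (x : G)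
    (hx : x ∈ Subgroup.normalizer (H : Set G)) (f : Set (IrrCharacter H)) :
    conjA x (ext H (blockIdem f)) = ext H (blockIdem (conjB H x hx f)) := by
  classical
  ext g
  rw [coeff_conjA, coeff_ext, coeff_ext]
  by_cases hg : g ∈ H
  · have hg' : x⁻¹ * g * x ∈ H := (conj_mem_iff hx g).mpr hg
    rw [dif_pos hg, dif_pos hg', coeff_blockIdem, coeff_blockIdem, blockCoeff_conjB]
    rfl
  · have hg' : ¬ x⁻¹ * g * x ∈ H := fun h => hg ((conj_mem_iff hx g).mp h)
    rw [dif_neg hg, dif_neg hg']

/-! ### Stabilizers of blocks -/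

theorem isConjCharOf_iff (H : Subgroup G) (x : G) (hx : x ∈ Subgroup.normalizer (H : Set G))
    (ζ ψ : H → ℂ) : IsConjCharOf H x ζ ψ ↔ ψ = fun k => ζ (normConj H x hx k) := by
  constructor
  · intro h
    funext k'
    apply h (normConj H x hx k') k'
    rw [coe_normConj]
    group
  · rintro rfl k k' hk
    show ζ (normConj H x hx k') = ζ k
    congr 1
    apply Subtype.ext
    rw [coe_normConj, hk]
    group

theorem blockIdem_injective [Finite G] {f f' : Set (IrrCharacter G)}
    (h : blockIdem f = blockIdem f') : f = f' := by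
  classical
  ext ζ
  have h1 := omega_blockIdem f ζ
  have h2 := omega_blockIdem f' ζ
  rw [h] at h1
  rw [h1] at h2
  by_cases hf : ζ ∈ f <;> by_cases hf' : ζ ∈ f' <;> simp_all

theorem stabilizesBlock_iff [Finite G] (H : Subgroup G) (x : G)
    (hx : x ∈ Subgroup.normalizer (H : Set G)) (f : Set (IrrCharacter H)) :
    StabilizesBlock H f x ↔ conjB H x hx f = f := by
  have := finite_irrCharacter H
  constructor
  · rintro ⟨-, h⟩
    have hsub : conjB H x hx f ⊆ f := by
      rintro ψ ⟨χ, hχ, rfl⟩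
      obtain ⟨χ', hχ', hc⟩ := h χ hχ
      have : χ' = pull (normConj H x hx) χ := Subtype.ext ((isConjCharOf_iff H x hx _ _).mp hc)
      rw [← this]
      exact hχ'
    apply Set.eq_of_subset_of_ncard_le hsub _ (Set.toFinite f)
    unfold conjB
    rw [Set.ncard_image_of_injective _ (pull_injective _)]
  · intro h
    refine ⟨hx, fun χ hχ => ⟨pull (normConj H x hx) χ, ?_, ?_⟩⟩
    · rw [← h]
      exact Set.mem_image_of_mem _ hχ
    · exact (isConjCharOf_iff H x hx _ _).mpr rfl

theorem stabilizesBlock_iff_conjA [Finite G] (H : Subgroup G) (x : G)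
    (hx : x ∈ Subgroup.normalizer (H : Set G)) (f : Set (IrrCharacter H)) :
    StabilizesBlock H f x ↔ conjA x (ext H (blockIdem f)) = ext H (blockIdem f) := by
  rw [stabilizesBlock_iff H x hx, conjA_ext_blockIdem H x hx]
  constructor
  · intro h
    rw [h]
  · intro h
    apply blockIdem_injective
    have := congrArg (res H) h
    rwa [res_ext, res_ext] at this

/-- A subgroup `P ≤ N_G(H)` stabilizes `f` iff the idempotent of `f` is fixed by `P`. -/
theorem forall_stabilizes_iff [Finite G] (H P : Subgroup G)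
    (hPH : P ≤ Subgroup.normalizer (H : Set G)) (f : Set (IrrCharacter H)) :
    (∀ x ∈ P, StabilizesBlock H f x) ↔ ext H (blockIdem f) ∈ fixedSubring P := by
  rw [mem_fixedSubring_iff_conjA]
  constructor
  · intro h x hx
    exact (stabilizesBlock_iff_conjA H x (hPH hx) f).mp (h x hx)
  · intro h x hx
    exact (stabilizesBlock_iff_conjA H x (hPH hx) f).mpr (h x hx)

theorem normalizer_le_normalizer_centralizer (Q : Subgroup G) :
    Subgroup.normalizer (Q : Set G) ≤
      Subgroup.normalizer ((Subgroup.centralizer (Q : Set G) : Subgroup G) : Set G) := by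
  intro x hx
  rw [Subgroup.mem_normalizer_iff]
  have key : ∀ y : G, y ∈ Subgroup.normalizer (Q : Set G) → ∀ h : G,
      h ∈ Subgroup.centralizer (Q : Set G) → y * h * y⁻¹ ∈ Subgroup.centralizer (Q : Set G) := by
    intro y hy h hh
    rw [Subgroup.mem_centralizer_iff] at hh ⊢
    intro q hq
    have hq' : y⁻¹ * q * y ∈ Q := by
      have := (Subgroup.mem_normalizer_iff.mp hy (y⁻¹ * q * y)).mpr
      apply this
      have e : y * (y⁻¹ * q * y) * y⁻¹ = q := by group
      rw [e]; exact hq
    have := hh _ hq'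
    calc q * (y * h * y⁻¹) = y * (y⁻¹ * q * y * h) * y⁻¹ := by group
      _ = y * (h * (y⁻¹ * q * y)) * y⁻¹ := by rw [this]
      _ = y * h * y⁻¹ * q := by group
  intro h
  constructor
  · exact key x hx h
  · intro hh
    have := key x⁻¹ (Subgroup.inv_mem _ hx) _ hh
    have e : x⁻¹ * (x * h * x⁻¹) * x⁻¹⁻¹ = h := by group
    rwa [e] at this

/-- The idempotent of a block of a subgroup, as an element of the big group algebra. -/
theorem ext_blockIdem_mem [Finite G] (hMp : M.IsPrime) (H : Subgroup G)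
    (f : Set (IrrCharacter H)) (hf : IsPBlock M f) :
    ext H (blockIdem f) ∈ supportSubring H ∧ ext H (blockIdem f) ∈ fixedSubring H ∧
      ext H (blockIdem f) ∈ intSubring M hMp := by
  classical
  refine ⟨ext_mem_supportSubring H _, ?_, ?_⟩
  · intro x hx g
    rw [coeff_ext, coeff_ext]
    have hiff : x * g * x⁻¹ ∈ H ↔ g ∈ H := by
      constructor
      · intro h
        have : g = x⁻¹ * (x * g * x⁻¹) * x := by group
        rw [this]
        exact H.mul_mem (H.mul_mem (H.inv_mem hx) h) hx
      · intro h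
        exact H.mul_mem (H.mul_mem hx h) (H.inv_mem hx)
    by_cases hg : g ∈ H
    · rw [dif_pos hg, dif_pos (hiff.mpr hg), coeff_blockIdem, coeff_blockIdem]
      exact blockCoeff_conj f ⟨x, hx⟩ ⟨g, hg⟩
    · rw [dif_neg hg, dif_neg (fun h => hg (hiff.mp h))]
  · intro g
    rw [coeff_ext]
    split_ifs with h
    · exact blockIdem_mem_intSubring hMp f hf _
    · exact memLocalRing_zero hMp

theorem ofFun_subgroupBlockCoeff [Finite G] (H : Subgroup G) (f : Set (IrrCharacter H)) :
    ofFun (subgroupBlockCoeff H f) = ext H (blockIdem f) := by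
  classical
  ext g
  rw [coeff_ofFun, coeff_ext]
  unfold subgroupBlockCoeff
  split_ifs <;> rfl

end Cfsg.Agent.Lib.Helper77.BPConj
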