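import Mathlib
import Cfsg.Prelude.Def_BrauerPairs
import Cfsg.Agent.Lib.Helper77.BPBrauer

/-!
# Brauer pairs of a block of the whole group
-/

set_option autoImplicit false

namespace Cfsg.Agent.Lib.Helper77.BPPairs

open Cfsg Cfsg.Agent.Lib.Helper77.LocalRing Cfsg.Agent.Lib.Helper77.CentralChar
  Cfsg.Agent.Lib.Helper77.ClassSum Cfsg.Agent.Lib.Helper77.BlockIdem
  Cfsg.Agent.Lib.Helper77.OsimaVanish Cfsg.Agent.Lib.Helper77.IdemIn
  Cfsg.Agent.Lib.Helper77.BPBasic Cfsg.Agent.Lib.Helper77.BPBrauer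
  Cfsg.Agent.Lib.CT.Wedderburn Cfsg.Agent.Lib.Helper16.ZR

universe u
variable {G : Type u} [Group G] {M : Ideal AlgInt}

theorem blockIdem_mem_top [Finite G] (hMp : M.IsPrime) (B : Set (IrrCharacter G))
    (hB : IsPBlock M B) : blockIdem B ∈ fixedSubring (⊤ : Subgroup G) ⊓ intSubring M hMp :=
  Subring.mem_inf.mpr ⟨mem_fixedSubring_top_iff.mpr (blockIdem_mem_center B),
    blockIdem_mem_intSubring hMp B hB⟩

/-- For a Brauer pair `(P, e)` there is an irreducible character of `G` whose central character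
agrees, modulo the local ideal, with the Brauer-map central characters of all members of `e`. -/
theorem exists_irr_of_pair [Finite G] {p : ℕ} [Fact p.Prime] (hM : IsPModular p M)
    (P : Subgroup G) (e : Set (IrrCharacter (Subgroup.centralizer (P : Set G))))
    (hPe : IsBrauerPair p M P e) :
    ∃ χ₀ : IrrCharacter G, ∀ z ∈ fixedSubring (⊤ : Subgroup G) ⊓
        intSubring M (isPrime_of_isPModular hM), ∀ ξ ∈ e,
      MemLocalIdeal M (om (Subgroup.centralizer (P : Set G))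
        (ξ : Subgroup.centralizer (P : Set G) → ℂ) z - omega (χ₀ : G → ℂ) z) := by
  have hMp := isPrime_of_isPModular hM
  obtain ⟨ξ₀, hξ₀⟩ := isPBlock_nonempty hMp hPe.2
  obtain ⟨χ₀, hχ₀⟩ := exists_irr_top hM P hPe.1 ξ₀
  refine ⟨χ₀, fun z hz ξ hξ => ?_⟩
  have h1 := om_sub_mem_of_sameBlock hMp _ ξ.2 ξ₀.2 (sameBlock_of_mem hMp hPe.2 hξ hξ₀) z
    (fixedSubring_mono le_top (Subring.mem_inf.mp hz).1) (Subring.mem_inf.mp hz).2
  have h2 := memLocalIdeal_add hMp h1 (hχ₀ z hz)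
  rwa [sub_add_sub_cancel] at h2

/-- The blocks of `G` to which a Brauer pair belongs are those containing a fixed character. -/
theorem isBrauerPairOf_iff [Finite G] {p : ℕ} [Fact p.Prime] (hM : IsPModular p M)
    (P : Subgroup G) (e : Set (IrrCharacter (Subgroup.centralizer (P : Set G))))
    (hPe : IsBrauerPair p M P e) :
    ∃ χ₀ : IrrCharacter G, ∀ B : Set (IrrCharacter G), IsPBlock M B →
      (IsBrauerPairOf p M B P e ↔ χ₀ ∈ B) := by
  classical
  have hMp := isPrime_of_isPModular hM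
  obtain ⟨χ₀, hχ₀⟩ := exists_irr_of_pair hM P e hPe
  obtain ⟨ξ₀, hξ₀⟩ := isPBlock_nonempty hMp hPe.2
  refine ⟨χ₀, fun B hB => ?_⟩
  have key : ∀ ξ ∈ e, MemLocalIdeal M (brauerOmega P (blockCoeff B)
      (ξ : Subgroup.centralizer (P : Set G) → ℂ) - if χ₀ ∈ B then 1 else 0) := by
    intro ξ hξ
    have h := hχ₀ (blockIdem B) (blockIdem_mem_top hMp B hB) ξ hξ
    rw [omega_blockIdem] at h
    rw [brauerOmega_eq]
    exact h
  constructor
  · intro h
    by_contra hn
    have h1 := key ξ₀ hξ₀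
    rw [if_neg hn, sub_zero] at h1
    have h2 := h.2.2 ξ₀ hξ₀
    have h3 := memLocalIdeal_sub hMp h1 h2
    rw [sub_sub_cancel] at h3
    exact not_memLocalIdeal_one hMp h3
  · intro h
    refine ⟨hPe, hB, fun ξ hξ => ?_⟩
    have h1 := key ξ hξ
    rwa [if_pos h] at h1

end Cfsg.Agent.Lib.Helper77.BPPairs
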