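import Mathlib
import Cfsg.Prelude.Def_BrauerPairs
import Cfsg.Agent.Lib.Helper77.BPPairs
import Cfsg.Agent.Lib.Helper77.BPConj

/-!
# Normal inclusion of Brauer pairs

Central characters along a normal inclusion `(Q, f) ⊴ (P, e)` agree modulo the local ideal on the
`P`-fixed integral central elements of the group algebra of `C_G(Q)`.  Consequences: a pair and a
pair above it belong to the same blocks, existence and uniqueness of the normal subpair on a
normal subgroup, and compatibility of normal subpairs.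
-/

set_option autoImplicit false

namespace Cfsg.Agent.Lib.Helper77.BPNormal

open Cfsg Cfsg.Agent.Lib.Helper77.LocalRing Cfsg.Agent.Lib.Helper77.CentralChar
  Cfsg.Agent.Lib.Helper77.ClassSum Cfsg.Agent.Lib.Helper77.BlockIdem
  Cfsg.Agent.Lib.Helper77.OsimaVanish Cfsg.Agent.Lib.Helper77.IdemIn
  Cfsg.Agent.Lib.Helper77.BPBasic Cfsg.Agent.Lib.Helper77.BPBrauer
  Cfsg.Agent.Lib.Helper77.BPPairs Cfsg.Agent.Lib.Helper77.BPConj
  Cfsg.Agent.Lib.CT.Wedderburn Cfsg.Agent.Lib.Helper16.ZR

universe u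
variable {G : Type u} [Group G] {M : Ideal AlgInt}

/-- The idempotent of a `P`-stable block of `H` lies in the pair subring. -/
theorem ext_blockIdem_mem_pairSubring [Finite G] (hMp : M.IsPrime) (H P : Subgroup G)
    (hPH : P ≤ Subgroup.normalizer (H : Set G)) (f : Set (IrrCharacter H)) (hf : IsPBlock M f)
    (hst : ∀ x ∈ P, StabilizesBlock H f x) :
    ext H (blockIdem f) ∈ pairSubring hMp H P := by
  obtain ⟨h1, h2, h3⟩ := ext_blockIdem_mem hMp H f hf
  exact (mem_pairSubring hMp).mpr ⟨h1, h2, (forall_stabilizes_iff H P hPH f).mp hst, h3⟩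

/-- The truncation of a block idempotent of `G` lies in the pair subring. -/
theorem trunc_blockIdem_mem_pairSubring [Finite G] (hMp : M.IsPrime) (K P : Subgroup G)
    (hPK : P ≤ Subgroup.normalizer (K : Set G)) (B : Set (IrrCharacter G)) (hB : IsPBlock M B) :
    trunc K (blockIdem B) ∈ pairSubring hMp K P := by
  have hb := blockIdem_mem_top hMp B hB
  have hfix : ∀ L : Subgroup G, blockIdem B ∈ fixedSubring L := fun L =>
    fixedSubring_mono le_top (Subring.mem_inf.mp hb).1
  exact (mem_pairSubring hMp).mpr ⟨trunc_mem_supportSubring K _,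
    trunc_mem_fixedSubring Subgroup.le_normalizer (hfix K),
    trunc_mem_fixedSubring hPK (hfix P), trunc_mem_intSubring hMp K (Subring.mem_inf.mp hb).2⟩

/-- **Key congruence** along a normal inclusion of Brauer pairs. -/
theorem normalSubpair_om [Finite G] {p : ℕ} [Fact p.Prime] (hM : IsPModular p M)
    {Q P : Subgroup G} {f : Set (IrrCharacter (Subgroup.centralizer (Q : Set G)))}
    {e : Set (IrrCharacter (Subgroup.centralizer (P : Set G)))}
    (h : IsNormalSubpair p M Q f P e) (z : MonoidAlgebra ℂ G)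
    (hz : z ∈ pairSubring (isPrime_of_isPModular hM) (Subgroup.centralizer (Q : Set G)) P)
    (ζ : IrrCharacter (Subgroup.centralizer (Q : Set G))) (hζ : ζ ∈ f)
    (ξ : IrrCharacter (Subgroup.centralizer (P : Set G))) (hξ : ξ ∈ e) :
    MemLocalIdeal M (om (Subgroup.centralizer (P : Set G))
        (ξ : Subgroup.centralizer (P : Set G) → ℂ) z -
      om (Subgroup.centralizer (Q : Set G)) (ζ : Subgroup.centralizer (Q : Set G) → ℂ) z) := by
  classical
  have hMp := isPrime_of_isPModular hM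
  obtain ⟨hQf, hPe, hQP, hPN, hst, hbr⟩ := h
  have hCC : Subgroup.centralizer (P : Set G) ≤ Subgroup.centralizer (Q : Set G) :=
    Subgroup.centralizer_le hQP
  have hPNC : P ≤ Subgroup.normalizer
      ((Subgroup.centralizer (Q : Set G) : Subgroup G) : Set G) :=
    hPN.trans (normalizer_le_normalizer_centralizer Q)
  obtain ⟨ξ₀, hξ₀⟩ := isPBlock_nonempty hMp hPe.2
  obtain ⟨ζ₀, hζ₀⟩ := exists_irr_sub hM (Subgroup.centralizer (Q : Set G)) P hPe.1 hCC ξ₀
  have hε := ext_blockIdem_mem_pairSubring hMp _ P hPNC f hQf.2 hst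
  have h1 := hζ₀ _ hε
  rw [om_ext_blockIdem] at h1
  have h2 := hbr ξ₀ hξ₀
  rw [brauerOmega_eq, ofFun_subgroupBlockCoeff] at h2
  have hζ₀f : ζ₀ ∈ f := by
    by_contra hn
    rw [if_neg hn, sub_zero] at h1
    have h3 := memLocalIdeal_sub hMp h1 h2
    rw [sub_sub_cancel] at h3
    exact not_memLocalIdeal_one hMp h3
  obtain ⟨hz1, hz2, hz3, hz4⟩ := (mem_pairSubring hMp).mp hz
  have a1 := om_sub_mem_of_sameBlock hMp _ ξ.2 ξ₀.2 (sameBlock_of_mem hMp hPe.2 hξ hξ₀) z
    (fixedSubring_mono hCC hz2) hz4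
  have a2 := hζ₀ z hz
  have a3 := om_sub_mem_of_sameBlock hMp _ ζ₀.2 ζ.2 (sameBlock_of_mem hMp hQf.2 hζ₀f hζ) z
    hz2 hz4
  have a4 := memLocalIdeal_add hMp (memLocalIdeal_add hMp a1 a2) a3
  convert a4 using 1
  ring

/-- A normal subpair belongs to the same blocks of `G`. -/
theorem isBrauerPairOf_iff_of_normal [Finite G] {p : ℕ} [Fact p.Prime] (hM : IsPModular p M)
    {Q P : Subgroup G} {f : Set (IrrCharacter (Subgroup.centralizer (Q : Set G)))}
    {e : Set (IrrCharacter (Subgroup.centralizer (P : Set G)))}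
    (h : IsNormalSubpair p M Q f P e) (B : Set (IrrCharacter G)) (hB : IsPBlock M B) :
    IsBrauerPairOf p M B P e ↔ IsBrauerPairOf p M B Q f := by
  classical
  have hMp := isPrime_of_isPModular hM
  have hQf := h.1
  have hPe := h.2.1
  have hQP := h.2.2.1
  have hPN := h.2.2.2.1
  have hCC : Subgroup.centralizer (P : Set G) ≤ Subgroup.centralizer (Q : Set G) :=
    Subgroup.centralizer_le hQP
  have hPNC : P ≤ Subgroup.normalizer
      ((Subgroup.centralizer (Q : Set G) : Subgroup G) : Set G) :=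
    hPN.trans (normalizer_le_normalizer_centralizer Q)
  have hz := trunc_blockIdem_mem_pairSubring hMp (Subgroup.centralizer (Q : Set G)) P hPNC B hB
  have key : ∀ ζ ∈ f, ∀ ξ ∈ e, MemLocalIdeal M
      (brauerOmega P (blockCoeff B) (ξ : Subgroup.centralizer (P : Set G) → ℂ) -
        brauerOmega Q (blockCoeff B) (ζ : Subgroup.centralizer (Q : Set G) → ℂ)) := by
    intro ζ hζ ξ hξ
    have h1 := normalSubpair_om hM h _ hz ζ hζ ξ hξ
    rw [om_trunc hCC, om_trunc le_rfl] at h1
    rw [brauerOmega_eq, brauerOmega_eq]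
    exact h1
  obtain ⟨ξ₀, hξ₀⟩ := isPBlock_nonempty hMp hPe.2
  obtain ⟨ζ₀, hζ₀⟩ := isPBlock_nonempty hMp hQf.2
  constructor
  · intro hP
    refine ⟨hQf, hB, fun ζ hζ => ?_⟩
    have h1 := key ζ hζ ξ₀ hξ₀
    have h2 := hP.2.2 ξ₀ hξ₀
    have h3 := memLocalIdeal_sub hMp h2 h1
    convert h3 using 1
    ring
  · intro hQ
    refine ⟨hPe, hB, fun ξ hξ => ?_⟩
    have h1 := key ζ₀ hζ₀ ξ hξ
    have h2 := hQ.2.2 ζ₀ hζ₀
    have h3 := memLocalIdeal_add hMp h1 h2
    convert h3 using 1
    ring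

/-- A pair and a pair above it belong to the same blocks of `G`. -/
theorem isBrauerPairOf_iff_of_le [Finite G] {p : ℕ} [Fact p.Prime] (hM : IsPModular p M)
    (B : Set (IrrCharacter G)) (hB : IsPBlock M B) (a b : BrauerPairIdx G)
    (h : Relation.ReflTransGen (NormalSubpairRel p M) a b) :
    IsBrauerPairOf p M B b.1 b.2 ↔ IsBrauerPairOf p M B a.1 a.2 := by
  induction h with
  | refl => exact Iff.rfl
  | tail _ hbc ih => exact (isBrauerPairOf_iff_of_normal hM hbc B hB).trans ih

/-- The lower pair of an inclusion is a Brauer pair. -/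
theorem isBrauerPair_of_le {p : ℕ} (a b : BrauerPairIdx G)
    (h : Relation.ReflTransGen (NormalSubpairRel p M) a b) (hb : IsBrauerPair p M b.1 b.2) :
    IsBrauerPair p M a.1 a.2 := by
  induction h using Relation.ReflTransGen.head_induction_on with
  | refl => exact hb
  | head hac _ _ => exact hac.1

/-- The subgroups of an inclusion of pairs are included. -/
theorem le_of_subpairLE {p : ℕ} (a b : BrauerPairIdx G)
    (h : Relation.ReflTransGen (NormalSubpairRel p M) a b) : a.1 ≤ b.1 := by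
  induction h with
  | refl => exact le_rfl
  | tail _ hbc ih => exact ih.trans hbc.2.2.1

/-- A normal inclusion on the same subgroup is an equality. -/
theorem eq_of_normalSubpair_self [Finite G] {p : ℕ} [Fact p.Prime] (hM : IsPModular p M)
    {P : Subgroup G} {g e : Set (IrrCharacter (Subgroup.centralizer (P : Set G)))}
    (h : IsNormalSubpair p M P g P e) : g = e := by
  classical
  have hMp := isPrime_of_isPModular hM
  obtain ⟨hg, he, -, -, -, hbr⟩ := h
  obtain ⟨ξ₀, hξ₀⟩ := isPBlock_nonempty hMp he.2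
  have h2 := hbr ξ₀ hξ₀
  rw [brauerOmega_eq, ofFun_subgroupBlockCoeff, om_ext_blockIdem] at h2
  have hξg : ξ₀ ∈ g := by
    by_contra hn
    rw [if_neg hn, zero_sub] at h2
    exact not_memLocalIdeal_one hMp (memLocalIdeal_neg_iff.mp h2)
  rw [isPBlock_eq_blockOf hMp hg.2 hξg, isPBlock_eq_blockOf hMp he.2 hξ₀]

/-- Uniqueness of the normal subpair. -/
theorem normalSubpair_unique [Finite G] {p : ℕ} [Fact p.Prime] (hM : IsPModular p M)
    {Q P : Subgroup G} {f f' : Set (IrrCharacter (Subgroup.centralizer (Q : Set G)))}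
    {e : Set (IrrCharacter (Subgroup.centralizer (P : Set G)))}
    (h : IsNormalSubpair p M Q f P e) (h' : IsNormalSubpair p M Q f' P e) : f = f' := by
  classical
  have hMp := isPrime_of_isPModular hM
  have hQP := h.2.2.1
  have hPN := h.2.2.2.1
  have hPNC : P ≤ Subgroup.normalizer
      ((Subgroup.centralizer (Q : Set G) : Subgroup G) : Set G) :=
    hPN.trans (normalizer_le_normalizer_centralizer Q)
  obtain ⟨ξ₀, hξ₀⟩ := isPBlock_nonempty hMp h.2.1.2
  obtain ⟨ζ₀, hζ₀⟩ := isPBlock_nonempty hMp h.1.2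
  have hε := ext_blockIdem_mem_pairSubring hMp _ P hPNC f' h'.1.2 h'.2.2.2.2.1
  have h1 := normalSubpair_om hM h _ hε ζ₀ hζ₀ ξ₀ hξ₀
  have h2 := h'.2.2.2.2.2 ξ₀ hξ₀
  rw [brauerOmega_eq, ofFun_subgroupBlockCoeff] at h2
  rw [om_ext_blockIdem] at h1
  have hζf' : ζ₀ ∈ f' := by
    by_contra hn
    rw [if_neg hn, sub_zero] at h1
    have h3 := memLocalIdeal_sub hMp h1 h2
    rw [sub_sub_cancel] at h3
    exact not_memLocalIdeal_one hMp h3
  rw [isPBlock_eq_blockOf hMp h.1.2 hζ₀, isPBlock_eq_blockOf hMp h'.1.2 hζf']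

end Cfsg.Agent.Lib.Helper77.BPNormal
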