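import Mathlib
import Cfsg.Prelude.Def_BrauerPairs
import Cfsg.Agent.Lib.Helper77.BPNormal

/-!
# Existence and uniqueness of Brauer subpairs

* `exists_normalSubpair`: for `Q ≤ P ≤ N_G(Q)` and a Brauer pair `(P, e)` there is a block `f` of
  `C_G(Q)` with `(Q, f) ⊴ (P, e)`.
* `normalSubpair_mid`: compatibility of normal subpairs.
* `exists_subpair`, `subpair_unique`: below a Brauer pair `(P, e)` there is exactly one pair on
  every subgroup `Q ≤ P`.
-/

set_option autoImplicit false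

namespace Cfsg.Agent.Lib.Helper77.BPSubpair

open Cfsg Cfsg.Agent.Lib.Helper77.LocalRing Cfsg.Agent.Lib.Helper77.CentralChar
  Cfsg.Agent.Lib.Helper77.ClassSum Cfsg.Agent.Lib.Helper77.BlockIdem
  Cfsg.Agent.Lib.Helper77.OsimaVanish Cfsg.Agent.Lib.Helper77.IdemIn
  Cfsg.Agent.Lib.Helper77.BPBasic Cfsg.Agent.Lib.Helper77.BPBrauer
  Cfsg.Agent.Lib.Helper77.BPPairs Cfsg.Agent.Lib.Helper77.BPConj
  Cfsg.Agent.Lib.Helper77.BPNormal
  Cfsg.Agent.Lib.CT.Wedderburn Cfsg.Agent.Lib.Helper16.ZR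

universe u
variable {G : Type u} [Group G] {M : Ideal AlgInt}

/-- Conjugation by an element of `P` fixes the centralizer of `P` pointwise. -/
theorem conj_centralizer_eq {P : Subgroup G} {u : G} (hu : u ∈ P) (c : G)
    (hc : c ∈ Subgroup.centralizer (P : Set G)) : u⁻¹ * c * u = c := by
  have h := Subgroup.mem_centralizer_iff.mp hc u hu
  rw [mul_assoc, ← h, inv_mul_cancel_left]

/-- **Existence of the normal subpair.** -/
theorem exists_normalSubpair [Finite G] {p : ℕ} [Fact p.Prime] (hM : IsPModular p M)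
    (P Q : Subgroup G) (e : Set (IrrCharacter (Subgroup.centralizer (P : Set G))))
    (hPe : IsBrauerPair p M P e) (hQP : Q ≤ P) (hPN : P ≤ Subgroup.normalizer (Q : Set G)) :
    ∃ f : Set (IrrCharacter (Subgroup.centralizer (Q : Set G))), IsNormalSubpair p M Q f P e := by
  classical
  have hMp := isPrime_of_isPModular hM
  have hCC : Subgroup.centralizer (P : Set G) ≤ Subgroup.centralizer (Q : Set G) :=
    Subgroup.centralizer_le hQP
  have hPNC : P ≤ Subgroup.normalizer
      ((Subgroup.centralizer (Q : Set G) : Subgroup G) : Set G) :=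
    hPN.trans (normalizer_le_normalizer_centralizer Q)
  obtain ⟨ξ₀, hξ₀⟩ := isPBlock_nonempty hMp hPe.2
  obtain ⟨ζ₀, hζ₀⟩ := exists_irr_sub hM (Subgroup.centralizer (Q : Set G)) P hPe.1 hCC ξ₀
  obtain ⟨f₀, hf₀B, hζ₀f⟩ : ∃ f₀ : Set (IrrCharacter (Subgroup.centralizer (Q : Set G))),
      IsPBlock M f₀ ∧ ζ₀ ∈ f₀ :=
    ⟨blockOf M (ζ₀ : Subgroup.centralizer (Q : Set G) → ℂ), isPBlock_blockOf ζ₀,
      mem_blockOf_self hMp ζ₀⟩
  obtain ⟨ε, hε⟩ : ∃ ε : MonoidAlgebra ℂ G,
      ε = ext (Subgroup.centralizer (Q : Set G)) (blockIdem f₀) := ⟨_, rfl⟩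
  have hconj : ∀ x ∈ P, ∃ f' : Set (IrrCharacter (Subgroup.centralizer (Q : Set G))),
      IsPBlock M f' ∧ conjA x ε = ext (Subgroup.centralizer (Q : Set G)) (blockIdem f') := by
    intro x hx
    refine ⟨conjB _ x (hPNC hx) f₀, isPBlock_conjB _ x (hPNC hx) hf₀B, ?_⟩
    rw [hε]
    exact conjA_ext_blockIdem _ x (hPNC hx) f₀
  have hfix : ε ∈ fixedSubring P := by
    by_contra hnot
    rw [mem_fixedSubring_iff_conjA] at hnot
    push Not at hnot
    obtain ⟨x₀, hx₀P, hx₀⟩ := hnot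
    haveI : Fintype P := Fintype.ofFinite P
    obtain ⟨𝒪, h𝒪⟩ : ∃ 𝒪 : Finset (MonoidAlgebra ℂ G),
        𝒪 = Finset.image (fun x : P => conjA (x : G) ε) Finset.univ := ⟨_, rfl⟩
    have hmem : ∀ s, s ∈ 𝒪 ↔ ∃ x ∈ P, conjA x ε = s := by
      intro s
      rw [h𝒪, Finset.mem_image]
      constructor
      · rintro ⟨x, -, rfl⟩
        exact ⟨x, x.2, rfl⟩
      · rintro ⟨x, hx, rfl⟩
        exact ⟨⟨x, hx⟩, Finset.mem_univ _, rfl⟩
    have hact : ∀ u : P, ∀ s ∈ 𝒪, conjA (u : G) s ∈ 𝒪 := by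
      intro u s hs
      obtain ⟨x, hx, rfl⟩ := (hmem s).mp hs
      exact (hmem _).mpr ⟨u * x, P.mul_mem u.2 hx, conjA_mul _ _ _⟩
    have hnofix : ∀ s ∈ 𝒪, ∃ u : P, conjA (u : G) s ≠ s := by
      intro s hs
      obtain ⟨x, hx, rfl⟩ := (hmem s).mp hs
      refine ⟨⟨x * x₀ * x⁻¹, P.mul_mem (P.mul_mem hx hx₀P) (P.inv_mem hx)⟩, ?_⟩
      intro heq
      apply hx₀
      apply conjA_injective x
      rw [← conjA_mul]
      have h1 : x * x₀ = (x * x₀ * x⁻¹) * x := by group
      rw [h1, conjA_mul]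
      exact heq
    have hsprop : ∀ s ∈ 𝒪, ∃ f' : Set (IrrCharacter (Subgroup.centralizer (Q : Set G))),
        IsPBlock M f' ∧ s = ext (Subgroup.centralizer (Q : Set G)) (blockIdem f') := by
      intro s hs
      obtain ⟨x, hx, rfl⟩ := (hmem s).mp hs
      exact hconj x hx
    have hsmem : ∀ s ∈ 𝒪, s ∈ supportSubring (Subgroup.centralizer (Q : Set G)) ∧
        s ∈ fixedSubring (Subgroup.centralizer (Q : Set G)) ∧ s ∈ intSubring M hMp := by
      intro s hs
      obtain ⟨f', hf', rfl⟩ := hsprop s hs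
      exact ext_blockIdem_mem hMp _ f' hf'
    have hsum := sum_mem_of_fpf hM (K := P) hPe.1 (fun u s => conjA (u : G) s)
      (fun s => by simp only [Subgroup.coe_one]; exact conjA_one s)
      (fun u v s => by simp only [Subgroup.coe_mul]; exact conjA_mul _ _ s) 𝒪 hact hnofix
      (fun s => om (Subgroup.centralizer (P : Set G))
        (ξ₀ : Subgroup.centralizer (P : Set G) → ℂ) s)
      (fun u s _ => by
        show om _ _ (conjA (u : G) s) = om _ _ s
        unfold om
        rw [res_conjA _ (u : G) (fun c hc => conj_centralizer_eq u.2 c hc)])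
      (fun s hs => om_memLocalRing hMp _ ξ₀.2 s (fixedSubring_mono hCC (hsmem s hs).2.1)
        (hsmem s hs).2.2)
    have hsumP : (∑ s ∈ 𝒪, s) ∈ pairSubring hMp (Subgroup.centralizer (Q : Set G)) P := by
      refine (mem_pairSubring hMp).mpr ⟨Subring.sum_mem _ fun s hs => (hsmem s hs).1,
        Subring.sum_mem _ fun s hs => (hsmem s hs).2.1, ?_,
        Subring.sum_mem _ fun s hs => (hsmem s hs).2.2⟩
      rw [mem_fixedSubring_iff_conjA]
      intro u hu
      rw [conjA_sum]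
      refine Finset.sum_nbij' (conjA u) (conjA u⁻¹) (fun s hs => hact ⟨u, hu⟩ s hs)
        (fun s hs => hact ⟨u⁻¹, P.inv_mem hu⟩ s hs) (fun s _ => conjA_inv_cancel u s)
        (fun s _ => conjA_cancel_inv u s) (fun s _ => rfl)
    have h1 := hζ₀ _ hsumP
    rw [om_sum, om_sum] at h1
    have hεmem : ε ∈ 𝒪 := (hmem ε).mpr ⟨1, P.one_mem, conjA_one ε⟩
    have h2 : ∑ s ∈ 𝒪, om (Subgroup.centralizer (Q : Set G))
        (ζ₀ : Subgroup.centralizer (Q : Set G) → ℂ) s = 1 := by
      rw [Finset.sum_eq_single ε]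
      · rw [hε, om_ext_blockIdem, if_pos hζ₀f]
      · intro s hs hne
        obtain ⟨f', hf', rfl⟩ := hsprop s hs
        rw [om_ext_blockIdem]
        refine if_neg fun hin => hne ?_
        rw [hε, isPBlock_eq_blockOf hMp hf' hin, isPBlock_eq_blockOf hMp hf₀B hζ₀f]
      · intro hn
        exact absurd hεmem hn
    rw [h2] at h1
    have h3 := memLocalIdeal_sub hMp hsum h1
    rw [sub_sub_cancel] at h3
    exact not_memLocalIdeal_one hMp h3
  have hst : ∀ x ∈ P, StabilizesBlock (Subgroup.centralizer (Q : Set G)) f₀ x := by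
    rw [forall_stabilizes_iff _ P hPNC f₀, ← hε]
    exact hfix
  have hεp := ext_blockIdem_mem_pairSubring hMp _ P hPNC f₀ hf₀B hst
  refine ⟨f₀, ⟨hPe.1.to_le hQP, hf₀B⟩, hPe, hQP, hPN, hst, fun ξ hξ => ?_⟩
  rw [brauerOmega_eq, ofFun_subgroupBlockCoeff]
  obtain ⟨-, hz2, -, hz4⟩ := (mem_pairSubring hMp).mp hεp
  have a1 := om_sub_mem_of_sameBlock hMp _ ξ.2 ξ₀.2 (sameBlock_of_mem hMp hPe.2 hξ hξ₀) _
    (fixedSubring_mono hCC hz2) hz4
  have a2 := hζ₀ _ hεp
  rw [om_ext_blockIdem, if_pos hζ₀f] at a2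
  have a3 := memLocalIdeal_add hMp a1 a2
  convert a3 using 1
  ring

/-- **Compatibility of normal subpairs**: if `(R, g)` and `(S, h)` are both normal subpairs of
`(P, e)` and `S ≤ R`, then `(S, h)` is a normal subpair of `(R, g)`. -/
theorem normalSubpair_mid [Finite G] {p : ℕ} [Fact p.Prime] (hM : IsPModular p M)
    {S R P : Subgroup G} {h : Set (IrrCharacter (Subgroup.centralizer (S : Set G)))}
    {g : Set (IrrCharacter (Subgroup.centralizer (R : Set G)))}
    {e : Set (IrrCharacter (Subgroup.centralizer (P : Set G)))} (hSR : S ≤ R)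
    (hRg : IsNormalSubpair p M R g P e) (hSh : IsNormalSubpair p M S h P e) :
    IsNormalSubpair p M S h R g := by
  classical
  have hMp := isPrime_of_isPModular hM
  have hRP := hRg.2.2.1
  have hCPR : Subgroup.centralizer (P : Set G) ≤ Subgroup.centralizer (R : Set G) :=
    Subgroup.centralizer_le hRP
  have hCRS : Subgroup.centralizer (R : Set G) ≤ Subgroup.centralizer (S : Set G) :=
    Subgroup.centralizer_le hSR
  have hPNCS : P ≤ Subgroup.normalizer
      ((Subgroup.centralizer (S : Set G) : Subgroup G) : Set G) :=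
    hSh.2.2.2.1.trans (normalizer_le_normalizer_centralizer S)
  have hPNCR : P ≤ Subgroup.normalizer
      ((Subgroup.centralizer (R : Set G) : Subgroup G) : Set G) :=
    hRg.2.2.2.1.trans (normalizer_le_normalizer_centralizer R)
  refine ⟨hSh.1, hRg.1, hSR, hRP.trans hSh.2.2.2.1, fun x hx => hSh.2.2.2.2.1 x (hRP hx),
    fun ζ hζ => ?_⟩
  rw [brauerOmega_eq, ofFun_subgroupBlockCoeff]
  have hεp := ext_blockIdem_mem_pairSubring hMp _ P hPNCS h hSh.1.2 hSh.2.2.2.2.1
  obtain ⟨-, hz2, hz3, hz4⟩ := (mem_pairSubring hMp).mp hεp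
  have hz : trunc (Subgroup.centralizer (R : Set G))
      (ext (Subgroup.centralizer (S : Set G)) (blockIdem h)) ∈
        pairSubring hMp (Subgroup.centralizer (R : Set G)) P :=
    (mem_pairSubring hMp).mpr ⟨trunc_mem_supportSubring _ _,
      trunc_mem_fixedSubring Subgroup.le_normalizer (fixedSubring_mono hCRS hz2),
      trunc_mem_fixedSubring hPNCR hz3, trunc_mem_intSubring hMp _ hz4⟩
  obtain ⟨ξ₀, hξ₀⟩ := isPBlock_nonempty hMp hRg.2.1.2
  have h1 := normalSubpair_om hM hRg _ hz ζ hζ ξ₀ hξ₀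
  rw [om_trunc hCPR, om_trunc le_rfl] at h1
  have h2 := hSh.2.2.2.2.2 ξ₀ hξ₀
  rw [brauerOmega_eq, ofFun_subgroupBlockCoeff] at h2
  have h3 := memLocalIdeal_sub hMp h2 h1
  convert h3 using 1
  ring

/-- In a finite `p`-group, a proper subgroup is properly contained in its normalizer. -/
theorem lt_inf_normalizer [Finite G] {p : ℕ} [Fact p.Prime] {P Q : Subgroup G}
    (hP : IsPGroup p P) (hQP : Q ≤ P) (hne : Q ≠ P) :
    Q < P ⊓ Subgroup.normalizer (Q : Set G) := by
  haveI : Group.IsNilpotent P := hP.isNilpotent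
  have h1 : Q.subgroupOf P < ⊤ := by
    rw [lt_top_iff_ne_top, Ne, Subgroup.subgroupOf_eq_top]
    exact fun h => hne (le_antisymm hQP h)
  have h2 := Group.normalizerCondition_of_isNilpotent (Q.subgroupOf P) h1
  rw [← Subgroup.subgroupOf_normalizer_eq hQP] at h2
  refine lt_of_le_of_ne (le_inf hQP Subgroup.le_normalizer) ?_
  intro heq
  apply h2.ne
  ext ⟨x, hx⟩
  simp only [Subgroup.mem_subgroupOf]
  constructor
  · intro h
    exact Subgroup.le_normalizer h
  · intro h
    have h3 : x ∈ P ⊓ Subgroup.normalizer (Q : Set G) := ⟨hx, h⟩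
    rwa [← heq] at h3

/-- **Existence of subpairs.** -/
theorem exists_subpair [Finite G] {p : ℕ} [Fact p.Prime] (hM : IsPModular p M)
    (P : Subgroup G) (e : Set (IrrCharacter (Subgroup.centralizer (P : Set G))))
    (hPe : IsBrauerPair p M P e) (Q : Subgroup G) (hQP : Q ≤ P) :
    ∃ f : Set (IrrCharacter (Subgroup.centralizer (Q : Set G))), SubpairLE p M Q f P e := by
  induction Q using WellFoundedGT.induction with
  | _ Q IH =>
  by_cases hne : Q = P
  · subst hne
    exact ⟨e, Relation.ReflTransGen.refl⟩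
  · have hlt := lt_inf_normalizer hPe.1 hQP hne
    obtain ⟨g, hg⟩ := IH _ hlt inf_le_left
    have hRg := isBrauerPair_of_le (p := p) (M := M) ⟨_, g⟩ ⟨P, e⟩ hg hPe
    obtain ⟨f, hf⟩ := exists_normalSubpair hM _ Q g hRg hlt.le inf_le_right
    have hf' : NormalSubpairRel p M ⟨Q, f⟩ ⟨_, g⟩ := hf
    exact ⟨f, Relation.ReflTransGen.head hf' hg⟩

theorem card_lt_of_lt [Finite G] {R P : Subgroup G} (h : R < P) : Nat.card R < Nat.card P :=
  Set.Finite.card_lt_card (Set.toFinite (P : Set G)) (SetLike.coe_ssubset_coe.mpr h)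

/-- Normal form of an inclusion of pairs: it is an equality or ends with a proper normal step. -/
theorem subpair_normal_form [Finite G] {p : ℕ} [Fact p.Prime] (hM : IsPModular p M)
    (a b : BrauerPairIdx G) (h : Relation.ReflTransGen (NormalSubpairRel p M) a b) :
    a = b ∨ ∃ c : BrauerPairIdx G, c.1 < b.1 ∧
      Relation.ReflTransGen (NormalSubpairRel p M) a c ∧ NormalSubpairRel p M c b := by
  induction h with
  | refl => exact Or.inl rfl
  | @tail b c hab hbc ih =>
    by_cases hlt : b.1 < c.1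
    · exact Or.inr ⟨b, hlt, hab, hbc⟩
    · have heq : b.1 = c.1 := by
        by_contra hne
        exact hlt (lt_of_le_of_ne hbc.2.2.1 hne)
      have hbc' : b = c := by
        obtain ⟨R, g⟩ := b
        obtain ⟨P, e⟩ := c
        simp only at heq
        subst heq
        have h1 : g = e := eq_of_normalSubpair_self hM hbc
        rw [h1]
      rw [← hbc']
      exact ih

theorem normalizer_inf_le {R R' : Subgroup G} :
    Subgroup.normalizer (R : Set G) ⊓ Subgroup.normalizer (R' : Set G) ≤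
      Subgroup.normalizer ((R ⊓ R' : Subgroup G) : Set G) := by
  intro x hx
  rw [Subgroup.mem_normalizer_iff]
  intro h
  rw [Subgroup.mem_inf, Subgroup.mem_inf, Subgroup.mem_normalizer_iff.mp hx.1 h,
    Subgroup.mem_normalizer_iff.mp hx.2 h]

/-- **Uniqueness of subpairs.** -/
theorem subpair_unique [Finite G] {p : ℕ} [Fact p.Prime] (hM : IsPModular p M) :
    ∀ (n : ℕ) (P : Subgroup G), Nat.card P = n →
      ∀ (e : Set (IrrCharacter (Subgroup.centralizer (P : Set G)))) (Q : Subgroup G)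
        (f f' : Set (IrrCharacter (Subgroup.centralizer (Q : Set G)))),
        IsBrauerPair p M P e → SubpairLE p M Q f P e → SubpairLE p M Q f' P e → f = f' := by
  intro n
  induction n using Nat.strong_induction_on with
  | _ n IH =>
  intro P hn e Q f f' hPe h h'
  rcases subpair_normal_form hM ⟨Q, f⟩ ⟨P, e⟩ h with heq | ⟨⟨R, g⟩, hRP, hQR, hRg⟩
  · rcases subpair_normal_form hM ⟨Q, f'⟩ ⟨P, e⟩ h' with heq' | ⟨⟨R', g'⟩, hR'P, hQR', hR'g'⟩
    · exact eq_of_heq ((Sigma.mk.inj_iff.mp heq).2.trans (Sigma.mk.inj_iff.mp heq').2.symm)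
    · exfalso
      have hQP : Q = P := (Sigma.mk.inj_iff.mp heq).1
      have h1 : Q ≤ R' := le_of_subpairLE _ _ hQR'
      exact absurd (hQP.symm.le.trans h1) (not_le_of_gt hR'P)
  · rcases subpair_normal_form hM ⟨Q, f'⟩ ⟨P, e⟩ h' with heq' | ⟨⟨R', g'⟩, hR'P, hQR', hR'g'⟩
    · exfalso
      have hQP : Q = P := (Sigma.mk.inj_iff.mp heq').1
      have h1 : Q ≤ R := le_of_subpairLE _ _ hQR
      exact absurd (hQP.symm.le.trans h1) (not_le_of_gt hRP)
    · have hRP' : R < P := hRP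
      have hR'P' : R' < P := hR'P
      have hRg' : IsNormalSubpair p M R g P e := hRg
      have hR'g'' : IsNormalSubpair p M R' g' P e := hR'g'
      have hQR_le : Q ≤ R := le_of_subpairLE _ _ hQR
      have hQR'_le : Q ≤ R' := le_of_subpairLE _ _ hQR'
      have hSP : R ⊓ R' ≤ P := inf_le_left.trans hRP'.le
      have hPNS : P ≤ Subgroup.normalizer ((R ⊓ R' : Subgroup G) : Set G) :=
        (le_inf hRg'.2.2.2.1 hR'g''.2.2.2.1).trans normalizer_inf_le
      obtain ⟨h₀, hh₀⟩ := exists_normalSubpair hM P (R ⊓ R') e hPe hSP hPNS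
      have k1 : IsNormalSubpair p M (R ⊓ R') h₀ R g := normalSubpair_mid hM inf_le_left hRg' hh₀
      have k2 : IsNormalSubpair p M (R ⊓ R') h₀ R' g' :=
        normalSubpair_mid hM inf_le_right hR'g'' hh₀
      obtain ⟨f'', hf''⟩ := exists_subpair hM (R ⊓ R') h₀ hh₀.1 Q (le_inf hQR_le hQR'_le)
      have e1 : f'' = f := IH (Nat.card R) (by rw [← hn]; exact card_lt_of_lt hRP') R rfl g Q
        f'' f hRg'.1 (Relation.ReflTransGen.tail hf'' k1) hQR
      have e2 : f'' = f' := IH (Nat.card R') (by rw [← hn]; exact card_lt_of_lt hR'P') R' rfl g'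
        Q f'' f' hR'g''.1 (Relation.ReflTransGen.tail hf'' k2) hQR'
      exact e1.symm.trans e2

end Cfsg.Agent.Lib.Helper77.BPSubpair
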