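import Mathlib
import Cfsg.Prelude.Def_BrauerPairs
import Cfsg.Agent.Lib.Helper77.BPSubpair
import Cfsg.Agent.Lib.Helper77.BPTransport
import Cfsg.Agent.Lib.Helper33.Conj

/-!
# Conjugation of Brauer pairs

The conjugate `(Q^x, conjBlock Q x f)` of a Brauer pair; conjugation preserves Brauer pairs of a
block of `G`, normal inclusion and inclusion of Brauer pairs.
-/

set_option autoImplicit false

namespace Cfsg.Agent.Lib.Helper77.BPEquiv

open Cfsg Cfsg.Agent.Lib.Helper77.LocalRing Cfsg.Agent.Lib.Helper77.CentralChar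
  Cfsg.Agent.Lib.Helper77.ClassSum Cfsg.Agent.Lib.Helper77.BlockIdem
  Cfsg.Agent.Lib.Helper77.OsimaVanish Cfsg.Agent.Lib.Helper77.IdemIn
  Cfsg.Agent.Lib.Helper77.BPBasic Cfsg.Agent.Lib.Helper77.BPBrauer
  Cfsg.Agent.Lib.Helper77.BPPairs Cfsg.Agent.Lib.Helper77.BPConj
  Cfsg.Agent.Lib.Helper77.BPNormal Cfsg.Agent.Lib.Helper77.BPSubpair
  Cfsg.Agent.Lib.Helper77.BPTransport
  Cfsg.Agent.Lib.CT.Wedderburn Cfsg.Agent.Lib.Helper16.ZR Cfsg.Agent.Lib.Helper33.Conj

universe u
variable {G : Type u} [Group G] {M : Ideal AlgInt}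

theorem mem_centralizer_cj_iff (Q : Subgroup G) (x g : G) :
    g ∈ Subgroup.centralizer ((Q.map (MulAut.conj x).toMonoidHom : Subgroup G) : Set G) ↔
      x⁻¹ * g * x ∈ Subgroup.centralizer (Q : Set G) := by
  rw [centralizer_cj, mem_cj]

/-- Conjugation by `x` as an isomorphism from `C_G(Q)` onto `C_G(x Q x⁻¹)`. -/
def cIso (Q : Subgroup G) (x : G) : Subgroup.centralizer (Q : Set G) ≃*
    Subgroup.centralizer ((Q.map (MulAut.conj x).toMonoidHom : Subgroup G) : Set G) where
  toFun c := ⟨x * c * x⁻¹, by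
    rw [centralizer_cj, mem_cj]
    have h : x⁻¹ * (x * (c : G) * x⁻¹) * x = c := by group
    rw [h]
    exact c.2⟩
  invFun c' := ⟨x⁻¹ * c' * x, (mem_centralizer_cj_iff Q x _).mp c'.2⟩
  left_inv c := by
    apply Subtype.ext
    show x⁻¹ * (x * (c : G) * x⁻¹) * x = c
    group
  right_inv c' := by
    apply Subtype.ext
    show x * (x⁻¹ * (c' : G) * x) * x⁻¹ = c'
    group
  map_mul' a b := by
    apply Subtype.ext
    show x * ((a : G) * b) * x⁻¹ = (x * a * x⁻¹) * (x * b * x⁻¹)
    group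

theorem coe_cIso (Q : Subgroup G) (x : G) (c : Subgroup.centralizer (Q : Set G)) :
    ((cIso Q x c : _) : G) = x * c * x⁻¹ := rfl

theorem coe_cIso_symm (Q : Subgroup G) (x : G)
    (c' : Subgroup.centralizer ((Q.map (MulAut.conj x).toMonoidHom : Subgroup G) : Set G)) :
    (((cIso Q x).symm c' : _) : G) = x⁻¹ * c' * x := rfl

/-- The conjugate block is the image of the block under the conjugation isomorphism. -/
theorem conjBlock_eq (Q : Subgroup G) (x : G)
    (f : Set (IrrCharacter (Subgroup.centralizer (Q : Set G)))) :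
    conjBlock Q x f = pull (cIso Q x).symm '' f := by
  ext ξ'
  constructor
  · rintro ⟨ξ, hξ, h⟩
    refine ⟨ξ, hξ, ?_⟩
    apply Subtype.ext
    funext c'
    rw [pull_apply]
    refine (h ((cIso Q x).symm c') c' ?_).symm
    rw [coe_cIso_symm]
    group
  · rintro ⟨ξ, hξ, rfl⟩
    refine ⟨ξ, hξ, fun c c' hcc' => ?_⟩
    rw [pull_apply]
    have h1 : (cIso Q x).symm c' = c := by
      apply Subtype.ext
      rw [coe_cIso_symm, hcc']
      group
    rw [h1]

theorem isPBlock_conjBlock (Q : Subgroup G) (x : G)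
    {f : Set (IrrCharacter (Subgroup.centralizer (Q : Set G)))} (hf : IsPBlock M f) :
    IsPBlock M (conjBlock Q x f) := by
  rw [conjBlock_eq]
  exact isPBlock_pull _ hf

theorem isBrauerPair_conj {p : ℕ} (Q : Subgroup G) (x : G)
    {f : Set (IrrCharacter (Subgroup.centralizer (Q : Set G)))} (h : IsBrauerPair p M Q f) :
    IsBrauerPair p M (Q.map (MulAut.conj x).toMonoidHom) (conjBlock Q x f) :=
  ⟨isPGroup_cj x h.1, isPBlock_conjBlock Q x h.2⟩

/-- Conjugating the idempotent of a block gives the idempotent of the conjugate block. -/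
theorem conjA_ext_blockIdem_conjBlock [Finite G] (Q : Subgroup G) (x : G)
    (f : Set (IrrCharacter (Subgroup.centralizer (Q : Set G)))) :
    conjA x (ext (Subgroup.centralizer (Q : Set G)) (blockIdem f)) =
      ext (Subgroup.centralizer ((Q.map (MulAut.conj x).toMonoidHom : Subgroup G) : Set G))
        (blockIdem (conjBlock Q x f)) := by
  classical
  ext g
  rw [coeff_conjA, coeff_ext, coeff_ext]
  by_cases hg : g ∈ Subgroup.centralizer
      ((Q.map (MulAut.conj x).toMonoidHom : Subgroup G) : Set G)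
  · have hg' := (mem_centralizer_cj_iff Q x g).mp hg
    rw [dif_pos hg, dif_pos hg', coeff_blockIdem, coeff_blockIdem, conjBlock_eq, blockCoeff_pull]
    rfl
  · have hg' : ¬ x⁻¹ * g * x ∈ Subgroup.centralizer (Q : Set G) :=
      fun h => hg ((mem_centralizer_cj_iff Q x g).mpr h)
    rw [dif_neg hg, dif_neg hg']

/-- Central characters are compatible with conjugation. -/
theorem om_conjA [Finite G] (Q : Subgroup G) (x : G)
    (ξ : IrrCharacter (Subgroup.centralizer (Q : Set G))) (z : MonoidAlgebra ℂ G) :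
    om (Subgroup.centralizer ((Q.map (MulAut.conj x).toMonoidHom : Subgroup G) : Set G))
        (pull (cIso Q x).symm ξ : Subgroup.centralizer
          ((Q.map (MulAut.conj x).toMonoidHom : Subgroup G) : Set G) → ℂ) (conjA x z) =
      om (Subgroup.centralizer (Q : Set G)) (ξ : Subgroup.centralizer (Q : Set G) → ℂ) z := by
  classical
  haveI : Fintype (Subgroup.centralizer (Q : Set G)) := Fintype.ofFinite _
  haveI : Fintype (Subgroup.centralizer
      ((Q.map (MulAut.conj x).toMonoidHom : Subgroup G) : Set G)) := Fintype.ofFinite _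
  unfold om omega
  rw [pair_eq_sum, pair_eq_sum]
  congr 1
  · exact Fintype.sum_equiv (cIso Q x).symm.toEquiv _ _ (fun c' => rfl)
  · rw [pull_apply, map_one]

theorem conjA_mem_fixedSubring [Finite G] (P : Subgroup G) (x : G) {z : MonoidAlgebra ℂ G}
    (hz : z ∈ fixedSubring P) :
    conjA x z ∈ fixedSubring (P.map (MulAut.conj x).toMonoidHom) := by
  rw [mem_fixedSubring]
  intro y hy g
  rw [mem_cj] at hy
  rw [coeff_conjA, coeff_conjA]
  have h := (mem_fixedSubring.mp hz) _ hy (x⁻¹ * g * x)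
  rw [← h]
  congr 1
  group

theorem conjA_blockIdem [Finite G] (B : Set (IrrCharacter G)) (x : G) :
    conjA x (blockIdem B) = blockIdem B := by
  ext g
  rw [coeff_conjA, coeff_blockIdem, coeff_blockIdem]
  have h := blockCoeff_conj B x⁻¹ g
  rwa [inv_inv] at h

/-- Conjugation preserves the Brauer pairs of a block of `G`. -/
theorem isBrauerPairOf_conj [Finite G] {p : ℕ} (B : Set (IrrCharacter G)) (Q : Subgroup G)
    (x : G) {f : Set (IrrCharacter (Subgroup.centralizer (Q : Set G)))}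
    (h : IsBrauerPairOf p M B Q f) :
    IsBrauerPairOf p M B (Q.map (MulAut.conj x).toMonoidHom) (conjBlock Q x f) := by
  refine ⟨isBrauerPair_conj Q x h.1, h.2.1, fun ξ' hξ' => ?_⟩
  rw [conjBlock_eq] at hξ'
  obtain ⟨ξ, hξ, rfl⟩ := hξ'
  have h1 := h.2.2 ξ hξ
  rw [brauerOmega_eq] at h1 ⊢
  have h2 : ofFun (blockCoeff B) = conjA x (blockIdem B) := (conjA_blockIdem B x).symm
  rw [h2, om_conjA]
  exact h1

/-- Conjugation preserves normal inclusion of Brauer pairs. -/
theorem isNormalSubpair_conj [Finite G] {p : ℕ} (x : G) {Q P : Subgroup G}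
    {f : Set (IrrCharacter (Subgroup.centralizer (Q : Set G)))}
    {e : Set (IrrCharacter (Subgroup.centralizer (P : Set G)))}
    (h : IsNormalSubpair p M Q f P e) :
    IsNormalSubpair p M (Q.map (MulAut.conj x).toMonoidHom) (conjBlock Q x f)
      (P.map (MulAut.conj x).toMonoidHom) (conjBlock P x e) := by
  obtain ⟨hQf, hPe, hQP, hPN, hst, hbr⟩ := h
  have hPN' : P.map (MulAut.conj x).toMonoidHom ≤
      Subgroup.normalizer ((Q.map (MulAut.conj x).toMonoidHom : Subgroup G) : Set G) := by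
    rw [normalizer_cj]
    exact cj_mono hPN
  have hPNC : P ≤ Subgroup.normalizer
      ((Subgroup.centralizer (Q : Set G) : Subgroup G) : Set G) :=
    hPN.trans (normalizer_le_normalizer_centralizer Q)
  have hPNC' : P.map (MulAut.conj x).toMonoidHom ≤ Subgroup.normalizer
      ((Subgroup.centralizer ((Q.map (MulAut.conj x).toMonoidHom : Subgroup G) : Set G) :
        Subgroup G) : Set G) :=
    hPN'.trans (normalizer_le_normalizer_centralizer _)
  refine ⟨isBrauerPair_conj Q x hQf, isBrauerPair_conj P x hPe, cj_mono hQP, hPN', ?_, ?_⟩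
  · rw [forall_stabilizes_iff _ _ hPNC', ← conjA_ext_blockIdem_conjBlock]
    exact conjA_mem_fixedSubring P x ((forall_stabilizes_iff _ _ hPNC f).mp hst)
  · intro ξ' hξ'
    rw [conjBlock_eq] at hξ'
    obtain ⟨ξ, hξ, rfl⟩ := hξ'
    have h1 := hbr ξ hξ
    rw [brauerOmega_eq, ofFun_subgroupBlockCoeff] at h1 ⊢
    rw [← conjA_ext_blockIdem_conjBlock, om_conjA]
    exact h1

/-- The conjugate of a pair. -/
def cjp (x : G) (a : BrauerPairIdx G) : BrauerPairIdx G :=
  ⟨a.1.map (MulAut.conj x).toMonoidHom, conjBlock a.1 x a.2⟩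

/-- Conjugation preserves inclusion of Brauer pairs. -/
theorem subpairLE_conj [Finite G] {p : ℕ} (x : G) {a b : BrauerPairIdx G}
    (h : Relation.ReflTransGen (NormalSubpairRel p M) a b) :
    Relation.ReflTransGen (NormalSubpairRel p M) (cjp x a) (cjp x b) :=
  h.lift (cjp x) (fun _ _ hab => isNormalSubpair_conj x hab)

/-- Two pairs on equal subgroups whose blocks have a common member are equal. -/
theorem pair_ext [Finite G] (hMp : M.IsPrime) {Q₁ Q₂ : Subgroup G}
    {f₁ : Set (IrrCharacter (Subgroup.centralizer (Q₁ : Set G)))}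
    {f₂ : Set (IrrCharacter (Subgroup.centralizer (Q₂ : Set G)))} (hQ : Q₁ = Q₂)
    (hf₁ : IsPBlock M f₁) (hf₂ : IsPBlock M f₂)
    (h : ∃ ξ₁ ∈ f₁, ∃ ξ₂ ∈ f₂, ∀ (c₁ : Subgroup.centralizer (Q₁ : Set G))
      (c₂ : Subgroup.centralizer (Q₂ : Set G)), (c₁ : G) = (c₂ : G) →
        (ξ₁ : Subgroup.centralizer (Q₁ : Set G) → ℂ) c₁ =
          (ξ₂ : Subgroup.centralizer (Q₂ : Set G) → ℂ) c₂) :
    (⟨Q₁, f₁⟩ : BrauerPairIdx G) = ⟨Q₂, f₂⟩ := by
  subst hQ
  obtain ⟨ξ₁, hξ₁, ξ₂, hξ₂, h12⟩ := h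
  have heq : ξ₁ = ξ₂ := by
    apply Subtype.ext
    funext c
    exact h12 c c rfl
  subst heq
  rw [isPBlock_eq_blockOf hMp hf₁ hξ₁, isPBlock_eq_blockOf hMp hf₂ hξ₂]

end Cfsg.Agent.Lib.Helper77.BPEquiv
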