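import Mathlib
import Cfsg.Prelude.Def_BrauerPairs
import Cfsg.Agent.Lib.Helper77.BPEquiv
import Cfsg.Agent.Lib.Helper16.MinMax

/-!
# Conjugation of Brauer pairs, II

* `cjp_one`, `cjp_mul`: conjugation of pairs is an action.
* `mem_fixedSubring_sup`: elements fixed by two subgroups are fixed by their join.
* `isDefectGroup_pull`, `card_defectGroup_pull`: transport of defect groups along isomorphisms.
-/

set_option autoImplicit false

namespace Cfsg.Agent.Lib.Helper77.BPEquiv2

open Cfsg Cfsg.Agent.Lib.Helper77.LocalRing Cfsg.Agent.Lib.Helper77.CentralChar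
  Cfsg.Agent.Lib.Helper77.ClassSum Cfsg.Agent.Lib.Helper77.BlockIdem
  Cfsg.Agent.Lib.Helper77.BPBasic Cfsg.Agent.Lib.Helper77.BPBrauer
  Cfsg.Agent.Lib.Helper77.BPPairs Cfsg.Agent.Lib.Helper77.BPConj
  Cfsg.Agent.Lib.Helper77.BPNormal Cfsg.Agent.Lib.Helper77.BPSubpair
  Cfsg.Agent.Lib.Helper77.BPTransport Cfsg.Agent.Lib.Helper77.BPEquiv
  Cfsg.Agent.Lib.CT.Wedderburn Cfsg.Agent.Lib.Helper16.ZR Cfsg.Agent.Lib.Helper33.Conj
  Cfsg.Agent.Lib.Helper16.MinMax

universe u v

section Pairs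

variable {G : Type u} [Group G] {M : Ideal AlgInt}

/-- Conjugating a pair by the identity. -/
theorem cjp_one [Finite G] (hMp : M.IsPrime) (a : BrauerPairIdx G) (ha : IsPBlock M a.2) :
    cjp 1 a = a := by
  obtain ⟨Q, f⟩ := a
  obtain ⟨ξ, hξ⟩ := isPBlock_nonempty hMp ha
  show (⟨Q.map (MulAut.conj (1 : G)).toMonoidHom, conjBlock Q 1 f⟩ : BrauerPairIdx G) = ⟨Q, f⟩
  apply pair_ext hMp (cj_one Q) (isPBlock_conjBlock Q 1 ha) ha
  refine ⟨pull (cIso Q 1).symm ξ, ?_, ξ, hξ, ?_⟩
  · rw [conjBlock_eq]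
    exact ⟨ξ, hξ, rfl⟩
  · intro c₁ c₂ h12
    rw [pull_apply]
    have h3 : (cIso Q 1).symm c₁ = c₂ := by
      apply Subtype.ext
      rw [coe_cIso_symm, ← h12]
      group
    rw [h3]

/-- Conjugating a pair twice. -/
theorem cjp_mul [Finite G] (hMp : M.IsPrime) (x y : G) (a : BrauerPairIdx G)
    (ha : IsPBlock M a.2) : cjp y (cjp x a) = cjp (y * x) a := by
  obtain ⟨Q, f⟩ := a
  obtain ⟨ξ, hξ⟩ := isPBlock_nonempty hMp ha
  show (⟨(Q.map (MulAut.conj x).toMonoidHom).map (MulAut.conj y).toMonoidHom,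
      conjBlock (Q.map (MulAut.conj x).toMonoidHom) y (conjBlock Q x f)⟩ : BrauerPairIdx G) =
    ⟨Q.map (MulAut.conj (y * x)).toMonoidHom, conjBlock Q (y * x) f⟩
  apply pair_ext hMp (cj_cj x y Q) (isPBlock_conjBlock _ y (isPBlock_conjBlock Q x ha))
    (isPBlock_conjBlock Q (y * x) ha)
  refine ⟨pull (cIso (Q.map (MulAut.conj x).toMonoidHom) y).symm (pull (cIso Q x).symm ξ), ?_,
    pull (cIso Q (y * x)).symm ξ, ?_, ?_⟩
  · rw [conjBlock_eq]
    refine ⟨pull (cIso Q x).symm ξ, ?_, rfl⟩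
    rw [conjBlock_eq]
    exact ⟨ξ, hξ, rfl⟩
  · rw [conjBlock_eq]
    exact ⟨ξ, hξ, rfl⟩
  · intro c₁ c₂ h12
    rw [pull_apply, pull_apply, pull_apply]
    have h3 : (cIso Q x).symm ((cIso (Q.map (MulAut.conj x).toMonoidHom) y).symm c₁) =
        (cIso Q (y * x)).symm c₂ := by
      apply Subtype.ext
      rw [coe_cIso_symm, coe_cIso_symm, coe_cIso_symm, ← h12]
      group
    rw [h3]

/-- Elements fixed by two subgroups are fixed by their join. -/
theorem mem_fixedSubring_sup [Finite G] {K₁ K₂ : Subgroup G} {z : MonoidAlgebra ℂ G}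
    (h1 : z ∈ fixedSubring K₁) (h2 : z ∈ fixedSubring K₂) : z ∈ fixedSubring (K₁ ⊔ K₂) := by
  let St : Subgroup G :=
    { carrier := {x | ∀ g : G, z.coeff (x * g * x⁻¹) = z.coeff g}
      mul_mem' := by
        intro a b ha hb g
        have h3 : a * b * g * (a * b)⁻¹ = a * (b * g * b⁻¹) * a⁻¹ := by group
        rw [h3, ha, hb]
      one_mem' := by
        intro g
        simp
      inv_mem' := by
        intro a ha g
        have h3 := ha (a⁻¹ * g * a⁻¹⁻¹)
        have h4 : a * (a⁻¹ * g * a⁻¹⁻¹) * a⁻¹ = g := by group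
        rw [h4] at h3
        exact h3.symm }
  have hK₁ : K₁ ≤ St := fun x hx g => (mem_fixedSubring.mp h1) x hx g
  have hK₂ : K₂ ≤ St := fun x hx g => (mem_fixedSubring.mp h2) x hx g
  rw [mem_fixedSubring]
  intro x hx g
  exact (sup_le hK₁ hK₂ hx) g

end Pairs

section Defect

variable {H : Type u} {K : Type u} [Group H] [Group K] {M : Ideal AlgInt}

/-- Transport of defect groups along a group isomorphism. -/
theorem isDefectGroup_pull [Finite H] [Finite K] {p : ℕ} [Fact p.Prime] (φ : H ≃* K)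
    {f : Set (IrrCharacter K)} {D : Subgroup K} (hD : IsDefectGroup p M f D) :
    IsDefectGroup p M (pull φ '' f) (D.map φ.symm.toMonoidHom) := by
  rw [isDefectGroup_iff] at hD ⊢
  obtain ⟨g₀, hg₀, hsyl⟩ := hD
  refine ⟨φ.symm g₀, ⟨?_, ?_, ?_⟩, ?_⟩
  · rw [blockCoeff_pull, MulEquiv.apply_symm_apply]
    exact hg₀.1
  · rw [blockCoeff_pull, MulEquiv.apply_symm_apply]
    exact hg₀.2.1
  · rintro χ' ⟨χ, hχ, rfl⟩
    have h1 := centralChar_pull φ (χ : K → ℂ) (φ.symm g₀)
    rw [MulEquiv.apply_symm_apply] at h1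
    have h2 : centralChar (pull φ χ : H → ℂ) (φ.symm g₀) = centralChar (χ : K → ℂ) g₀ := h1
    rw [h2]
    exact hg₀.2.2 χ hχ
  · have hC : Subgroup.centralizer ({φ.symm g₀} : Set H) =
        (Subgroup.centralizer ({g₀} : Set K)).map φ.symm.toMonoidHom := by
      ext k
      rw [Subgroup.mem_map, mem_centralizer_singleton]
      constructor
      · intro hk
        refine ⟨φ k, ?_, by simp⟩
        rw [mem_centralizer_singleton]
        have h3 := congrArg φ hk
        rw [map_mul, map_mul, MulEquiv.apply_symm_apply] at h3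
        exact h3
      · rintro ⟨y, hy, rfl⟩
        rw [mem_centralizer_singleton] at hy
        show φ.symm g₀ * φ.symm y = φ.symm y * φ.symm g₀
        rw [← map_mul, ← map_mul, hy]
    rw [hC]
    exact ⟨Subgroup.map_mono hsyl.1, hsyl.2.1.map _, by
      rw [Subgroup.relIndex_map_map_of_injective _ _ φ.symm.injective]
      exact hsyl.2.2⟩

/-- All defect groups of the transported block have the order of a defect group of the block. -/
theorem card_defectGroup_pull [Finite H] [Finite K] {p : ℕ} [Fact p.Prime]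
    (hM : IsPModular p M) (φ : H ≃* K) {f : Set (IrrCharacter K)} (hf : IsPBlock M f)
    {D : Subgroup K} (hD : IsDefectGroup p M f D) {D' : Subgroup H}
    (hD' : IsDefectGroup p M (pull φ '' f) D') : Nat.card D' = Nat.card D := by
  obtain ⟨x, hx⟩ := defectGroup_conj hM _ (isPBlock_pull φ hf) (isDefectGroup_pull φ hD) hD'
  rw [hx, card_cj, Subgroup.card_map_of_injective φ.symm.injective]

end Defect

end Cfsg.Agent.Lib.Helper77.BPEquiv2
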