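import Cfsg.Agent.Lib.Helper77.BPSub

/-!
# Brauer pairs of a subgroup `T ≥ C_G(R)` read as Brauer pairs of `G`
-/

set_option autoImplicit false

namespace Cfsg.Agent.Lib.Helper77.BPUp

open Cfsg Cfsg.Agent.Lib.Helper77.LocalRing Cfsg.Agent.Lib.Helper77.CentralChar
  Cfsg.Agent.Lib.Helper77.ClassSum Cfsg.Agent.Lib.Helper77.BlockIdem
  Cfsg.Agent.Lib.Helper77.OsimaVanish Cfsg.Agent.Lib.Helper77.IdemIn
  Cfsg.Agent.Lib.Helper77.BPBasic Cfsg.Agent.Lib.Helper77.BPBrauer
  Cfsg.Agent.Lib.Helper77.BPPairs Cfsg.Agent.Lib.Helper77.BPConj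
  Cfsg.Agent.Lib.Helper77.BPNormal Cfsg.Agent.Lib.Helper77.BPSubpair
  Cfsg.Agent.Lib.Helper77.BPIdem Cfsg.Agent.Lib.Helper77.BPMax
  Cfsg.Agent.Lib.Helper77.BPMax2 Cfsg.Agent.Lib.Helper77.BPEquiv
  Cfsg.Agent.Lib.Helper77.BPEquiv2
  Cfsg.Agent.Lib.Helper77.BPTransport Cfsg.Agent.Lib.Helper77.BPConjMax
  Cfsg.Agent.Lib.Helper77.BPCent Cfsg.Agent.Lib.Helper77.BPStab
  Cfsg.Agent.Lib.Helper77.BPNorm Cfsg.Agent.Lib.Helper77.BPFix
  Cfsg.Agent.Lib.Helper77.BPSub
  Cfsg.Agent.Lib.CT.Wedderburn Cfsg.Agent.Lib.Helper16.ZR Cfsg.Agent.Lib.Helper33.Conj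
  Cfsg.Agent.Lib.Helper16.MinMax

universe u
variable {G : Type u} [Group G] {M : Ideal AlgInt}

section Up

variable (T : Subgroup G)

theorem hS_of_le (R' : Subgroup T)
    (hC : Subgroup.centralizer ((R'.map T.subtype : Subgroup G) : Set G) ≤ T) :
    ∀ x : G, x ∈ Subgroup.centralizer ((R'.map T.subtype : Subgroup G) : Set G) ↔
      ∃ hx : x ∈ T, (⟨x, hx⟩ : T) ∈ Subgroup.centralizer (R' : Set T) := by
  intro x
  constructor
  · intro hx
    refine ⟨hC hx, ?_⟩
    rw [Subgroup.mem_centralizer_iff] at hx ⊢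
    intro r hr
    apply Subtype.ext
    exact hx r ⟨r, hr, rfl⟩
  · rintro ⟨hx, hx'⟩
    rw [Subgroup.mem_centralizer_iff] at hx' ⊢
    rintro _ ⟨r, hr, rfl⟩
    exact congrArg Subtype.val (hx' r hr)

/-- A set of characters of `C_T(R')` read as a set of characters of `C_G(R')`. -/
def upBlock (R' : Subgroup T) (g' : Set (IrrCharacter (Subgroup.centralizer (R' : Set T)))) :
    Set (IrrCharacter (Subgroup.centralizer ((R'.map T.subtype : Subgroup G) : Set G))) :=
  {ξ | ∃ ξ' ∈ g', ∀ (x : Subgroup.centralizer (R' : Set T))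
      (y : Subgroup.centralizer ((R'.map T.subtype : Subgroup G) : Set G)),
      (y : G) = ((x : T) : G) → (ξ : _ → ℂ) y = (ξ' : _ → ℂ) x}

/-- A pair of `T` read as a pair of `G`. -/
def up (a : BrauerPairIdx T) : BrauerPairIdx G := ⟨a.1.map T.subtype, upBlock T a.1 a.2⟩

theorem upBlock_eq (R' : Subgroup T)
    (hC : Subgroup.centralizer ((R'.map T.subtype : Subgroup G) : Set G) ≤ T)
    (g' : Set (IrrCharacter (Subgroup.centralizer (R' : Set T)))) :
    upBlock T R' g' = pull (zIso T R' _ (hS_of_le T R' hC)).symm '' g' := by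
  ext ξ
  constructor
  · rintro ⟨ξ', hξ', h⟩
    refine ⟨ξ', hξ', ?_⟩
    apply Subtype.ext
    funext y
    rw [pull_apply]
    exact (h _ y rfl).symm
  · rintro ⟨ξ', hξ', rfl⟩
    refine ⟨ξ', hξ', ?_⟩
    intro x y hxy
    rw [pull_apply]
    have h2 : (zIso T R' _ (hS_of_le T R' hC)).symm y = x := by
      apply Subtype.ext
      apply Subtype.ext
      exact hxy
    rw [h2]

theorem isPBlock_upBlock (R' : Subgroup T)
    (hC : Subgroup.centralizer ((R'.map T.subtype : Subgroup G) : Set G) ≤ T)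
    {g' : Set (IrrCharacter (Subgroup.centralizer (R' : Set T)))} (hg : IsPBlock M g') :
    IsPBlock M (upBlock T R' g') := by
  rw [upBlock_eq T R' hC]
  exact isPBlock_pull _ hg

theorem blockCoeff_upBlock (R' : Subgroup T)
    (hC : Subgroup.centralizer ((R'.map T.subtype : Subgroup G) : Set G) ≤ T)
    (g' : Set (IrrCharacter (Subgroup.centralizer (R' : Set T))))
    (y : Subgroup.centralizer ((R'.map T.subtype : Subgroup G) : Set G)) :
    blockCoeff (upBlock T R' g') y =
      blockCoeff g' ((zIso T R' _ (hS_of_le T R' hC)).symm y) := by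
  rw [upBlock_eq T R' hC, blockCoeff_pull]

theorem ext_upBlock [Finite G] (R' : Subgroup T)
    (hC : Subgroup.centralizer ((R'.map T.subtype : Subgroup G) : Set G) ≤ T)
    (g' : Set (IrrCharacter (Subgroup.centralizer (R' : Set T)))) :
    ext (Subgroup.centralizer ((R'.map T.subtype : Subgroup G) : Set G))
        (blockIdem (upBlock T R' g')) =
      ext T (ext (Subgroup.centralizer (R' : Set T)) (blockIdem g')) := by
  classical
  ext x
  rw [coeff_ext, coeff_ext]
  by_cases hx : x ∈ Subgroup.centralizer ((R'.map T.subtype : Subgroup G) : Set G)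
  · obtain ⟨hxT, hx'⟩ := (hS_of_le T R' hC x).mp hx
    rw [dif_pos hx, dif_pos hxT, coeff_ext, dif_pos hx', coeff_blockIdem, coeff_blockIdem,
      blockCoeff_upBlock T R' hC]
    rfl
  · rw [dif_neg hx]
    by_cases hxT : x ∈ T
    · rw [dif_pos hxT, coeff_ext, dif_neg]
      intro hx'
      exact hx ((hS_of_le T R' hC x).mpr ⟨hxT, hx'⟩)
    · rw [dif_neg hxT]

theorem conjA_ext [Finite G] (t : T) (w : MonoidAlgebra ℂ T) :
    conjA (t : G) (ext T w) = ext T (conjA t w) := by
  classical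
  ext x
  rw [coeff_conjA, coeff_ext, coeff_ext]
  by_cases hx : x ∈ T
  · have hx' : (t : G)⁻¹ * x * t ∈ T := mul_mem (mul_mem (inv_mem t.2) hx) t.2
    rw [dif_pos hx, dif_pos hx', coeff_conjA]
    rfl
  · have hx' : ¬ (t : G)⁻¹ * x * t ∈ T := by
      intro h
      apply hx
      have h2 : x = (t : G) * ((t : G)⁻¹ * x * t) * (t : G)⁻¹ := by group
      rw [h2]
      exact mul_mem (mul_mem t.2 h) (inv_mem t.2)
    rw [dif_neg hx, dif_neg hx']

theorem map_cj (R' : Subgroup T) (t : T) :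
    (R'.map (MulAut.conj t).toMonoidHom).map T.subtype =
      (R'.map T.subtype).map (MulAut.conj (t : G)).toMonoidHom := by
  ext x
  constructor
  · rintro ⟨_, ⟨r, hr, rfl⟩, rfl⟩
    exact ⟨r, ⟨r, hr, rfl⟩, rfl⟩
  · rintro ⟨_, ⟨r, hr, rfl⟩, rfl⟩
    exact ⟨_, ⟨r, hr, rfl⟩, rfl⟩

theorem centralizer_cj_le (R' : Subgroup T)
    (hC : Subgroup.centralizer ((R'.map T.subtype : Subgroup G) : Set G) ≤ T) (t : T) :
    Subgroup.centralizer
      ((((R'.map (MulAut.conj t).toMonoidHom).map T.subtype : Subgroup G)) : Set G) ≤ T := by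
  rw [map_cj, centralizer_cj]
  intro x hx
  rw [mem_cj] at hx
  have h2 : x = (t : G) * ((t : G)⁻¹ * x * t) * (t : G)⁻¹ := by group
  rw [h2]
  exact mul_mem (mul_mem t.2 (hC hx)) (inv_mem t.2)

/-- Reading a pair of `T` in `G` commutes with conjugation by elements of `T`. -/
theorem up_conj [Finite G] (a : BrauerPairIdx T)
    (hC : Subgroup.centralizer ((a.1.map T.subtype : Subgroup G) : Set G) ≤ T) (t : T) :
    up T (cjp t a) = cjp (t : G) (up T a) := by
  have h1 := ext_upBlock T (a.1.map (MulAut.conj t).toMonoidHom) (centralizer_cj_le T a.1 hC t)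
    (conjBlock a.1 t a.2)
  rw [← conjA_ext_blockIdem_conjBlock, ← conjA_ext, ← ext_upBlock T a.1 hC,
    conjA_ext_blockIdem_conjBlock] at h1
  exact pair_eq_of_ext_eq (map_cj T a.1 t) h1

theorem subgroupBlockCoeff_up [Finite G] (R' : Subgroup T)
    (hC : Subgroup.centralizer ((R'.map T.subtype : Subgroup G) : Set G) ≤ T)
    (g' : Set (IrrCharacter (Subgroup.centralizer (R' : Set T)))) (h : T) :
    subgroupBlockCoeff (Subgroup.centralizer (R' : Set T)) g' h =
      subgroupBlockCoeff (Subgroup.centralizer ((R'.map T.subtype : Subgroup G) : Set G))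
        (upBlock T R' g') (h : G) := by
  rw [← coeff_ext_blockIdem, ← coeff_ext_blockIdem, ext_upBlock T R' hC, coeff_ext_of_mem]

/-- Normal inclusion of pairs of `T` gives normal inclusion of the pairs read in `G`. -/
theorem up_normal [Finite G] {p : ℕ} {a b : BrauerPairIdx T}
    (hC : Subgroup.centralizer ((a.1.map T.subtype : Subgroup G) : Set G) ≤ T)
    (h : IsNormalSubpair p M a.1 a.2 b.1 b.2) :
    IsNormalSubpair p M (up T a).1 (up T a).2 (up T b).1 (up T b).2 := by
  obtain ⟨ha, hb, hle, hN, hst, hbr⟩ := h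
  have hle' : a.1.map T.subtype ≤ b.1.map T.subtype := Subgroup.map_mono hle
  have hCb : Subgroup.centralizer ((b.1.map T.subtype : Subgroup G) : Set G) ≤ T :=
    (Subgroup.centralizer_le hle').trans hC
  have hNG : ∀ x : T, x ∈ b.1 →
      (x : G) ∈ Subgroup.normalizer ((a.1.map T.subtype : Subgroup G) : Set G) := by
    intro x hx
    rw [mem_normalizer_iff_cj_eq, ← map_cj, cj_eq_of_mem_normalizer (hN hx)]
  refine ⟨⟨ha.1.map _, isPBlock_upBlock T a.1 hC ha.2⟩,
    ⟨hb.1.map _, isPBlock_upBlock T b.1 hCb hb.2⟩, hle', ?_, ?_, ?_⟩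
  · rintro _ ⟨x, hx, rfl⟩
    exact hNG x hx
  · rintro _ ⟨x, hx, rfl⟩
    have h1 := hst x hx
    rw [stabilizesBlock_iff_conjA _ x (normalizer_le_normalizer_centralizer a.1 (hN hx))] at h1
    show StabilizesBlock (Subgroup.centralizer ((a.1.map T.subtype : Subgroup G) : Set G))
      (upBlock T a.1 a.2) (x : G)
    rw [stabilizesBlock_iff_conjA _ _ (normalizer_le_normalizer_centralizer _ (hNG x hx))]
    rw [ext_upBlock T a.1 hC, conjA_ext, h1]
  · intro ξ hξ
    have hξ' : ξ ∈ upBlock T b.1 b.2 := hξ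
    rw [upBlock_eq T b.1 hCb] at hξ'
    obtain ⟨ξ', hξ'', rfl⟩ := hξ'
    have h2 := hbr ξ' hξ''
    have h3 := brauerOmega_zIso T b.1 _ (hS_of_le T b.1 hCb)
      (subgroupBlockCoeff (Subgroup.centralizer ((a.1.map T.subtype : Subgroup G) : Set G))
        (upBlock T a.1 a.2))
      (subgroupBlockCoeff (Subgroup.centralizer (a.1 : Set T)) a.2)
      (subgroupBlockCoeff_up T a.1 hC a.2)
      (pull (zIso T b.1 _ (hS_of_le T b.1 hCb)).symm ξ' : _ → ℂ)
    have h4 : (fun x => (pull (zIso T b.1 _ (hS_of_le T b.1 hCb)).symm ξ' : _ → ℂ)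
        (zIso T b.1 _ (hS_of_le T b.1 hCb) x)) = (ξ' : _ → ℂ) := by
      funext x
      rw [pull_apply, MulEquiv.symm_apply_apply]
    rw [h4] at h3
    show MemLocalIdeal M (brauerOmega (b.1.map T.subtype)
      (subgroupBlockCoeff (Subgroup.centralizer ((a.1.map T.subtype : Subgroup G) : Set G))
        (upBlock T a.1 a.2))
      (pull (zIso T b.1 _ (hS_of_le T b.1 hCb)).symm ξ' : _ → ℂ) - 1)
    rw [← h3]
    exact h2

/-- Inclusion of pairs of `T` gives inclusion of the pairs read in `G`. -/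
theorem up_le [Finite G] {p : ℕ} {a b : BrauerPairIdx T}
    (hC : Subgroup.centralizer ((a.1.map T.subtype : Subgroup G) : Set G) ≤ T)
    (h : Relation.ReflTransGen (NormalSubpairRel p M) a b) :
    Relation.ReflTransGen (NormalSubpairRel p M) (up T a) (up T b) := by
  have key : ∀ a : BrauerPairIdx T, Relation.ReflTransGen (NormalSubpairRel p M) a b →
      Subgroup.centralizer ((a.1.map T.subtype : Subgroup G) : Set G) ≤ T →
      Relation.ReflTransGen (NormalSubpairRel p M) (up T a) (up T b) := by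
    intro a h
    induction h using Relation.ReflTransGen.head_induction_on with
    | refl => intro _; exact Relation.ReflTransGen.refl
    | head hac hcb ih =>
      intro hC
      have hac' : IsNormalSubpair p M _ _ _ _ := hac
      exact Relation.ReflTransGen.head (up_normal T hC hac')
        (ih ((Subgroup.centralizer_le (Subgroup.map_mono hac'.2.2.1)).trans hC))
  exact key a h hC

/-- A pair of `G` normally containing `(Q, f)` comes from a pair of the block of `T` whose
idempotent is that of `f`. -/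
theorem exists_down_pair [Finite G] {p : ℕ} {Q R : Subgroup G}
    {f : Set (IrrCharacter (Subgroup.centralizer (Q : Set G)))}
    {g : Set (IrrCharacter (Subgroup.centralizer (R : Set G)))}
    (h : IsNormalSubpair p M Q f R g)
    (hCT : Subgroup.centralizer (Q : Set G) ≤ T) (hRT : R ≤ T)
    (F : Set (IrrCharacter T)) (hF : IsPBlock M F)
    (hFc : ∀ t : T, blockCoeff F t =
      subgroupBlockCoeff (Subgroup.centralizer (Q : Set G)) f (t : G)) :
    ∃ a : BrauerPairIdx T, IsBrauerPairOf p M F a.1 a.2 ∧ up T a = ⟨R, g⟩ := by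
  classical
  have hmap : (R.subgroupOf T).map T.subtype = R := Subgroup.map_subgroupOf_eq_of_le hRT
  have hCR : Subgroup.centralizer (R : Set G) ≤ T :=
    (Subgroup.centralizer_le h.2.2.1).trans hCT
  have hC' : Subgroup.centralizer ((((R.subgroupOf T).map T.subtype : Subgroup G)) : Set G) ≤ T := by
    rw [hmap]
    exact hCR
  have hS : ∀ x : G, x ∈ Subgroup.centralizer (R : Set G) ↔
      ∃ hx : x ∈ T, (⟨x, hx⟩ : T) ∈ Subgroup.centralizer ((R.subgroupOf T : Subgroup T) : Set T) := by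
    have h0 := hS_of_le T (R.subgroupOf T) hC'
    rw [hmap] at h0
    exact h0
  refine ⟨⟨R.subgroupOf T, pull (zIso T (R.subgroupOf T) R hS) '' g⟩,
    ⟨⟨h.2.1.1.comap_subtype, isPBlock_pull _ h.2.1.2⟩, hF, ?_⟩, ?_⟩
  · rintro ξ' ⟨ξ, hξ, rfl⟩
    have h2 := h.2.2.2.2.2 ξ hξ
    have h3 := brauerOmega_zIso T (R.subgroupOf T) R hS
      (subgroupBlockCoeff (Subgroup.centralizer (Q : Set G)) f) (blockCoeff F) hFc
      (ξ : _ → ℂ)
    show MemLocalIdeal M (brauerOmega (R.subgroupOf T) (blockCoeff F)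
      (fun x => (ξ : _ → ℂ) (zIso T (R.subgroupOf T) R hS x)) - 1)
    rw [h3]
    exact h2
  · have h1 := ext_upBlock T (R.subgroupOf T) hC' (pull (zIso T (R.subgroupOf T) R hS) '' g)
    have h2 : ext T (ext (Subgroup.centralizer ((R.subgroupOf T : Subgroup T) : Set T))
        (blockIdem (pull (zIso T (R.subgroupOf T) R hS) '' g))) =
        ext (Subgroup.centralizer (R : Set G)) (blockIdem g) := by
      ext x
      rw [coeff_ext, coeff_ext]
      by_cases hx : x ∈ Subgroup.centralizer (R : Set G)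
      · obtain ⟨hxT, hx'⟩ := (hS x).mp hx
        rw [dif_pos hx, dif_pos hxT, coeff_ext, dif_pos hx', coeff_blockIdem, coeff_blockIdem,
          blockCoeff_pull]
        rfl
      · rw [dif_neg hx]
        by_cases hxT : x ∈ T
        · rw [dif_pos hxT, coeff_ext, dif_neg]
          intro hx'
          exact hx ((hS x).mpr ⟨hxT, hx'⟩)
        · rw [dif_neg hxT]
    rw [h2] at h1
    exact pair_eq_of_ext_eq hmap h1

end Up

end Cfsg.Agent.Lib.Helper77.BPUp
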