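import Cfsg.Agent.Lib.Helper77.BPUp

/-!
# Induced blocks and Brauer pairs

* `isBrauerPairOf_iff_isInducedBlock`: for a `p`-subgroup `P` and a block `c` of `C_G(P)`,
  `(P, c)` is a Brauer pair of `B` iff `c` induces `B`.
* `down`: a pair `(R, g)` of `G` read in a subgroup `T ≥ R C_G(R)`; `up_down`, `up_injective`,
  `stab_up_iff`.
* `isInducedBlockIn_iff_isNormalSubpair`: for `Q ≤ R ≤ C_G(Q)`, the block `g` of `C_G(R)` induces
  the block `f` of `C_G(Q)` inside `C_G(Q)` iff `(Q, f) ⊴ (R, g)`.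
-/

set_option autoImplicit false

namespace Cfsg.Agent.Lib.Helper77.BPInd

open Cfsg Cfsg.Agent.Lib.Helper77.LocalRing Cfsg.Agent.Lib.Helper77.CentralChar
  Cfsg.Agent.Lib.Helper77.ClassSum Cfsg.Agent.Lib.Helper77.BlockIdem
  Cfsg.Agent.Lib.Helper77.OsimaVanish Cfsg.Agent.Lib.Helper77.IdemIn
  Cfsg.Agent.Lib.Helper77.BPBasic Cfsg.Agent.Lib.Helper77.BPBrauer
  Cfsg.Agent.Lib.Helper77.BPPairs Cfsg.Agent.Lib.Helper77.BPConj
  Cfsg.Agent.Lib.Helper77.BPNormal Cfsg.Agent.Lib.Helper77.BPSubpair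
  Cfsg.Agent.Lib.Helper77.BPIdem Cfsg.Agent.Lib.Helper77.BPMax
  Cfsg.Agent.Lib.Helper77.BPMax2 Cfsg.Agent.Lib.Helper77.BPEquiv
  Cfsg.Agent.Lib.Helper77.BPEquiv2
  Cfsg.Agent.Lib.Helper77.BPTransport Cfsg.Agent.Lib.Helper77.BPConjMax
  Cfsg.Agent.Lib.Helper77.BPCent Cfsg.Agent.Lib.Helper77.BPStab
  Cfsg.Agent.Lib.Helper77.BPNorm Cfsg.Agent.Lib.Helper77.BPFix
  Cfsg.Agent.Lib.Helper77.BPSub Cfsg.Agent.Lib.Helper77.BPUp
  Cfsg.Agent.Lib.CT.Wedderburn Cfsg.Agent.Lib.Helper16.ZR Cfsg.Agent.Lib.Helper33.Conj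
  Cfsg.Agent.Lib.Helper16.MinMax

universe u
variable {G : Type u} [Group G] {M : Ideal AlgInt}

theorem isPGroup_of_isDefectGroup {p : ℕ} [Fact p.Prime] {B : Set (IrrCharacter G)}
    {D : Subgroup G} (h : IsDefectGroup p M B D) : IsPGroup p D := by
  obtain ⟨g, -, P, rfl⟩ := h
  exact P.isPGroup'.map _

/-- The induced central character of the Prelude, in group algebra terms. -/
theorem om_classSum [Finite G] (H : Subgroup G) (ξ : H → ℂ) (g : G) :
    om H ξ (classSum g) = inducedCentralChar H ξ g := by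
  classical
  cases nonempty_fintype G
  have : Fintype H := Fintype.ofFinite _
  unfold om omega inducedCentralChar
  rw [pair_eq_sum, Finset.sum_div, finsum_mem_def, finsum_eq_sum_of_fintype]
  apply Finset.sum_congr rfl
  intro h _
  rw [coeff_res]
  unfold classSum
  rw [coeff_ofFun, Set.indicator_apply]
  by_cases hc : IsConj g (h : G)
  · rw [if_pos hc, if_pos (show h ∈ {h : H | IsConj g (h : G)} from hc), one_mul]
  · rw [if_neg hc, if_neg (show ¬ h ∈ {h : H | IsConj g (h : G)} from hc), zero_mul, zero_div]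

/-- For a `p`-subgroup `P` and a block `c` of `C_G(P)`: `(P, c)` is a Brauer pair of `B` iff `c`
induces `B`. -/
theorem isBrauerPairOf_iff_isInducedBlock [Finite G] {p : ℕ} [Fact p.Prime]
    (hM : IsPModular p M) (P : Subgroup G) (hP : IsPGroup p P)
    (c : Set (IrrCharacter (Subgroup.centralizer (P : Set G)))) (B : Set (IrrCharacter G)) :
    IsBrauerPairOf p M B P c ↔ IsInducedBlock M (Subgroup.centralizer (P : Set G)) c B := by
  classical
  have hMp := isPrime_of_isPModular hM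
  have hcs : ∀ g : G, classSum g ∈ fixedSubring (⊤ : Subgroup G) ⊓ intSubring M hMp :=
    fun g => ⟨mem_fixedSubring_top_iff.mpr (classSum_mem_center g),
      classSum_mem_intSubring M hMp g⟩
  constructor
  · rintro ⟨hPc, hB, h⟩
    obtain ⟨χ₀, hχ₀⟩ := exists_irr_of_pair hM P c hPc
    obtain ⟨ξ₀, hξ₀⟩ := isPBlock_nonempty hMp hPc.2
    have hχ₀B : χ₀ ∈ B := by
      by_contra hn
      have h1 := hχ₀ (blockIdem B) (blockIdem_mem_top hMp B hB) ξ₀ hξ₀
      rw [omega_blockIdem, if_neg hn, sub_zero] at h1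
      have h2 := h ξ₀ hξ₀
      have h1' : MemLocalIdeal M (brauerOmega P (blockCoeff B)
          (ξ₀ : Subgroup.centralizer (P : Set G) → ℂ)) := by
        rw [brauerOmega_eq]
        exact h1
      have h3 := memLocalIdeal_sub hMp h1' h2
      rw [sub_sub_cancel] at h3
      exact not_memLocalIdeal_one hMp h3
    refine ⟨hPc.2, hB, fun ξ hξ χ hχ g => ?_⟩
    have h1 := hχ₀ (classSum g) (hcs g) ξ hξ
    rw [om_classSum, omega_classSum _ (fun x k => irr_conj_inv χ₀ x k)] at h1
    have h2 := sameBlock_of_mem hMp hB hχ₀B hχ g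
    have h3 := memLocalIdeal_add hMp h1 h2
    rwa [sub_add_sub_cancel] at h3
  · rintro ⟨hc, hB, h⟩
    have hPc : IsBrauerPair p M P c := ⟨hP, hc⟩
    obtain ⟨χ₀, hχ₀⟩ := exists_irr_of_pair hM P c hPc
    obtain ⟨ξ₀, hξ₀⟩ := isPBlock_nonempty hMp hc
    obtain ⟨χ₁, hχ₁⟩ := isPBlock_nonempty hMp hB
    have hχ₀B : χ₀ ∈ B := by
      rw [isPBlock_eq_blockOf hMp hB hχ₁]
      show SameBlock M (χ₁ : G → ℂ) (χ₀ : G → ℂ)
      intro g
      have h1 := hχ₀ (classSum g) (hcs g) ξ₀ hξ₀
      rw [om_classSum, omega_classSum _ (fun x k => irr_conj_inv χ₀ x k)] at h1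
      have h2 := h ξ₀ hξ₀ χ₁ hχ₁ g
      have h3 := memLocalIdeal_sub hMp h1 h2
      rwa [sub_sub_sub_cancel_left] at h3
    refine ⟨hPc, hB, fun ξ hξ => ?_⟩
    have h1 := hχ₀ (blockIdem B) (blockIdem_mem_top hMp B hB) ξ hξ
    rw [omega_blockIdem, if_pos hχ₀B] at h1
    rw [brauerOmega_eq]
    exact h1

/-! ### Induction inside a subgroup -/

section Z

variable (H : Subgroup G) (R' : Subgroup H) (S : Subgroup G)

theorem inducedCentralChar_zIso (hS : ∀ x : G, x ∈ Subgroup.centralizer (S : Set G) ↔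
      ∃ hx : x ∈ H, (⟨x, hx⟩ : H) ∈ Subgroup.centralizer (R' : Set H))
    (ξ : Subgroup.centralizer (S : Set G) → ℂ) (h : H) :
    inducedCentralChar (Subgroup.centralizer (R' : Set H)) (fun x => ξ (zIso H R' S hS x)) h =
      inducedCentralCharIn H (Subgroup.centralizer (S : Set G)) ξ (h : G) := by
  classical
  unfold inducedCentralChar inducedCentralCharIn
  rw [finsum_mem_def, finsum_mem_def, ← finsum_comp_equiv (zIso H R' S hS).toEquiv]
  apply finsum_congr
  intro k
  show Set.indicator _ _ k = Set.indicator _ _ (zIso H R' S hS k)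
  rw [Set.indicator_apply, Set.indicator_apply]
  have hiff : k ∈ {k : Subgroup.centralizer (R' : Set H) | IsConj h (k : H)} ↔
      zIso H R' S hS k ∈ {k : Subgroup.centralizer (S : Set G) |
        ∃ x : H, (x : G) * (k : G) * (x : G)⁻¹ = (h : G)} := by
    show IsConj h (k : H) ↔ ∃ x : H, (x : G) * ((k : H) : G) * (x : G)⁻¹ = (h : G)
    rw [isConj_iff]
    constructor
    · rintro ⟨c, hc⟩
      refine ⟨c⁻¹, ?_⟩
      rw [← hc]
      simp only [Subgroup.coe_mul, Subgroup.coe_inv]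
      group
    · rintro ⟨x, hx⟩
      refine ⟨x⁻¹, Subtype.ext ?_⟩
      simp only [Subgroup.coe_mul, Subgroup.coe_inv]
      rw [← hx]
      group
  by_cases hk : k ∈ {k : Subgroup.centralizer (R' : Set H) | IsConj h (k : H)}
  · rw [if_pos hk, if_pos (hiff.mp hk)]
    show ξ (zIso H R' S hS k) / ξ (zIso H R' S hS 1) = _
    rw [map_one]
  · rw [if_neg hk, if_neg (fun h' => hk (hiff.mpr h'))]

theorem isInducedBlock_zIso_iff (hS : ∀ x : G, x ∈ Subgroup.centralizer (S : Set G) ↔
      ∃ hx : x ∈ H, (⟨x, hx⟩ : H) ∈ Subgroup.centralizer (R' : Set H))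
    {c : Set (IrrCharacter (Subgroup.centralizer (S : Set G)))} (hc : IsPBlock M c)
    (f : Set (IrrCharacter H)) :
    IsInducedBlock M (Subgroup.centralizer (R' : Set H)) (pull (zIso H R' S hS) '' c) f ↔
      IsInducedBlockIn M H (Subgroup.centralizer (S : Set G)) c f := by
  constructor
  · rintro ⟨_, hf, h⟩
    refine ⟨hc, hf, fun ξ hξ χ hχ x => ?_⟩
    have h1 := h (pull (zIso H R' S hS) ξ) ⟨ξ, hξ, rfl⟩ χ hχ x
    rw [← inducedCentralChar_zIso H R' S hS]
    exact h1
  · rintro ⟨_, hf, h⟩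
    refine ⟨isPBlock_pull _ hc, hf, ?_⟩
    rintro ξ' ⟨ξ, hξ, rfl⟩ χ hχ x
    have h1 := h ξ hξ χ hχ x
    rw [← inducedCentralChar_zIso H R' S hS] at h1
    exact h1

end Z

/-! ### Reading a pair of `G` in a subgroup -/

section Down

variable (T : Subgroup G) (R : Subgroup G)

theorem hS_down (hRT : R ≤ T) (hCR : Subgroup.centralizer (R : Set G) ≤ T) :
    ∀ x : G, x ∈ Subgroup.centralizer (R : Set G) ↔
      ∃ hx : x ∈ T, (⟨x, hx⟩ : T) ∈
        Subgroup.centralizer ((R.subgroupOf T : Subgroup T) : Set T) := by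
  have hmap : (R.subgroupOf T).map T.subtype = R := Subgroup.map_subgroupOf_eq_of_le hRT
  have hC' : Subgroup.centralizer ((((R.subgroupOf T).map T.subtype : Subgroup G)) : Set G) ≤ T := by
    rw [hmap]
    exact hCR
  have h0 := hS_of_le T (R.subgroupOf T) hC'
  rw [hmap] at h0
  exact h0

/-- The pair `(R, g)` of `G` read in `T ≥ R C_G(R)`. -/
def down (hRT : R ≤ T) (hCR : Subgroup.centralizer (R : Set G) ≤ T)
    (g : Set (IrrCharacter (Subgroup.centralizer (R : Set G)))) : BrauerPairIdx T :=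
  ⟨R.subgroupOf T, pull (zIso T (R.subgroupOf T) R (hS_down T R hRT hCR)) '' g⟩

theorem up_down [Finite G] (hRT : R ≤ T) (hCR : Subgroup.centralizer (R : Set G) ≤ T)
    (g : Set (IrrCharacter (Subgroup.centralizer (R : Set G)))) :
    up T (down T R hRT hCR g) = ⟨R, g⟩ := by
  classical
  have hS := hS_down T R hRT hCR
  have hmap : (R.subgroupOf T).map T.subtype = R := Subgroup.map_subgroupOf_eq_of_le hRT
  have hC' : Subgroup.centralizer ((((R.subgroupOf T).map T.subtype : Subgroup G)) : Set G) ≤ T := by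
    rw [hmap]
    exact hCR
  have h1 := ext_upBlock T (R.subgroupOf T) hC' (pull (zIso T (R.subgroupOf T) R hS) '' g)
  have h2 : ext T (ext (Subgroup.centralizer ((R.subgroupOf T : Subgroup T) : Set T))
      (blockIdem (pull (zIso T (R.subgroupOf T) R hS) '' g))) =
      ext (Subgroup.centralizer (R : Set G)) (blockIdem g) := by
    ext x
    rw [coeff_ext, coeff_ext]
    by_cases hx : x ∈ Subgroup.centralizer (R : Set G)
    · obtain ⟨hxT, hx'⟩ := (hS x).mp hx
      rw [dif_pos hx, dif_pos hxT, coeff_ext, dif_pos hx', coeff_blockIdem, coeff_blockIdem,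
        blockCoeff_pull]
      rfl
    · rw [dif_neg hx]
      by_cases hxT : x ∈ T
      · rw [dif_pos hxT, coeff_ext, dif_neg]
        intro hx'
        exact hx ((hS x).mpr ⟨hxT, hx'⟩)
      · rw [dif_neg hxT]
  rw [h2] at h1
  exact pair_eq_of_ext_eq hmap h1

theorem up_injective {a b : BrauerPairIdx T}
    (hC : Subgroup.centralizer ((a.1.map T.subtype : Subgroup G) : Set G) ≤ T)
    (h : up T a = up T b) : a = b := by
  obtain ⟨A, α⟩ := a
  obtain ⟨A', α'⟩ := b
  have h1 : A.map T.subtype = A'.map T.subtype := congrArg Sigma.fst h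
  have h2 : A = A' := Subgroup.map_injective T.subtype_injective h1
  subst h2
  have h' : (⟨A.map T.subtype, upBlock T A α⟩ : BrauerPairIdx G) =
      ⟨A.map T.subtype, upBlock T A α'⟩ := h
  have h3 : upBlock T A α = upBlock T A α' := eq_of_heq (Sigma.mk.inj_iff.mp h').2
  rw [upBlock_eq T A hC, upBlock_eq T A hC] at h3
  rw [(Set.image_injective.mpr (pull_injective _)) h3]

/-- An element of `T` stabilizes a pair of `T` iff it stabilizes the pair read in `G`. -/
theorem stab_up_iff [Finite G] (a : BrauerPairIdx T)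
    (hC : Subgroup.centralizer ((a.1.map T.subtype : Subgroup G) : Set G) ≤ T) (t : T) :
    (t ∈ Subgroup.normalizer (a.1 : Set T) ∧
        StabilizesBlock (Subgroup.centralizer (a.1 : Set T)) a.2 t) ↔
      ((t : G) ∈ Subgroup.normalizer (((up T a).1 : Subgroup G) : Set G) ∧
        StabilizesBlock (Subgroup.centralizer (((up T a).1 : Subgroup G) : Set G))
          (up T a).2 (t : G)) := by
  constructor
  · rintro ⟨h1, h2⟩
    have h3 : cjp t a = a := cjp_eq_self h1 h2
    have h4 := up_conj T a hC t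
    rw [h3] at h4
    exact stabilizes_of_cjp_eq h4.symm
  · rintro ⟨h1, h2⟩
    have h3 : cjp (t : G) (up T a) = up T a := cjp_eq_self h1 h2
    have h4 := up_conj T a hC t
    rw [h3] at h4
    have h5 : a = cjp t a := up_injective T hC h4.symm
    exact stabilizes_of_cjp_eq h5.symm

end Down

/-- For `Q ≤ R ≤ C_G(Q)`: the pair `(R, g)` read in `C_G(Q)` is a Brauer pair of the block `f`
of `C_G(Q)` iff `(Q, f) ⊴ (R, g)`. -/
theorem isBrauerPairOf_down_iff [Finite G] {p : ℕ} [Fact p.Prime]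
    {Q R : Subgroup G} (hQR : Q ≤ R) (hRC : R ≤ Subgroup.centralizer (Q : Set G))
    (f : Set (IrrCharacter (Subgroup.centralizer (Q : Set G)))) (hf : IsPBlock M f)
    (g : Set (IrrCharacter (Subgroup.centralizer (R : Set G)))) (hRg : IsBrauerPair p M R g) :
    IsBrauerPairOf p M f
        (down (Subgroup.centralizer (Q : Set G)) R hRC (Subgroup.centralizer_le hQR) g).1
        (down (Subgroup.centralizer (Q : Set G)) R hRC (Subgroup.centralizer_le hQR) g).2 ↔
      IsNormalSubpair p M Q f R g := by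
  have hS := hS_down (Subgroup.centralizer (Q : Set G)) R hRC (Subgroup.centralizer_le hQR)
  have hFc : ∀ t : Subgroup.centralizer (Q : Set G), blockCoeff f t =
      subgroupBlockCoeff (Subgroup.centralizer (Q : Set G)) f (t : G) :=
    fun t => (subgroupBlockCoeff_coe _ f t).symm
  constructor
  · intro h
    refine ⟨⟨hRg.1.to_le hQR, hf⟩, hRg, hQR,
      hRC.trans (Subgroup.centralizer_le_normalizer _),
      fun x hx => stabilizes_of_mem_centralizer Q f (hRC hx), fun ξ hξ => ?_⟩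
    have h2 := h.2.2 (pull (zIso _ (R.subgroupOf (Subgroup.centralizer (Q : Set G))) R hS) ξ)
      ⟨ξ, hξ, rfl⟩
    have h3 := brauerOmega_zIso _ (R.subgroupOf (Subgroup.centralizer (Q : Set G))) R hS
      (subgroupBlockCoeff (Subgroup.centralizer (Q : Set G)) f) (blockCoeff f) hFc
      (ξ : _ → ℂ)
    rw [← h3]
    exact h2
  · intro h
    refine ⟨⟨h.2.1.1.comap_subtype, isPBlock_pull _ h.2.1.2⟩, hf, ?_⟩
    rintro ξ' ⟨ξ, hξ, rfl⟩
    have h2 := h.2.2.2.2.2 ξ hξ
    have h3 := brauerOmega_zIso _ (R.subgroupOf (Subgroup.centralizer (Q : Set G))) R hS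
      (subgroupBlockCoeff (Subgroup.centralizer (Q : Set G)) f) (blockCoeff f) hFc
      (ξ : _ → ℂ)
    show MemLocalIdeal M (brauerOmega (R.subgroupOf (Subgroup.centralizer (Q : Set G)))
      (blockCoeff f)
      (fun x => (ξ : _ → ℂ) (zIso _ (R.subgroupOf (Subgroup.centralizer (Q : Set G))) R hS x)) - 1)
    rw [h3]
    exact h2

/-- For `Q ≤ R ≤ C_G(Q)` with `R` a `p`-group: the block `g` of `C_G(R)` induces the block `f`
of `C_G(Q)` inside `C_G(Q)` iff `(Q, f) ⊴ (R, g)`. -/
theorem isInducedBlockIn_iff_isNormalSubpair [Finite G] {p : ℕ} [Fact p.Prime]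
    (hM : IsPModular p M)
    {Q R : Subgroup G} (hQR : Q ≤ R) (hRC : R ≤ Subgroup.centralizer (Q : Set G))
    (f : Set (IrrCharacter (Subgroup.centralizer (Q : Set G)))) (hf : IsPBlock M f)
    (g : Set (IrrCharacter (Subgroup.centralizer (R : Set G)))) (hRg : IsBrauerPair p M R g) :
    IsInducedBlockIn M (Subgroup.centralizer (Q : Set G)) (Subgroup.centralizer (R : Set G)) g f ↔
      IsNormalSubpair p M Q f R g := by
  have hS := hS_down (Subgroup.centralizer (Q : Set G)) R hRC (Subgroup.centralizer_le hQR)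
  rw [← isBrauerPairOf_down_iff hQR hRC f hf g hRg,
    ← isInducedBlock_zIso_iff (Subgroup.centralizer (Q : Set G))
      (R.subgroupOf (Subgroup.centralizer (Q : Set G))) R hS hRg.2 f]
  exact (isBrauerPairOf_iff_isInducedBlock hM _ hRg.1.comap_subtype _ f).symm

end Cfsg.Agent.Lib.Helper77.BPInd
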