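import Cfsg.Agent.Lib.Helper77.BPFus
import Cfsg.Agent.Lib.Helper77.BPInd
import Cfsg.Agent.Lib.Helper16.BPLocal
import Cfsg.Agent.Lib.Helper16.Defect
import Cfsg.Agent.S4539
import Cfsg.Agent.S4511

/-!
# Blocks with cyclic defect group and trivial inertial quotient have one Brauer character

`blockRank_eq_one_of_cyclic`: if `(P, c)` is a maximal Brauer pair of the block `B`, `P` is cyclic
and `N_G(P, c) = C_G(P)`, then `l(B) = 1`.

Proof: `k(B) ≤ |P|` by the major subsection at a generator of `P` (its block has central defect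
group, hence one Brauer character), and `k(B) ≥ l(B) + |P| - 1` by Brauer's count of characters
by subsections: the subsections `(u, b_u)`, `u ∈ P`, are pairwise non-conjugate since fusion of
subpairs of `(P, c)` is controlled by `N_G(P, c)`.
-/

set_option autoImplicit false

namespace Cfsg.Agent.Lib.Helper77.BPCyc

open Cfsg Cfsg.Agent.Lib.Helper77.LocalRing Cfsg.Agent.Lib.Helper77.BPNormal
  Cfsg.Agent.Lib.Helper77.BPEquiv Cfsg.Agent.Lib.Helper77.BPEquiv2
  Cfsg.Agent.Lib.Helper77.BPConjMax Cfsg.Agent.Lib.Helper77.BPFix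
  Cfsg.Agent.Lib.Helper77.BPSub Cfsg.Agent.Lib.Helper77.BPSubpair
  Cfsg.Agent.Lib.Helper77.BPUp Cfsg.Agent.Lib.Helper77.BPInd
  Cfsg.Agent.Lib.Helper77.BPFus Cfsg.Agent.Lib.Helper77.BPMax2
  Cfsg.Agent.Lib.Helper77.BPTransport
  Cfsg.Agent.Lib.Helper33.Conj Cfsg.Agent.Lib.Helper16.ZR Cfsg.Agent.Lib.Helper16.BPLocal
  Cfsg.Agent.Lib.Helper16.Defect Cfsg.Agent.Lib.CT.Wedderburn

universe u
variable {G : Type u} [Group G] {M : Ideal AlgInt}

theorem centralizer_zpowers_eq (x : G) :
    Subgroup.centralizer ((Subgroup.zpowers x : Subgroup G) : Set G) =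
      Subgroup.centralizer ({x} : Set G) := by
  ext g
  rw [Subgroup.mem_centralizer_iff, Subgroup.mem_centralizer_iff]
  constructor
  · intro h y hy
    rw [Set.mem_singleton_iff] at hy
    rw [hy]
    exact h x (Subgroup.mem_zpowers x)
  · intro h y hy
    obtain ⟨k, rfl⟩ := Subgroup.mem_zpowers_iff.mp hy
    have h1 : Commute x g := h x rfl
    exact (h1.zpow_left k).eq

/-- The subsections `(u, b_u)` attached to the elements `u` of `P`: the block of `C_G(x)`, for a
conjugate `x` of `u`, which is the conjugate of the block of `C_G(u)` lying below `(P, c)`. -/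
def IsSubsectionBlock (p : ℕ) (M : Ideal AlgInt) (P : Subgroup G)
    (c : Set (IrrCharacter (Subgroup.centralizer (P : Set G)))) (x u : G)
    (b : Set (IrrCharacter (Subgroup.centralizer ({x} : Set G)))) : Prop :=
  ∃ (a : BrauerPairIdx G) (g : G), g * u * g⁻¹ = x ∧ a.1 = Subgroup.zpowers u ∧
    IsPBlock M a.2 ∧ Relation.ReflTransGen (NormalSubpairRel p M) a ⟨P, c⟩ ∧ HEq (cjp g a).2 b

theorem exists_subsectionBlock [Finite G] {p : ℕ} [Fact p.Prime] (hM : IsPModular p M)
    {B : Set (IrrCharacter G)} {P : Subgroup G}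
    {c : Set (IrrCharacter (Subgroup.centralizer (P : Set G)))}
    (hmax : IsMaximalBrauerPair p M B P c) {x u : G} (hu : u ∈ P) (hux : IsConj u x) :
    ∃ b : Set (IrrCharacter (Subgroup.centralizer ({x} : Set G))),
      IsInducedBlock M (Subgroup.centralizer ({x} : Set G)) b B ∧
        IsSubsectionBlock p M P c x u b := by
  have hB : IsPBlock M B := hmax.1.2.1
  have hPe : IsBrauerPair p M P c := hmax.1.1
  have hR : Subgroup.zpowers u ≤ P := Subgroup.zpowers_le.mpr hu
  obtain ⟨f, hle⟩ := exists_subpair hM P c hPe (Subgroup.zpowers u) hR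
  obtain ⟨g, hg⟩ := isConj_iff.mp hux
  have hfb : IsPBlock M f := (isBrauerPair_of_le ⟨Subgroup.zpowers u, f⟩ ⟨P, c⟩ hle hPe).2
  have hpairB : IsBrauerPairOf p M B (Subgroup.zpowers u) f :=
    (isBrauerPairOf_iff_of_le hM B hB ⟨Subgroup.zpowers u, f⟩ ⟨P, c⟩ hle).mp hmax.1
  have hconj := isBrauerPairOf_conj B (Subgroup.zpowers u) g hpairB
  have hind := (isBrauerPairOf_iff_isInducedBlock hM _ hconj.1.1 _ B).mp hconj
  have hK : Subgroup.centralizer
      (((Subgroup.zpowers u).map (MulAut.conj g).toMonoidHom : Subgroup G) : Set G) =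
      Subgroup.centralizer ({x} : Set G) := by
    rw [MonoidHom.map_zpowers, centralizer_zpowers_eq]
    have h1 : (MulAut.conj g).toMonoidHom u = x := by
      rw [← hg]
      simp [MulAut.conj_apply]
    rw [h1]
  obtain ⟨b, hheq, hbind, -, -⟩ := transport (p := p) (M := M) B hK
    (conjBlock (Subgroup.zpowers u) g f)
  exact ⟨b, hbind hind, ⟨Subgroup.zpowers u, f⟩, g, hg, rfl, hfb, hle, hheq⟩

theorem subsectionBlock_injective [Finite G] {p : ℕ} [Fact p.Prime] (hM : IsPModular p M)
    {B : Set (IrrCharacter G)} {P : Subgroup G}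
    {c : Set (IrrCharacter (Subgroup.centralizer (P : Set G)))}
    (hmax : IsMaximalBrauerPair p M B P c) (hab : ∀ x ∈ P, ∀ y ∈ P, x * y = y * x)
    (hnil : ∀ x ∈ Subgroup.normalizer (P : Set G),
      StabilizesBlock (Subgroup.centralizer (P : Set G)) c x →
        x ∈ Subgroup.centralizer (P : Set G))
    {x u u' : G} (hu : u ∈ P)
    {b : Set (IrrCharacter (Subgroup.centralizer ({x} : Set G)))}
    (h : IsSubsectionBlock p M P c x u b) (h' : IsSubsectionBlock p M P c x u' b) : u = u' := by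
  have hMp := isPrime_of_isPModular hM
  obtain ⟨⟨Q, f⟩, g, hg, ha1, hfb, hle, hheq⟩ := h
  obtain ⟨⟨Q', f'⟩, g', hg', ha1', hfb', hle', hheq'⟩ := h'
  simp only at ha1 ha1' hfb hfb'
  have h1 : (cjp g ⟨Q, f⟩).1 = (cjp g' ⟨Q', f'⟩).1 := by
    show Q.map (MulAut.conj g).toMonoidHom = Q'.map (MulAut.conj g').toMonoidHom
    rw [ha1, ha1', MonoidHom.map_zpowers, MonoidHom.map_zpowers]
    have e1 : (MulAut.conj g).toMonoidHom u = x := by
      rw [← hg]
      simp [MulAut.conj_apply]
    have e2 : (MulAut.conj g').toMonoidHom u' = x := by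
      rw [← hg']
      simp [MulAut.conj_apply]
    rw [e1, e2]
  have h3 : cjp g ⟨Q, f⟩ = cjp g' ⟨Q', f'⟩ := Sigma.ext h1 (hheq.trans hheq'.symm)
  have hfus : cjp (g'⁻¹ * g) ⟨Q, f⟩ = (⟨Q', f'⟩ : BrauerPairIdx G) := by
    rw [← cjp_mul hMp g g'⁻¹ ⟨Q, f⟩ hfb, h3, cjp_mul hMp g' g'⁻¹ ⟨Q', f'⟩ hfb', inv_mul_cancel,
      cjp_one hMp ⟨Q', f'⟩ hfb']
  obtain ⟨c₀, hc₀, y, hyN, hys, hxy⟩ := exists_mul_of_conj hM hmax hab hfb hfb' hle hle'
    (g'⁻¹ * g) hfus
  have hyC := hnil y hyN hys
  have hyu : u * y = y * u := Subgroup.mem_centralizer_iff.mp hyC u hu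
  have hcu : u' * c₀ = c₀ * u' := by
    refine Subgroup.mem_centralizer_iff.mp hc₀ u' ?_
    rw [ha1']
    exact Subgroup.mem_zpowers u'
  have e1 : (g'⁻¹ * g) * u = u' * (g'⁻¹ * g) := by
    have h5 : g * u = x * g := by rw [← hg]; group
    have h6 : g'⁻¹ * x = u' * g'⁻¹ := by rw [← hg']; group
    calc (g'⁻¹ * g) * u = g'⁻¹ * (g * u) := by group
      _ = g'⁻¹ * (x * g) := by rw [h5]
      _ = (g'⁻¹ * x) * g := by group
      _ = (u' * g'⁻¹) * g := by rw [h6]
      _ = u' * (g'⁻¹ * g) := by group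
  rw [hxy] at e1
  have e2 : c₀ * u * y = c₀ * u' * y := by
    calc c₀ * u * y = c₀ * (u * y) := by group
      _ = c₀ * (y * u) := by rw [hyu]
      _ = (c₀ * y) * u := by group
      _ = u' * (c₀ * y) := e1
      _ = (u' * c₀) * y := by group
      _ = c₀ * u' * y := by rw [hcu]
  exact mul_left_cancel (mul_right_cancel e2)

/-- **Cyclic defect group with trivial inertial quotient.**  If `(P, c)` is a maximal Brauer pair
of the block `B`, `P` is cyclic and `N_G(P, c) = C_G(P)`, then `B` has a single irreducible Brauer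
character: `l(B) = 1`. -/
theorem blockRank_eq_one_of_cyclic [Finite G] {p : ℕ} [Fact p.Prime] (hM : IsPModular p M)
    {B : Set (IrrCharacter G)} {P : Subgroup G}
    {c : Set (IrrCharacter (Subgroup.centralizer (P : Set G)))}
    (hmax : IsMaximalBrauerPair p M B P c) (hcyc : IsCyclic P)
    (hnil : ∀ x ∈ Subgroup.normalizer (P : Set G),
      StabilizesBlock (Subgroup.centralizer (P : Set G)) c x →
        x ∈ Subgroup.centralizer (P : Set G)) :
    blockRank p B = 1 := by
  classical
  have hMp := isPrime_of_isPModular hM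
  have hp : p.Prime := Fact.out
  have hB : IsPBlock M B := hmax.1.2.1
  have hPe : IsBrauerPair p M P c := hmax.1.1
  have hPp : IsPGroup p P := hPe.1
  have hPD : IsDefectGroup p M B P := isDefectGroup_of_maximal hM hmax
  obtain ⟨⟨z, hzP⟩, hz⟩ := hcyc.exists_generator
  have hgen : ∀ x ∈ P, x ∈ Subgroup.zpowers z := by
    intro x hx
    obtain ⟨k, hk⟩ := Subgroup.mem_zpowers_iff.mp (hz ⟨x, hx⟩)
    refine Subgroup.mem_zpowers_iff.mpr ⟨k, ?_⟩
    have h1 := congrArg Subtype.val hk
    simpa using h1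
  have hPab : ∀ x ∈ P, ∀ x' ∈ P, x * x' = x' * x := by
    intro x hx x' hx'
    obtain ⟨k, rfl⟩ := Subgroup.mem_zpowers_iff.mp (hgen x hx)
    obtain ⟨l, rfl⟩ := Subgroup.mem_zpowers_iff.mp (hgen x' hx')
    rw [← zpow_add, ← zpow_add, add_comm]
  have hPC : P ≤ Subgroup.centralizer (P : Set G) := by
    intro u hu
    rw [Subgroup.mem_centralizer_iff]
    intro q hq
    exact hPab q hq u hu
  -- the upper bound `k(B) ≤ |P|`
  have hupper : Nat.card B ≤ Nat.card P := by
    have hcent : Subgroup.centralizer (P : Set G) = Subgroup.centralizer ({z} : Set G) := by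
      rw [← centralizer_zpowers_eq]
      have hPz : P = Subgroup.zpowers z := le_antisymm hgen (Subgroup.zpowers_le.mpr hzP)
      rw [← hPz]
    have hcB : IsInducedBlock M (Subgroup.centralizer (P : Set G)) c B :=
      (isBrauerPairOf_iff_isInducedBlock hM P hPp c B).mp hmax.1
    have hcD : IsDefectGroup p M c (P.subgroupOf (Subgroup.centralizer (P : Set G))) :=
      isDefectGroup_of_le_centralizer hM hmax
        (Relation.ReflTransGen.refl : SubpairLE p M P c P c) hPC
    have hcZ : P.subgroupOf (Subgroup.centralizer (P : Set G)) ≤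
        Subgroup.center (Subgroup.centralizer (P : Set G)) := by
      intro u hu
      rw [Subgroup.mem_center_iff]
      intro g
      apply Subtype.ext
      rw [Subgroup.coe_mul, Subgroup.coe_mul]
      exact (Subgroup.mem_centralizer_iff.mp g.2 _ (Subgroup.mem_subgroupOf.mp hu)).symm
    have hrank : blockRank p c = 1 := by
      haveI : Fintype (Subgroup.centralizer (P : Set G)) := Fintype.ofFinite _
      exact Cfsg.Agent.S4669.result p M hM c hPe.2 _ hcD hcZ
    obtain ⟨b', -, hb'1, hb'2, hb'3⟩ := transport (p := p) (M := M) B hcent c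
    have h39 := Cfsg.Agent.S4539.result p M hM B hB P hPD z hzP (fun d hd => hPab d hd z hzP) b'
      (hb'1 hcB) (hb'2 P hcD) (by rw [hb'3, hrank]; norm_num)
    rwa [← card_defectGroup p hM B hB P hPD] at h39
  -- class representatives
  haveI : Fintype G := Fintype.ofFinite G
  obtain ⟨rep, hrep⟩ : ∃ rep : G → G, ∀ g, rep g = Quotient.out (ConjClasses.mk g) :=
    ⟨_, fun _ => rfl⟩
  have hrepconj : ∀ g, IsConj g (rep g) := by
    intro g
    rw [hrep]
    apply ConjClasses.mk_eq_mk_iff_isConj.mp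
    exact (Quotient.out_eq (ConjClasses.mk g)).symm
  have hrepeq : ∀ g g', IsConj g g' → rep g = rep g' := by
    intro g g' h
    rw [hrep, hrep, ConjClasses.mk_eq_mk_iff_isConj.mpr h]
  have hord : ∀ g g' : G, IsConj g g' → orderOf g = orderOf g' := by
    intro g g' h
    obtain ⟨x, rfl⟩ := isConj_iff.mp h
    exact (orderOf_injective (MulAut.conj x).toMonoidHom (MulAut.conj x).injective g).symm
  obtain ⟨X, hXdef⟩ : ∃ X : Finset G, ∀ x, x ∈ X ↔ (∃ k : ℕ, orderOf x = p ^ k) ∧ rep x = x :=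
    ⟨Finset.univ.filter (fun x => (∃ k : ℕ, orderOf x = p ^ k) ∧ rep x = x), fun x => by simp⟩
  have hX : ∀ x ∈ X, ∃ k : ℕ, orderOf x = p ^ k := fun x hx => ((hXdef x).mp hx).1
  have hXrep : ∀ g : G, (∃ k : ℕ, orderOf g = p ^ k) → ∃! x, x ∈ X ∧ IsConj g x := by
    intro g hg
    refine ⟨rep g, ⟨(hXdef _).mpr ⟨?_, ?_⟩, hrepconj g⟩, ?_⟩
    · obtain ⟨k, hk⟩ := hg
      exact ⟨k, by rw [← hord g (rep g) (hrepconj g), hk]⟩
    · exact hrepeq _ _ (hrepconj g).symm
    · rintro y ⟨hyX, hgy⟩
      rw [← ((hXdef y).mp hyX).2]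
      exact hrepeq _ _ hgy.symm
  have hcount := Cfsg.Agent.S4511.result p M hM B hB X hX hXrep
  obtain ⟨t, ht⟩ : ∃ t : G → ℕ, ∀ x, t x =
      ∑ᶠ b ∈ {b : Set (IrrCharacter (Subgroup.centralizer ({x} : Set G))) |
        IsInducedBlock M (Subgroup.centralizer ({x} : Set G)) b B}, blockRank p b :=
    ⟨_, fun _ => rfl⟩
  have hcount' : Nat.card B = ∑ x ∈ X, t x := by
    rw [hcount]
    exact Finset.sum_congr rfl (fun x _ => (ht x).symm)
  have hfin : ∀ x : G, Finite (Set (IrrCharacter (Subgroup.centralizer ({x} : Set G)))) := by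
    intro x
    haveI := finite_irrCharacter (Subgroup.centralizer ({x} : Set G))
    infer_instance
  have hpos : ∀ (x : G) (b : Set (IrrCharacter (Subgroup.centralizer ({x} : Set G)))),
      IsInducedBlock M (Subgroup.centralizer ({x} : Set G)) b B → 1 ≤ blockRank p b := by
    intro x b hb
    obtain ⟨ψ, hψ⟩ := isPBlock_nonempty hMp hb.1
    exact blockRank_pos p hψ
  -- the term at `1`
  have h1X : (1 : G) ∈ X := by
    refine (hXdef 1).mpr ⟨⟨0, by simp⟩, ?_⟩
    exact (isConj_one_right.mp (hrepconj 1))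
  have ht1 : blockRank p B ≤ t 1 := by
    have hK : Subgroup.centralizer (((⊥ : Subgroup G) : Set G)) =
        Subgroup.centralizer ({1} : Set G) := by
      rw [Subgroup.coe_bot]
    have hbot := isBrauerPairOf_bot hM B hB
    have hind := (isBrauerPairOf_iff_isInducedBlock hM ⊥ hbot.1.1 _ B).mp hbot
    obtain ⟨b₁, -, hb1, -, hb3⟩ := transport (p := p) (M := M) B hK (pull (botIso G) '' B)
    rw [blockRank_pull] at hb3
    rw [ht 1, ← hb3]
    haveI := hfin 1
    rw [finsum_mem_eq_finite_toFinset_sum _ (Set.toFinite _)]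
    exact Finset.single_le_sum (f := fun b => blockRank p b) (fun _ _ => Nat.zero_le _)
      ((Set.Finite.mem_toFinset _).mpr (hb1 hind))
  -- the other terms
  obtain ⟨Pfin, hPfin⟩ : ∃ Pfin : Finset G, ∀ u, u ∈ Pfin ↔ u ∈ P :=
    ⟨Finset.univ.filter (fun u => u ∈ P), fun u => by simp⟩
  have hPcard : Nat.card P = Pfin.card := Nat.subtype_card Pfin hPfin
  have htx : ∀ x ∈ X.erase 1, ((Pfin.erase 1).filter (fun u => rep u = x)).card ≤ t x := by
    intro x hx
    have hex : ∀ u : G, ∃ b : Set (IrrCharacter (Subgroup.centralizer ({x} : Set G))),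
        u ∈ (Pfin.erase 1).filter (fun u => rep u = x) →
          IsInducedBlock M (Subgroup.centralizer ({x} : Set G)) b B ∧
            IsSubsectionBlock p M P c x u b := by
      intro u
      by_cases hu : u ∈ (Pfin.erase 1).filter (fun u => rep u = x)
      · rw [Finset.mem_filter, Finset.mem_erase] at hu
        have hux : IsConj u x := by
          have h1 := hrepconj u
          rwa [hu.2] at h1
        obtain ⟨b, hb1, hb2⟩ := exists_subsectionBlock hM hmax ((hPfin u).mp hu.1.2) hux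
        exact ⟨b, fun _ => ⟨hb1, hb2⟩⟩
      · exact ⟨∅, fun h => absurd h hu⟩
    choose β hβ using hex
    haveI := hfin x
    rw [ht x, finsum_mem_eq_finite_toFinset_sum _ (Set.toFinite _)]
    have hle1 : ((Pfin.erase 1).filter (fun u => rep u = x)).card ≤
        (Set.toFinite {b : Set (IrrCharacter (Subgroup.centralizer ({x} : Set G))) |
          IsInducedBlock M (Subgroup.centralizer ({x} : Set G)) b B}).toFinset.card := by
      apply Finset.card_le_card_of_injOn β
      · intro u hu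
        rw [Finset.mem_coe] at hu
        rw [Finset.mem_coe, Set.Finite.mem_toFinset]
        exact (hβ u hu).1
      · intro u hu u' hu' hbb
        rw [Finset.mem_coe] at hu hu'
        have hu1 := (hβ u hu).2
        have hu2 := (hβ u' hu').2
        rw [← hbb] at hu2
        have huP : u ∈ P := by
          rw [Finset.mem_filter, Finset.mem_erase] at hu
          exact (hPfin u).mp hu.1.2
        exact subsectionBlock_injective hM hmax hPab hnil huP hu1 hu2
    refine hle1.trans ?_
    rw [Finset.card_eq_sum_ones]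
    apply Finset.sum_le_sum
    intro b hb
    rw [Set.Finite.mem_toFinset] at hb
    exact hpos x b hb
  -- assembling
  have hsplit : ∑ x ∈ X, t x = t 1 + ∑ x ∈ X.erase 1, t x :=
    (Finset.add_sum_erase X t h1X).symm
  have hfib : (Pfin.erase 1).card =
      ∑ x ∈ X.erase 1, ((Pfin.erase 1).filter (fun u => rep u = x)).card := by
    apply Finset.card_eq_sum_card_fiberwise
    intro u hu
    rw [Finset.mem_coe, Finset.mem_erase] at hu
    have huP := (hPfin u).mp hu.2
    rw [Finset.mem_coe, Finset.mem_erase]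
    refine ⟨?_, (hXdef _).mpr ⟨?_, hrepeq _ _ (hrepconj u).symm⟩⟩
    · intro h1
      have h2 := hrepconj u
      rw [h1] at h2
      exact hu.1 (isConj_one_left.mp h2)
    · obtain ⟨k, hk⟩ := (IsPGroup.iff_orderOf.mp hPp) ⟨u, huP⟩
      refine ⟨k, ?_⟩
      rw [← hord u (rep u) (hrepconj u), ← hk, Subgroup.orderOf_mk]
  have h1P : (1 : G) ∈ Pfin := (hPfin 1).mpr (one_mem P)
  have hcard1 : (Pfin.erase 1).card = Pfin.card - 1 := Finset.card_erase_of_mem h1P
  have hPpos : 0 < Pfin.card := Finset.card_pos.mpr ⟨1, h1P⟩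
  have hlow : blockRank p B + (Pfin.erase 1).card ≤ Nat.card B := by
    rw [hcount', hsplit, hfib]
    exact Nat.add_le_add ht1 (Finset.sum_le_sum htx)
  obtain ⟨ψ, hψ⟩ := isPBlock_nonempty hMp hB
  have hge := blockRank_pos p hψ
  omega

end Cfsg.Agent.Lib.Helper77.BPCyc
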