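import Cfsg.Agent.Lib.Helper77.BPFusion
import Cfsg.Agent.S4653

/-!
# The block of the stabilizer of a Brauer pair

For a `p`-subgroup `Q`, a block `f` of `C_G(Q)` and a subgroup `T` with
`Q C_G(Q) ≤ T ≤ N_G(Q)` stabilizing `f`, the idempotent of `f` is a block idempotent of `T`.
Also: primitivity of block idempotents among integral central idempotents.
-/

set_option autoImplicit false

namespace Cfsg.Agent.Lib.Helper77.BPStab

open Cfsg Cfsg.Agent.Lib.Helper77.LocalRing Cfsg.Agent.Lib.Helper77.CentralChar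
  Cfsg.Agent.Lib.Helper77.ClassSum Cfsg.Agent.Lib.Helper77.BlockIdem
  Cfsg.Agent.Lib.Helper77.OsimaVanish Cfsg.Agent.Lib.Helper77.IdemIn
  Cfsg.Agent.Lib.Helper77.BPBasic Cfsg.Agent.Lib.Helper77.BPBrauer
  Cfsg.Agent.Lib.Helper77.BPPairs Cfsg.Agent.Lib.Helper77.BPConj
  Cfsg.Agent.Lib.Helper77.BPNormal Cfsg.Agent.Lib.Helper77.BPSubpair
  Cfsg.Agent.Lib.Helper77.BPIdem
  Cfsg.Agent.Lib.CT.Wedderburn Cfsg.Agent.Lib.Helper16.ZR Cfsg.Agent.Lib.Helper33.Conj
  Cfsg.Agent.Lib.Helper16.MinMax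

universe u
variable {G : Type u} [Group G] {M : Ideal AlgInt}

/-- The central character of a central idempotent is `0` or `1`. -/
theorem omega_idem [Finite G] (χ : IrrCharacter G) {u : MonoidAlgebra ℂ G} (huc : u ∈ Zc G)
    (hu : u * u = u) : omega (χ : G → ℂ) u = 0 ∨ omega (χ : G → ℂ) u = 1 := by
  have h := omega_mul χ.2 u u huc
  rw [hu] at h
  have h2 : omega (χ : G → ℂ) u * (omega (χ : G → ℂ) u - 1) = 0 := by
    rw [mul_sub, ← h, mul_one, sub_self]
  rcases mul_eq_zero.mp h2 with h3 | h3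
  · exact Or.inl h3
  · exact Or.inr (sub_eq_zero.mp h3)

/-- Idempotents of disjoint sets of characters are orthogonal. -/
theorem blockIdem_mul_of_disjoint [Finite G] (f₁ f₂ : Set (IrrCharacter G))
    (h : Disjoint f₁ f₂) : blockIdem f₁ * blockIdem f₂ = 0 := by
  classical
  apply eq_of_omega_eq _ _
    (Subalgebra.mul_mem _ (blockIdem_mem_center f₁) (blockIdem_mem_center f₂))
    (Subalgebra.zero_mem _)
  intro χ
  rw [omega_mul χ.2 _ _ (blockIdem_mem_center f₁), omega_blockIdem, omega_blockIdem, omega_zero]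
  by_cases h1 : χ ∈ f₁
  · have h2 : χ ∉ f₂ := fun h2 => Set.disjoint_left.mp h h1 h2
    simp [h2]
  · simp [h1]

/-- Distinct blocks are disjoint. -/
theorem disjoint_of_ne (hMp : M.IsPrime) {f₁ f₂ : Set (IrrCharacter G)} (h₁ : IsPBlock M f₁)
    (h₂ : IsPBlock M f₂) (hne : f₁ ≠ f₂) : Disjoint f₁ f₂ := by
  rw [Set.disjoint_left]
  intro χ h1 h2
  exact hne ((isPBlock_eq_blockOf hMp h₁ h1).trans (isPBlock_eq_blockOf hMp h₂ h2).symm)

/-- A central idempotent is the idempotent of the set of characters on which it is `1`. -/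
theorem idem_eq_blockIdem [Finite G] {u : MonoidAlgebra ℂ G} (huc : u ∈ Zc G)
    (hu : u * u = u) : u = blockIdem {χ : IrrCharacter G | omega (χ : G → ℂ) u = 1} := by
  classical
  apply eq_of_omega_eq _ _ huc (blockIdem_mem_center _)
  intro χ
  rw [omega_blockIdem]
  rcases omega_idem χ huc hu with h | h
  · rw [if_neg]
    · exact h
    · rw [Set.mem_setOf_eq, h]
      exact zero_ne_one
  · rw [if_pos (show χ ∈ {χ : IrrCharacter G | omega (χ : G → ℂ) u = 1} from h)]
    exact h

/-- For an integral central idempotent, the set of characters on which it is `1` is a union of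
blocks. -/
theorem blockClosed_of_idem [Finite G] (hMp : M.IsPrime) {u : MonoidAlgebra ℂ G}
    (huc : u ∈ Zc G) (huR : u ∈ intSubring M hMp) (hu : u * u = u) :
    BlockClosed M {χ : IrrCharacter G | omega (χ : G → ℂ) u = 1} := by
  intro χ hχ ψ hs
  have h1 := omega_sub_mem_of_sameBlock hMp χ.2 ψ.2 hs u huc ((mem_intSubring M hMp).mp huR)
  rw [Set.mem_setOf_eq] at hχ ⊢
  rcases omega_idem ψ huc hu with h | h
  · rw [hχ, h, sub_zero] at h1
    exact absurd h1 (not_memLocalIdeal_one hMp)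
  · exact h

/-- **Primitivity of block idempotents**: an integral central idempotent below a block
idempotent is zero or the block idempotent. -/
theorem idem_eq_zero_or_eq [Finite G] (hMp : M.IsPrime) {f : Set (IrrCharacter G)}
    (hf : IsPBlock M f) {u : MonoidAlgebra ℂ G} (huc : u ∈ Zc G) (huR : u ∈ intSubring M hMp)
    (hu : u * u = u) (huf : u * blockIdem f = u) : u = 0 ∨ u = blockIdem f := by
  classical
  have hout : ∀ χ : IrrCharacter G, χ ∉ f → omega (χ : G → ℂ) u = 0 := by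
    intro χ hχ
    rw [← huf, omega_mul χ.2 _ _ huc, omega_blockIdem, if_neg hχ, mul_zero]
  by_cases hex : ∃ χ ∈ f, omega (χ : G → ℂ) u = 1
  · obtain ⟨χ, hχ, h1⟩ := hex
    right
    apply eq_of_omega_eq _ _ huc (blockIdem_mem_center _)
    intro ψ
    rw [omega_blockIdem]
    by_cases hψ : ψ ∈ f
    · rw [if_pos hψ]
      exact blockClosed_of_idem hMp huc huR hu χ h1 ψ (sameBlock_of_mem hMp hf hχ hψ)
    · rw [if_neg hψ]
      exact hout ψ hψ
  · left
    apply eq_of_omega_eq _ _ huc (Subalgebra.zero_mem _)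
    intro ψ
    rw [omega_zero]
    by_cases hψ : ψ ∈ f
    · rcases omega_idem ψ huc hu with h | h
      · exact h
      · exact absurd ⟨ψ, hψ, h⟩ hex
    · exact hout ψ hψ

theorem ext_zero [Finite G] (H : Subgroup G) : ext H (0 : MonoidAlgebra ℂ H) = 0 := by
  classical
  ext g
  rw [coeff_ext]
  split_ifs <;> simp

/-- The extension by zero of a central element of the group algebra of `H` is fixed by `H`. -/
theorem ext_mem_fixedSubring [Finite G] (H : Subgroup G) {w : MonoidAlgebra ℂ H}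
    (hw : w ∈ Zc H) : ext H w ∈ fixedSubring H := by
  have hw' := (mem_fixedSubring_top_iff (G := H)).mpr hw
  rw [mem_fixedSubring]
  intro x hx g
  by_cases hg : g ∈ H
  · have h2 := (mem_fixedSubring.mp hw') ⟨x, hx⟩ (Subgroup.mem_top _) ⟨g, hg⟩
    have h3 : x * g * x⁻¹ = (((⟨x, hx⟩ : H) * ⟨g, hg⟩ * (⟨x, hx⟩ : H)⁻¹ : H) : G) := rfl
    have h4 : g = ((⟨g, hg⟩ : H) : G) := rfl
    rw [h3, coeff_ext_of_mem, h2]
    conv_rhs => rw [h4, coeff_ext_of_mem]
  · have h1 : x * g * x⁻¹ ∉ H := by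
      intro h
      apply hg
      have := H.mul_mem (H.mul_mem (H.inv_mem hx) h) hx
      simpa [mul_assoc] using this
    rw [coeff_ext_of_not_mem H w h1, coeff_ext_of_not_mem H w hg]

/-- **The block of the stabilizer.**  Let `Q` be a `p`-subgroup, `f` a block of `C_G(Q)` and `T`
a subgroup with `Q ≤ T`, `C_G(Q) ≤ T ≤ N_G(Q)`, all of whose elements stabilize `f`.  Then the
idempotent of `f` (restricted to `T`) is the idempotent of a block of `T`. -/
theorem exists_block [Finite G] {p : ℕ} [Fact p.Prime] (hM : IsPModular p M) {Q : Subgroup G}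
    (hQ : IsPGroup p Q) {f : Set (IrrCharacter (Subgroup.centralizer (Q : Set G)))}
    (hf : IsPBlock M f) (T : Subgroup G) (hQT : Q ≤ T)
    (hCT : Subgroup.centralizer (Q : Set G) ≤ T) (hTN : T ≤ Subgroup.normalizer (Q : Set G))
    (hst : ∀ t ∈ T, StabilizesBlock (Subgroup.centralizer (Q : Set G)) f t) :
    ∃ F : Set (IrrCharacter T), IsPBlock M F ∧
      blockIdem F = res T (ext (Subgroup.centralizer (Q : Set G)) (blockIdem f)) := by
  classical
  have hMp := isPrime_of_isPModular hM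
  haveI : Fintype T := Fintype.ofFinite T
  obtain ⟨hεs, hεC, hεR⟩ := ext_blockIdem_mem hMp (Subgroup.centralizer (Q : Set G)) f hf
  have hεT : ext (Subgroup.centralizer (Q : Set G)) (blockIdem f) ∈ fixedSubring T :=
    (forall_stabilizes_iff _ T (hTN.trans (normalizer_le_normalizer_centralizer Q)) f).mp hst
  have hεε := ext_blockIdem_mul_self hM (Subgroup.centralizer (Q : Set G)) f hf
  have hε0 : ext (Subgroup.centralizer (Q : Set G)) (blockIdem f) ≠ 0 := by
    intro h0
    obtain ⟨ξ, hξ⟩ := isPBlock_nonempty hMp hf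
    have h1 := om_ext_blockIdem (Subgroup.centralizer (Q : Set G)) f ξ
    rw [h0, om_zero, if_pos hξ] at h1
    exact zero_ne_one h1
  obtain ⟨ε, hε⟩ : ∃ ε, ε = ext (Subgroup.centralizer (Q : Set G)) (blockIdem f) := ⟨_, rfl⟩
  rw [← hε] at hεs hεC hεR hεT hεε hε0 ⊢
  have hεsT : ε ∈ supportSubring T := fun g hg => hεs g (fun h => hg (hCT h))
  obtain ⟨u, hu⟩ : ∃ u, u = res T ε := ⟨_, rfl⟩
  rw [← hu]
  have huc : u ∈ Zc T := by rw [hu]; exact res_mem_center T hεT
  have huu : u * u = u := by rw [hu, ← res_mul T ε ε hεsT, hεε]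
  have huR : u ∈ intSubring M hMp := by
    rw [hu]
    exact fun t => hεR (t : G)
  have hextu : ext T u = ε := by rw [hu, ext_res, trunc_eq_self hεsT]
  have hu0 : u ≠ 0 := by
    intro h0
    rw [h0, ext_zero] at hextu
    exact hε0 hextu.symm
  obtain ⟨χ₀, hχ₀⟩ : ∃ χ₀ : IrrCharacter T, omega (χ₀ : T → ℂ) u = 1 := by
    by_contra hno
    push Not at hno
    apply hu0
    apply eq_of_omega_eq _ _ huc (Subalgebra.zero_mem _)
    intro χ
    rw [omega_zero]
    rcases omega_idem χ huc huu with h | h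
    · exact h
    · exact absurd h (hno χ)
  refine ⟨blockOf M (χ₀ : T → ℂ), isPBlock_blockOf χ₀, ?_⟩
  obtain ⟨v, hv⟩ : ∃ v, v = blockIdem (blockOf M (χ₀ : T → ℂ)) := ⟨_, rfl⟩
  rw [← hv]
  have hvc : v ∈ Zc T := by rw [hv]; exact blockIdem_mem_center _
  have hvv : v * v = v := by rw [hv]; exact blockIdem_mul_self _
  have hvR : v ∈ intSubring M hMp := by
    rw [hv]
    exact blockIdem_mem_intSubring hMp _ (isPBlock_blockOf χ₀)
  have hvu : v * u = v := by
    apply eq_of_omega_eq _ _ (Subalgebra.mul_mem _ hvc huc) hvc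
    intro ψ
    rw [omega_mul ψ.2 _ _ hvc]
    by_cases hψ : ψ ∈ blockOf M (χ₀ : T → ℂ)
    · rw [blockClosed_of_idem hMp huc huR huu χ₀ hχ₀ ψ hψ, mul_one]
    · rw [hv, omega_blockIdem, if_neg hψ, zero_mul]
  haveI : (Q.subgroupOf T).Normal := (Subgroup.normal_subgroupOf_iff_le_normalizer hQT).mpr hTN
  have hvs : ∀ t : T, (t : G) ∉ Subgroup.centralizer (Q : Set G) → v.coeff t = 0 := by
    intro t ht
    rw [hv, coeff_blockIdem]
    apply Cfsg.Agent.S4653.result p M hM (Q.subgroupOf T) hQ.comap_subtype _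
      (isPBlock_blockOf χ₀) t
    intro htc
    apply ht
    rw [Subgroup.mem_centralizer_iff] at htc ⊢
    intro q hq
    have := htc ⟨q, hQT hq⟩ (Subgroup.mem_subgroupOf.mpr hq)
    exact congrArg Subtype.val this
  have hws : ext T v ∈ supportSubring (Subgroup.centralizer (Q : Set G)) := by
    intro g hg
    by_cases hgT : g ∈ T
    · have h4 : g = ((⟨g, hgT⟩ : T) : G) := rfl
      rw [h4, coeff_ext_of_mem]
      exact hvs ⟨g, hgT⟩ hg
    · exact coeff_ext_of_not_mem T v hgT
  have hwfix : ext T v ∈ fixedSubring (Subgroup.centralizer (Q : Set G)) :=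
    fixedSubring_mono hCT (ext_mem_fixedSubring T hvc)
  obtain ⟨w, hw⟩ : ∃ w, w = res (Subgroup.centralizer (Q : Set G)) (ext T v) := ⟨_, rfl⟩
  have hextw : ext (Subgroup.centralizer (Q : Set G)) w = ext T v := by
    rw [hw, ext_res, trunc_eq_self hws]
  have hwc : w ∈ Zc (Subgroup.centralizer (Q : Set G)) := by
    rw [hw]
    exact res_mem_center _ hwfix
  have hww : w * w = w := by rw [hw, ← res_mul _ _ _ hws, ← ext_mul, hvv]
  have hwR : w ∈ intSubring M hMp := by
    rw [hw]
    intro c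
    show MemLocalRing M ((ext T v).coeff (c : G))
    have h4 : (c : G) = ((⟨c, hCT c.2⟩ : T) : G) := rfl
    rw [h4, coeff_ext_of_mem]
    exact hvR _
  have hwf : w * blockIdem f = w := by
    have h1 : ext (Subgroup.centralizer (Q : Set G)) (w * blockIdem f) =
        ext (Subgroup.centralizer (Q : Set G)) w := by
      rw [ext_mul, hextw, ← hε, ← hextu, ← ext_mul, hvu]
    have h2 := congrArg (res (Subgroup.centralizer (Q : Set G))) h1
    rwa [res_ext, res_ext] at h2
  have hresv := res_ext T v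
  rw [← hextw] at hresv
  rcases idem_eq_zero_or_eq hMp hf hwc hwR hww hwf with h0 | h1
  · exfalso
    rw [h0, ext_zero, res_zero] at hresv
    have h2 : omega (χ₀ : T → ℂ) v = 1 := by
      rw [hv, omega_blockIdem, if_pos (mem_blockOf_self hMp χ₀)]
    rw [← hresv, omega_zero] at h2
    exact zero_ne_one h2
  · rw [h1, ← hε] at hresv
    rw [← hresv, hu]

/-- Coefficient form of `exists_block`. -/
theorem exists_block_coeff [Finite G] {p : ℕ} [Fact p.Prime] (hM : IsPModular p M)
    {Q : Subgroup G} (hQ : IsPGroup p Q)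
    {f : Set (IrrCharacter (Subgroup.centralizer (Q : Set G)))}
    (hf : IsPBlock M f) (T : Subgroup G) (hQT : Q ≤ T)
    (hCT : Subgroup.centralizer (Q : Set G) ≤ T) (hTN : T ≤ Subgroup.normalizer (Q : Set G))
    (hst : ∀ t ∈ T, StabilizesBlock (Subgroup.centralizer (Q : Set G)) f t) :
    ∃ F : Set (IrrCharacter T), IsPBlock M F ∧
      ∀ t : T, blockCoeff F t = subgroupBlockCoeff (Subgroup.centralizer (Q : Set G)) f (t : G) := by
  obtain ⟨F, hF, hFe⟩ := exists_block hM hQ hf T hQT hCT hTN hst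
  refine ⟨F, hF, fun t => ?_⟩
  rw [← coeff_blockIdem, hFe, coeff_res, ← ofFun_subgroupBlockCoeff, coeff_ofFun]

/-- `Q` stabilizes every block of `C_G(Q)`. -/
theorem stabilizes_of_mem (Q : Subgroup G)
    (f : Set (IrrCharacter (Subgroup.centralizer (Q : Set G)))) {x : G} (hx : x ∈ Q) :
    StabilizesBlock (Subgroup.centralizer (Q : Set G)) f x := by
  refine ⟨normalizer_le_normalizer_centralizer Q (Subgroup.le_normalizer hx), fun χ hχ =>
    ⟨χ, hχ, fun k k' hk => ?_⟩⟩
  have h1 : (k' : G) = (k : G) := by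
    rw [hk, Subgroup.mem_centralizer_iff.mp k.2 x hx, mul_inv_cancel_right]
  rw [Subtype.ext h1]

/-- `C_G(Q)` stabilizes every block of `C_G(Q)`. -/
theorem stabilizes_of_mem_centralizer (Q : Subgroup G)
    (f : Set (IrrCharacter (Subgroup.centralizer (Q : Set G)))) {x : G}
    (hx : x ∈ Subgroup.centralizer (Q : Set G)) :
    StabilizesBlock (Subgroup.centralizer (Q : Set G)) f x := by
  refine ⟨Subgroup.le_normalizer hx, fun χ hχ => ⟨χ, hχ, fun k k' hk => ?_⟩⟩
  have h1 : k' = (⟨x, hx⟩ : Subgroup.centralizer (Q : Set G)) * k *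
      (⟨x, hx⟩ : Subgroup.centralizer (Q : Set G))⁻¹ := Subtype.ext hk
  rw [h1]
  exact irr_conj_inv χ _ _

end Cfsg.Agent.Lib.Helper77.BPStab
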