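import Cfsg.Agent.Lib.Helper77.BPNorm

/-!
# Fixed classes of `p`-groups of automorphisms stabilizing a block
-/

set_option autoImplicit false

namespace Cfsg.Agent.Lib.Helper77.BPFix

open Cfsg Cfsg.Agent.Lib.Helper77.LocalRing Cfsg.Agent.Lib.Helper77.CentralChar
  Cfsg.Agent.Lib.Helper77.ClassSum Cfsg.Agent.Lib.Helper77.BlockIdem
  Cfsg.Agent.Lib.Helper77.BPBasic Cfsg.Agent.Lib.Helper77.BPBrauer
  Cfsg.Agent.Lib.Helper77.BPConj Cfsg.Agent.Lib.Helper77.BPTransport
  Cfsg.Agent.Lib.Helper77.BPNormal Cfsg.Agent.Lib.Helper77.BPCent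
  Cfsg.Agent.Lib.Helper77.BPStab Cfsg.Agent.Lib.Helper77.BPNorm
  Cfsg.Agent.Lib.Helper16.ZR Cfsg.Agent.Lib.Helper33.Conj Cfsg.Agent.Lib.Helper16.MinMax
open Cfsg.Agent.Lib.Helper16.CentralChar (conjFinset mem_conjFinset card_conjFinset)

universe u
variable {M : Ideal AlgInt}

/-- The sum of a function with values in the local ring, invariant modulo the local ideal, over
a stable set without fixed points lies in the local ideal. -/
theorem sum_mem_of_fpf' {p : ℕ} [Fact p.Prime] (hM : IsPModular p M) {K : Type*} [Group K]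
    [Finite K] (hK : IsPGroup p K) {X : Type*} (act : K → X → X) (h1 : ∀ s, act 1 s = s)
    (hmul : ∀ u v s, act (u * v) s = act u (act v s)) (S : Finset X)
    (hS : ∀ u, ∀ s ∈ S, act u s ∈ S) (hfix : ∀ s ∈ S, ∃ u, act u s ≠ s) (F : X → ℂ)
    (hF : ∀ u, ∀ s ∈ S, MemLocalIdeal M (F (act u s) - F s))
    (hFR : ∀ s ∈ S, MemLocalRing M (F s)) : MemLocalIdeal M (∑ s ∈ S, F s) := by
  classical
  have hMp : M.IsPrime := isPrime_of_isPModular hM
  let orb : X → Set X := fun s => {s' | ∃ u, act u s = s'}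
  have horb : ∀ u s, orb (act u s) = orb s := by
    intro u s
    ext s'
    constructor
    · rintro ⟨v, rfl⟩
      exact ⟨v * u, hmul v u s⟩
    · rintro ⟨v, rfl⟩
      exact ⟨v * u⁻¹, by rw [hmul, ← hmul u⁻¹ u, inv_mul_cancel, h1]⟩
  rw [← Finset.sum_fiberwise_of_maps_to (g := orb) (t := S.image orb)
    (fun x hx => Finset.mem_image_of_mem orb hx)]
  apply memLocalIdeal_sum hMp
  intro a ha
  obtain ⟨s₀, hs₀, rfl⟩ := Finset.mem_image.mp ha
  have hfiber : ∀ s ∈ S.filter (fun x => orb x = orb s₀), MemLocalIdeal M (F s - F s₀) := by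
    intro s hs
    rw [Finset.mem_filter] at hs
    have hmem : s ∈ orb s₀ := by
      rw [← hs.2]
      exact ⟨1, h1 s⟩
    obtain ⟨u, rfl⟩ := hmem
    exact hF u s₀ hs₀
  have hsplit : ∑ s ∈ S.filter (fun x => orb x = orb s₀), F s =
      ∑ s ∈ S.filter (fun x => orb x = orb s₀), (F s - F s₀) +
        (S.filter (fun x => orb x = orb s₀)).card • F s₀ := by
    rw [Finset.sum_sub_distrib, Finset.sum_const]
    ring
  rw [hsplit]
  apply memLocalIdeal_add hMp (memLocalIdeal_sum hMp _ _ hfiber)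
  obtain ⟨k, hk⟩ := card_dvd_of_fpf hK act h1 hmul (S.filter (fun x => orb x = orb s₀))
    (by
      intro u x hx
      rw [Finset.mem_filter] at hx ⊢
      exact ⟨hS u x hx.1, by rw [horb]; exact hx.2⟩)
    (by
      intro x hx
      exact hfix x (Finset.mem_filter.mp hx).1)
  rw [hk, nsmul_eq_mul, Nat.cast_mul, mul_assoc]
  exact memLocalIdeal_mul_right hMp ((memLocalIdeal_natCast_iff hM p).mpr dvd_rfl)
    (memLocalRing_mul hMp (memLocalRing_natCast hMp k) (hFR s₀ hs₀))

/-- Fixed point version. -/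
theorem sum_mem_of_fixed' {p : ℕ} [Fact p.Prime] (hM : IsPModular p M) {K : Type*} [Group K]
    [Finite K] (hK : IsPGroup p K) {X : Type*} (act : K → X → X) (h1 : ∀ s, act 1 s = s)
    (hmul : ∀ u v s, act (u * v) s = act u (act v s)) (S : Finset X)
    (hS : ∀ u, ∀ s ∈ S, act u s ∈ S) (F : X → ℂ)
    (hfix : ∀ s ∈ S, (∀ u, act u s = s) → MemLocalIdeal M (F s))
    (hF : ∀ u, ∀ s ∈ S, MemLocalIdeal M (F (act u s) - F s))
    (hFR : ∀ s ∈ S, MemLocalRing M (F s)) : MemLocalIdeal M (∑ s ∈ S, F s) := by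
  classical
  have hMp := isPrime_of_isPModular hM
  rw [← Finset.sum_filter_add_sum_filter_not S (fun s => ∀ u, act u s = s)]
  apply memLocalIdeal_add hMp
  · apply memLocalIdeal_sum hMp
    intro s hs
    rw [Finset.mem_filter] at hs
    exact hfix s hs.1 hs.2
  · apply sum_mem_of_fpf' hM hK act h1 hmul
    · intro u s hs
      rw [Finset.mem_filter] at hs ⊢
      refine ⟨hS u s hs.1, fun hall => hs.2 fun w => ?_⟩
      have h2 := hall (u * w * u⁻¹)
      rw [← hmul, inv_mul_cancel_right, hmul] at h2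
      have h3 := congrArg (act u⁻¹) h2
      have key : ∀ t, act u⁻¹ (act u t) = t := fun t => by rw [← hmul, inv_mul_cancel, h1]
      rwa [key, key] at h3
    · intro s hs
      rw [Finset.mem_filter] at hs
      have := hs.2
      push Not at this
      exact this
    · intro u s hs
      exact hF u s (Finset.mem_filter.mp hs).1
    · intro s hs
      exact hFR s (Finset.mem_filter.mp hs).1

/-- **Fixed classes.**  If a `p`-group `K` acts on the finite group `H` by automorphisms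
stabilizing the block `f`, then some `K`-stable conjugacy class of `H` carries a coefficient of
the idempotent of `f` outside the local ideal. -/
theorem exists_fixed_class {H : Type u} [Group H] [Finite H] {p : ℕ} [Fact p.Prime]
    (hM : IsPModular p M) (f : Set (IrrCharacter H)) (hf : IsPBlock M f) {K : Type*} [Group K]
    [Finite K] (hK : IsPGroup p K) (φ : K → (H ≃* H)) (h1 : ∀ h, φ 1 h = h)
    (hmul : ∀ u v h, φ (u * v) h = φ u (φ v h)) (hφ : ∀ u, pull (φ u) '' f = f) :
    ∃ h₀ : H, ¬ MemLocalIdeal M (blockCoeff f h₀) ∧ ∀ u : K, IsConj (φ u h₀) h₀ := by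
  classical
  haveI : Fintype H := Fintype.ofFinite H
  have hMp := isPrime_of_isPModular hM
  obtain ⟨ξ, hξ⟩ := isPBlock_nonempty hMp hf
  let Fc : ConjClasses H → ℂ := fun c =>
    ∑ h ∈ Finset.univ.filter (fun h : H => ConjClasses.mk h = c),
      blockCoeff f h * (ξ : H → ℂ) h / (ξ : H → ℂ) 1
  have hFmk : ∀ h₀ : H, Fc (ConjClasses.mk h₀) =
      blockCoeff f h₀ * centralChar (ξ : H → ℂ) h₀ := by
    intro h₀
    show ∑ h ∈ Finset.univ.filter (fun h : H => ConjClasses.mk h = ConjClasses.mk h₀),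
      blockCoeff f h * (ξ : H → ℂ) h / (ξ : H → ℂ) 1 = _
    have hfil : Finset.univ.filter (fun h : H => ConjClasses.mk h = ConjClasses.mk h₀) =
        conjFinset h₀ := by
      ext h
      rw [Finset.mem_filter, mem_conjFinset, ConjClasses.mk_eq_mk_iff_isConj]
      exact ⟨fun hh => hh.2.symm, fun hh => ⟨Finset.mem_univ _, hh.symm⟩⟩
    have hterm : ∀ h ∈ conjFinset h₀, blockCoeff f h * (ξ : H → ℂ) h / (ξ : H → ℂ) 1 =
        blockCoeff f h₀ * (ξ : H → ℂ) h₀ / (ξ : H → ℂ) 1 := by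
      intro h hh
      obtain ⟨c, rfl⟩ := isConj_iff.mp (mem_conjFinset.mp hh)
      rw [blockCoeff_conj, irr_conj_inv]
    rw [hfil, Finset.sum_congr rfl hterm, Finset.sum_const, card_conjFinset]
    unfold centralChar
    rw [nsmul_eq_mul]
    ring
  have hsum : ∑ c : ConjClasses H, Fc c = 1 := by
    have h2 : ∑ c : ConjClasses H, Fc c =
        ∑ h : H, blockCoeff f h * (ξ : H → ℂ) h / (ξ : H → ℂ) 1 :=
      Finset.sum_fiberwise _ _ _
    have h3 := omega_blockIdem f ξ
    rw [if_pos hξ] at h3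
    rw [h2, ← h3]
    unfold omega
    rw [pair_eq_sum, Finset.sum_div]
    rfl
  let act : K → ConjClasses H → ConjClasses H := fun u c =>
    ConjClasses.map (φ u).toMonoidHom c
  have hact_mk : ∀ u h, act u (ConjClasses.mk h) = ConjClasses.mk (φ u h) := fun u h => rfl
  have hact1 : ∀ c, act 1 c = c := by
    intro c
    obtain ⟨h, rfl⟩ := ConjClasses.mk_surjective c
    rw [hact_mk, h1]
  have hactmul : ∀ u v c, act (u * v) c = act u (act v c) := by
    intro u v c
    obtain ⟨h, rfl⟩ := ConjClasses.mk_surjective c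
    rw [hact_mk, hact_mk, hact_mk, hmul]
  have hinv : ∀ u c, MemLocalIdeal M (Fc (act u c) - Fc c) := by
    intro u c
    obtain ⟨h₀, rfl⟩ := ConjClasses.mk_surjective c
    rw [hact_mk, hFmk, hFmk]
    have e1 : blockCoeff f (φ u h₀) = blockCoeff f h₀ := by
      rw [← blockCoeff_pull (φ u) f h₀, hφ u]
    have e2 : centralChar (ξ : H → ℂ) (φ u h₀) =
        centralChar (pull (φ u) ξ : H → ℂ) h₀ := (centralChar_pull (φ u) _ h₀).symm
    have hmem : pull (φ u) ξ ∈ f := by
      rw [← hφ u]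
      exact ⟨ξ, hξ, rfl⟩
    have hs := sameBlock_of_mem hMp hf hmem hξ h₀
    rw [e1, e2, ← mul_sub]
    exact memLocalIdeal_mul_left hMp (blockCoeff_memLocalRing p M hM f hf h₀) hs
  have hloc : ∀ c, MemLocalRing M (Fc c) := by
    intro c
    obtain ⟨h₀, rfl⟩ := ConjClasses.mk_surjective c
    rw [hFmk]
    exact memLocalRing_mul hMp (blockCoeff_memLocalRing p M hM f hf h₀)
      (memLocalRing_of_isIntegral hMp (isIntegral_centralChar ξ.2 h₀))
  by_contra hno
  push Not at hno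
  have hall : MemLocalIdeal M (∑ c : ConjClasses H, Fc c) := by
    apply sum_mem_of_fixed' hM hK act hact1 hactmul Finset.univ (fun _ _ _ => Finset.mem_univ _)
      Fc ?_ (fun u c _ => hinv u c) (fun c _ => hloc c)
    intro c _ hc
    obtain ⟨h₀, rfl⟩ := ConjClasses.mk_surjective c
    rw [hFmk]
    by_contra hnm
    have hb : ¬ MemLocalIdeal M (blockCoeff f h₀) := fun hb =>
      hnm (memLocalIdeal_mul_right hMp hb
        (memLocalRing_of_isIntegral hMp (isIntegral_centralChar ξ.2 h₀)))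
    obtain ⟨u, hu⟩ := hno h₀ hb
    apply hu
    have := hc u
    rw [hact_mk] at this
    exact ConjClasses.mk_eq_mk_iff_isConj.mp this
  rw [hsum] at hall
  exact not_memLocalIdeal_one hMp hall

section Stab

variable {G : Type u} [Group G]

/-- The stabilizer of the block `f` of `C_G(Q)` in `N_G(Q)`. -/
def stab [Finite G] (Q : Subgroup G)
    (f : Set (IrrCharacter (Subgroup.centralizer (Q : Set G)))) : Subgroup G where
  carrier := {x | x ∈ Subgroup.normalizer (Q : Set G) ∧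
    StabilizesBlock (Subgroup.centralizer (Q : Set G)) f x}
  mul_mem' := by
    rintro x y ⟨hx, hxs⟩ ⟨hy, hys⟩
    refine ⟨mul_mem hx hy, ?_⟩
    rw [stabilizesBlock_iff_conjA _ _ (normalizer_le_normalizer_centralizer Q (mul_mem hx hy))]
    rw [stabilizesBlock_iff_conjA _ _ (normalizer_le_normalizer_centralizer Q hx)] at hxs
    rw [stabilizesBlock_iff_conjA _ _ (normalizer_le_normalizer_centralizer Q hy)] at hys
    rw [conjA_mul, hys, hxs]
  one_mem' := ⟨one_mem _, by
    rw [stabilizesBlock_iff_conjA _ _ (normalizer_le_normalizer_centralizer Q (one_mem _)),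
      conjA_one]⟩
  inv_mem' := by
    rintro x ⟨hx, hxs⟩
    refine ⟨inv_mem hx, ?_⟩
    rw [stabilizesBlock_iff_conjA _ _ (normalizer_le_normalizer_centralizer Q (inv_mem hx))]
    rw [stabilizesBlock_iff_conjA _ _ (normalizer_le_normalizer_centralizer Q hx)] at hxs
    conv_lhs => rw [← hxs]
    rw [conjA_inv_cancel]

theorem mem_stab [Finite G] {Q : Subgroup G}
    {f : Set (IrrCharacter (Subgroup.centralizer (Q : Set G)))} {x : G} :
    x ∈ stab Q f ↔ x ∈ Subgroup.normalizer (Q : Set G) ∧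
      StabilizesBlock (Subgroup.centralizer (Q : Set G)) f x := Iff.rfl

theorem subgroupBlockCoeff_coe (H : Subgroup G) (e : Set (IrrCharacter H)) (h : H) :
    subgroupBlockCoeff H e (h : G) = blockCoeff e h := by
  unfold subgroupBlockCoeff
  rw [dif_pos h.2]

theorem isPGroup_zpowers {p : ℕ} {x : G} {k : ℕ} (hxk : x ^ (p ^ k) = 1) :
    IsPGroup p (Subgroup.zpowers x) := by
  rintro ⟨y, hy⟩
  obtain ⟨n, rfl⟩ := Subgroup.mem_zpowers_iff.mp hy
  refine ⟨k, Subtype.ext ?_⟩
  show (x ^ n) ^ (p ^ k) = 1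
  rw [← zpow_natCast, ← zpow_mul, mul_comm, zpow_mul, zpow_natCast, hxk, one_zpow]

/-- **Covering by defect groups.**  Every `p`-element of the stabilizer `T` lies in
`C_G(Q) · D` for some defect group `D` of the block of `T` whose idempotent is that of `f`. -/
theorem exists_defect_mul [Finite G] {p : ℕ} [Fact p.Prime] (hM : IsPModular p M)
    {Q : Subgroup G} {f : Set (IrrCharacter (Subgroup.centralizer (Q : Set G)))}
    (hf : IsPBlock M f) (T : Subgroup G) (hCT : Subgroup.centralizer (Q : Set G) ≤ T)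
    (hTN : T ≤ Subgroup.normalizer (Q : Set G))
    (hst : ∀ t ∈ T, StabilizesBlock (Subgroup.centralizer (Q : Set G)) f t)
    (F : Set (IrrCharacter T)) (hF : IsPBlock M F)
    (hFc : ∀ t : T, blockCoeff F t =
      subgroupBlockCoeff (Subgroup.centralizer (Q : Set G)) f (t : G))
    (x : G) (hxT : x ∈ T) (k : ℕ) (hxk : x ^ (p ^ k) = 1) :
    ∃ D : Subgroup T, IsDefectGroup p M F D ∧ ∃ z : T, z ∈ D ∧
      x⁻¹ * (z : G) ∈ Subgroup.centralizer (Q : Set G) := by
  classical
  have hMp := isPrime_of_isPModular hM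
  have hp : p.Prime := Fact.out
  have hK : IsPGroup p (Subgroup.zpowers x) := isPGroup_zpowers hxk
  have hKT : Subgroup.zpowers x ≤ T := (Subgroup.zpowers_le).mpr hxT
  have hNC : ∀ t ∈ T, t ∈ Subgroup.normalizer
      ((Subgroup.centralizer (Q : Set G) : Subgroup G) : Set G) :=
    fun t ht => normalizer_le_normalizer_centralizer Q (hTN ht)
  let φ : Subgroup.zpowers x →
      (Subgroup.centralizer (Q : Set G) ≃* Subgroup.centralizer (Q : Set G)) :=
    fun u => normConj _ ((u : G)⁻¹) (hNC _ (inv_mem (hKT u.2)))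
  have hφ_coe : ∀ (u : Subgroup.zpowers x) (h : Subgroup.centralizer (Q : Set G)),
      ((φ u h : Subgroup.centralizer (Q : Set G)) : G) = (u : G) * h * (u : G)⁻¹ := by
    intro u h
    show ((u : G)⁻¹)⁻¹ * (h : G) * (u : G)⁻¹ = _
    rw [inv_inv]
  obtain ⟨h₀, hh₀, hconj⟩ := exists_fixed_class hM f hf hK φ
    (by
      intro h
      apply Subtype.ext
      rw [hφ_coe]
      simp)
    (by
      intro u v h
      apply Subtype.ext
      rw [hφ_coe, hφ_coe, hφ_coe]
      simp [mul_assoc])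
    (by
      intro u
      exact (stabilizesBlock_iff _ _ (hNC _ (inv_mem (hKT u.2))) f).mp
        (hst _ (inv_mem (hKT u.2))))
  obtain ⟨c, hc⟩ := isConj_iff.mp (hconj ⟨x, Subgroup.mem_zpowers x⟩)
  have hc' : (c : G) * (x * (h₀ : G) * x⁻¹) * (c : G)⁻¹ = h₀ := by
    have h2 := congrArg Subtype.val hc
    rw [Subgroup.coe_mul, Subgroup.coe_mul, hφ_coe] at h2
    exact h2
  obtain ⟨y, hy⟩ : ∃ y : G, y = (c : G) * x := ⟨_, rfl⟩
  have hyT : y ∈ T := by
    rw [hy]
    exact mul_mem (hCT c.2) hxT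
  have hycomm : Commute y (h₀ : G) := by
    show y * (h₀ : G) = (h₀ : G) * y
    rw [hy]
    calc (c : G) * x * h₀ = ((c : G) * (x * h₀ * x⁻¹) * (c : G)⁻¹) * ((c : G) * x) := by group
      _ = h₀ * ((c : G) * x) := by rw [hc']
  obtain ⟨a, b, hb, hab⟩ := Nat.exists_eq_pow_mul_and_not_dvd (orderOf_pos y).ne' p hp.ne_one
  haveI hCn : ((Subgroup.centralizer (Q : Set G)).subgroupOf T).Normal :=
    (Subgroup.normal_subgroupOf_iff_le_normalizer hCT).mpr (fun t ht => hNC t ht)
  obtain ⟨q, hqdef⟩ : ∃ q : T ⧸ (Subgroup.centralizer (Q : Set G)).subgroupOf T,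
      q = QuotientGroup.mk ⟨x, hxT⟩ := ⟨_, rfl⟩
  have hq : q ^ (p ^ k) = 1 := by
    rw [hqdef, ← QuotientGroup.mk_pow]
    have h2 : (⟨x, hxT⟩ : T) ^ (p ^ k) = 1 := Subtype.ext hxk
    rw [h2]
    rfl
  have hqy : (QuotientGroup.mk ⟨y, hyT⟩ : T ⧸ (Subgroup.centralizer (Q : Set G)).subgroupOf T)
      = q := by
    rw [hqdef, QuotientGroup.eq, Subgroup.mem_subgroupOf]
    show y⁻¹ * x ∈ Subgroup.centralizer (Q : Set G)
    have h2 : y⁻¹ * x = x⁻¹ * (c : G)⁻¹ * x := by
      rw [hy]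
      group
    rw [h2]
    have h3 := (Subgroup.mem_normalizer_iff.mp (hNC _ (inv_mem hxT)) ((c : G)⁻¹)).mp
      (inv_mem c.2)
    rwa [inv_inv] at h3
  have hcop : Nat.Coprime b (orderOf q) := by
    have h2 : orderOf q ∣ p ^ k := orderOf_dvd_of_pow_eq_one hq
    obtain ⟨j, -, hj⟩ := (Nat.dvd_prime_pow hp).mp h2
    rw [hj]
    exact Nat.Coprime.pow_right _ ((Nat.Prime.coprime_iff_not_dvd hp).mpr hb).symm
  obtain ⟨b', hb'⟩ := exists_pow_eq_self_of_coprime hcop
  obtain ⟨z, hz⟩ : ∃ z : G, z = (y ^ b) ^ b' := ⟨_, rfl⟩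
  have hzT : z ∈ T := by
    rw [hz]
    exact pow_mem (pow_mem hyT _) _
  have hzp : z ^ (p ^ a) = 1 := by
    rw [hz, ← pow_mul, ← pow_mul]
    have h2 : b * b' * p ^ a = orderOf y * b' := by
      rw [hab]
      ring
    rw [← mul_assoc, h2, pow_mul, pow_orderOf_eq_one, one_pow]
  have hzcomm : Commute z (h₀ : G) := by
    rw [hz]
    exact (hycomm.pow_left b).pow_left b'
  have hzq : (QuotientGroup.mk ⟨z, hzT⟩ : T ⧸ (Subgroup.centralizer (Q : Set G)).subgroupOf T)
      = q := by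
    have h2 : (⟨z, hzT⟩ : T) = ((⟨y, hyT⟩ : T) ^ b) ^ b' := Subtype.ext hz
    rw [h2, QuotientGroup.mk_pow, QuotientGroup.mk_pow, hqy, hb']
  have hxz : x⁻¹ * z ∈ Subgroup.centralizer (Q : Set G) := by
    have h2 := hzq.symm
    rw [hqdef, QuotientGroup.eq, Subgroup.mem_subgroupOf] at h2
    exact h2
  have hD₀ : IsPGroup p (Subgroup.zpowers (⟨z, hzT⟩ : T)) :=
    isPGroup_zpowers (k := a) (Subtype.ext hzp)
  obtain ⟨D, hD, hle⟩ := exists_defectGroup_ge hM F hF (Subgroup.zpowers (⟨z, hzT⟩ : T)) hD₀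
    ⟨h₀, hCT h₀.2⟩
    (by
      rw [hFc, subgroupBlockCoeff_coe]
      exact hh₀)
    (by
      rw [Subgroup.zpowers_le, mem_centralizer_singleton]
      exact Subtype.ext hzcomm.eq.symm)
  exact ⟨D, hD, ⟨z, hzT⟩, hle (Subgroup.mem_zpowers _), hxz⟩

/-- **Extended first main theorem (element form).**  For a maximal Brauer pair `(P, e)`, every
`p`-element of `N_G(P, e)` lies in `P · C_G(P)`. -/
theorem mem_mul_of_maximal [Finite G] {p : ℕ} [Fact p.Prime] (hM : IsPModular p M)
    {B : Set (IrrCharacter G)} {P : Subgroup G}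
    {e : Set (IrrCharacter (Subgroup.centralizer (P : Set G)))}
    (hmax : IsMaximalBrauerPair p M B P e) (x : G)
    (hxN : x ∈ Subgroup.normalizer (P : Set G))
    (hxs : StabilizesBlock (Subgroup.centralizer (P : Set G)) e x) (k : ℕ)
    (hxk : x ^ (p ^ k) = 1) :
    ∃ u ∈ P, u⁻¹ * x ∈ Subgroup.centralizer (P : Set G) := by
  have hPe := hmax.1.1
  have hle : SubpairLE p M P e P e := Relation.ReflTransGen.refl
  obtain ⟨hQT, hCT, hTN, hst, hRT⟩ := stab_data hM hPe hle (stab P e) (fun y => Iff.rfl)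
  obtain ⟨F, hF, hFc⟩ := exists_block_coeff hM hPe.1 hPe.2 (stab P e) hQT hCT hTN hst
  have hPN : P ⊓ Subgroup.normalizer (P : Set G) = P := inf_eq_left.mpr Subgroup.le_normalizer
  have hDP := isDefectGroup_of_max_normalizer hM hmax hle (stab P e) hCT hTN hst hRT F hF hFc
    (fun y _ => by
      rw [hPN]
      exact Subgroup.card_le_of_le inf_le_left)
  rw [hPN] at hDP
  obtain ⟨D, hD, z, hzD, hxz⟩ := exists_defect_mul hM hPe.2 (stab P e) hCT hTN hst F hF hFc x
    ⟨hxN, hxs⟩ k hxk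
  obtain ⟨t, ht⟩ := defectGroup_conj hM F hF hDP hD
  haveI : (P.subgroupOf (stab P e)).Normal :=
    (Subgroup.normal_subgroupOf_iff_le_normalizer hQT).mpr hTN
  have h2 : (P.subgroupOf (stab P e)).map (MulAut.conj t).toMonoidHom =
      P.subgroupOf (stab P e) := by
    apply cj_eq_of_mem_normalizer
    rw [Subgroup.normalizer_eq_top]
    trivial
  rw [ht, h2] at hzD
  refine ⟨(z : G), Subgroup.mem_subgroupOf.mp hzD, ?_⟩
  have h3 := inv_mem hxz
  rwa [mul_inv_rev, inv_inv] at h3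

end Stab

end Cfsg.Agent.Lib.Helper77.BPFix
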