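import Mathlib
import Cfsg.Prelude.Def_BrauerPairs
import Cfsg.Agent.Lib.Helper77.BPSubpair

/-!
# Brauer pairs: auxiliary results on idempotents modulo the local ideal

* `ext_mul`: extension by zero is multiplicative.
* `coeff_mem_of_omega_mem`: a central integral element which is idempotent modulo the local ideal
  and all of whose central character values lie in the local ideal has all its coefficients in
  the local ideal.
* `sum_mem_of_fixed`: a `p`-group acting on a finite set; an invariant function with values in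
  the local ring whose values at the fixed points lie in the local ideal has its sum in the local
  ideal.
-/

set_option autoImplicit false

namespace Cfsg.Agent.Lib.Helper77.BPIdem

open Cfsg Cfsg.Agent.Lib.Helper77.LocalRing Cfsg.Agent.Lib.Helper77.CentralChar
  Cfsg.Agent.Lib.Helper77.ClassSum Cfsg.Agent.Lib.Helper77.BlockIdem
  Cfsg.Agent.Lib.Helper77.OsimaVanish Cfsg.Agent.Lib.Helper77.IdemIn
  Cfsg.Agent.Lib.Helper77.BPBasic Cfsg.Agent.Lib.Helper77.BPBrauer
  Cfsg.Agent.Lib.Helper77.BPPairs Cfsg.Agent.Lib.Helper77.BPConj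
  Cfsg.Agent.Lib.Helper77.BPNormal Cfsg.Agent.Lib.Helper77.BPSubpair
  Cfsg.Agent.Lib.CT.Wedderburn Cfsg.Agent.Lib.Helper16.ZR

universe u
variable {G : Type u} [Group G] {M : Ideal AlgInt}

theorem coeff_sum {ι : Type*} (s : Finset ι) (f : ι → MonoidAlgebra ℂ G) (g : G) :
    (∑ i ∈ s, f i).coeff g = ∑ i ∈ s, (f i).coeff g := by
  classical
  induction s using Finset.induction_on with
  | empty => simp
  | insert a s ha ih => rw [Finset.sum_insert ha, Finset.sum_insert ha, ← ih]; simp

/-- Extension by zero is multiplicative. -/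
theorem ext_mul [Finite G] (H : Subgroup G) (v w : MonoidAlgebra ℂ H) :
    ext H (v * w) = ext H v * ext H w := by
  apply ext_injective_of_res (ext_mem_supportSubring H _)
    (Subring.mul_mem _ (ext_mem_supportSubring H v) (ext_mem_supportSubring H w))
  rw [res_mul H _ _ (ext_mem_supportSubring H w), res_ext, res_ext, res_ext]

/-- The extension of a block idempotent is an idempotent. -/
theorem ext_blockIdem_mul_self [Finite G] {p : ℕ} [Fact p.Prime] (hM : IsPModular p M)
    (H : Subgroup G) (f : Set (IrrCharacter H)) (hf : IsPBlock M f) :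
    ext H (blockIdem f) * ext H (blockIdem f) = ext H (blockIdem f) := by
  rw [← ext_mul, blockIdem_mul_self]

/-- **Lifting lemma**: a central integral element, idempotent modulo the local ideal, with all
central character values in the local ideal, has all coefficients in the local ideal. -/
theorem coeff_mem_of_omega_mem [Finite G] (hMp : M.IsPrime) (u : MonoidAlgebra ℂ G)
    (huc : u ∈ Zc G) (huR : u ∈ intSubring M hMp)
    (hidem : ∀ g : G, MemLocalIdeal M ((u * u - u).coeff g))
    (hω : ∀ χ : IrrCharacter G, MemLocalIdeal M (omega (χ : G → ℂ) u)) :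
    ∀ g : G, MemLocalIdeal M (u.coeff g) := by
  classical
  haveI := finite_irrCharacter G
  haveI : Fintype (IrrCharacter G) := Fintype.ofFinite _
  haveI : Fintype G := Fintype.ofFinite G
  obtain ⟨c, hcdef⟩ : ∃ c : Zc G, (c : MonoidAlgebra ℂ G) = 1 - u :=
    ⟨⟨1 - u, Subalgebra.sub_mem _ (Subalgebra.one_mem _) huc⟩, rfl⟩
  have hcω : ∀ χ : IrrCharacter G, omegaHom χ.2 c = 1 - omega (χ : G → ℂ) u := by
    intro χ
    rw [omegaHom_apply, hcdef, omega_sub, omega_one_irr χ.2]
  have hc : c ∈ goodSubring M hMp := by
    rw [mem_goodSubring]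
    refine ⟨?_, fun χ => ?_⟩
    · rw [hcdef]
      exact Subring.sub_mem _ (Subring.one_mem _) huR
    · rw [hcω]
      exact memLocalRing_sub hMp (memLocalRing_one hMp) (memLocalRing_of_memLocalIdeal (hω χ))
  have hS : ∀ χ ∈ (Finset.univ : Finset (IrrCharacter G)),
      ¬ MemLocalIdeal M (omegaHom χ.2 c) := by
    intro χ _ h
    rw [hcω] at h
    have h2 := memLocalIdeal_add hMp h (hω χ)
    rw [sub_add_cancel] at h2
    exact not_memLocalIdeal_one hMp h2
  obtain ⟨v, hv, hcv⟩ := exists_inv_on hMp c hc Finset.univ hS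
  have hone : (c : MonoidAlgebra ℂ G) * (v : MonoidAlgebra ℂ G) = 1 := by
    apply eq_of_omega_eq _ _ (c * v).2 (Subalgebra.one_mem _)
    intro χ
    have h1 := hcv χ (Finset.mem_univ χ)
    rw [omegaHom_apply] at h1
    rw [omega_one_irr χ.2]
    exact h1
  have hv' : (v : MonoidAlgebra ℂ G) ∈ intSubring M hMp := ((mem_goodSubring M hMp).mp hv).1
  have hu : u = (u - u * u) * (v : MonoidAlgebra ℂ G) := by
    rw [hcdef] at hone
    calc u = u * 1 := (mul_one u).symm
      _ = u * ((1 - u) * (v : MonoidAlgebra ℂ G)) := by rw [hone]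
      _ = (u - u * u) * (v : MonoidAlgebra ℂ G) := by rw [← mul_assoc, mul_sub, mul_one]
  intro g
  rw [hu, coeff_mul']
  apply memLocalIdeal_sum hMp
  intro h _
  apply memLocalIdeal_mul_right hMp ?_ (hv' h)
  have h1 := hidem (g * h⁻¹)
  have h2 : u - u * u = -(u * u - u) := (neg_sub _ _).symm
  rw [h2, MonoidAlgebra.coeff_neg]
  exact memLocalIdeal_neg h1

/-- A `p`-group acting on a finite set: an invariant function with values in the local ring whose
values at the fixed points lie in the local ideal has its sum in the local ideal. -/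
theorem sum_mem_of_fixed {p : ℕ} [Fact p.Prime] (hM : IsPModular p M) {K : Type*} [Group K]
    [Finite K] (hK : IsPGroup p K) {X : Type*} (act : K → X → X) (h1 : ∀ s, act 1 s = s)
    (hmul : ∀ u v s, act (u * v) s = act u (act v s)) (S : Finset X)
    (hS : ∀ u, ∀ s ∈ S, act u s ∈ S) (F : X → ℂ)
    (hfix : ∀ s ∈ S, (∀ u, act u s = s) → MemLocalIdeal M (F s))
    (hF : ∀ u, ∀ s ∈ S, F (act u s) = F s) (hFR : ∀ s ∈ S, MemLocalRing M (F s)) :
    MemLocalIdeal M (∑ s ∈ S, F s) := by
  classical
  have hMp := isPrime_of_isPModular hM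
  rw [← Finset.sum_filter_add_sum_filter_not S (fun s => ∀ u, act u s = s)]
  apply memLocalIdeal_add hMp
  · apply memLocalIdeal_sum hMp
    intro s hs
    rw [Finset.mem_filter] at hs
    exact hfix s hs.1 hs.2
  · apply sum_mem_of_fpf hM hK act h1 hmul
    · intro u s hs
      rw [Finset.mem_filter] at hs ⊢
      refine ⟨hS u s hs.1, fun hall => hs.2 fun w => ?_⟩
      have h2 := hall (u * w * u⁻¹)
      rw [← hmul, inv_mul_cancel_right, hmul] at h2
      have h3 := congrArg (act u⁻¹) h2
      have key : ∀ t, act u⁻¹ (act u t) = t := fun t => by rw [← hmul, inv_mul_cancel, h1]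
      rwa [key, key] at h3
    · intro s hs
      rw [Finset.mem_filter] at hs
      have := hs.2
      push Not at this
      exact this
    · intro u s hs
      exact hF u s (Finset.mem_filter.mp hs).1
    · intro s hs
      exact hFR s (Finset.mem_filter.mp hs).1

end Cfsg.Agent.Lib.Helper77.BPIdem
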