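import Mathlib
import Cfsg.Prelude.Def_BrauerPairs
import Cfsg.Agent.Lib.Helper77.BPIdem
import Cfsg.Agent.Lib.Helper16.MinMax

/-!
# Maximal Brauer pairs

For a maximal Brauer pair `(P, e)` of a block `B`:
* `coeff_mem_of_maximal`: the idempotent of `e` has coefficients in the local ideal at the
  elements centralized by a strictly larger `p`-subgroup of the stabilizer of `e`;
* the orbit sum of the idempotent of `e` under `N_G(P)` and its properties.
-/

set_option autoImplicit false

namespace Cfsg.Agent.Lib.Helper77.BPMax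

open Cfsg Cfsg.Agent.Lib.Helper77.LocalRing Cfsg.Agent.Lib.Helper77.CentralChar
  Cfsg.Agent.Lib.Helper77.ClassSum Cfsg.Agent.Lib.Helper77.BlockIdem
  Cfsg.Agent.Lib.Helper77.OsimaVanish Cfsg.Agent.Lib.Helper77.IdemIn
  Cfsg.Agent.Lib.Helper77.BPBasic Cfsg.Agent.Lib.Helper77.BPBrauer
  Cfsg.Agent.Lib.Helper77.BPPairs Cfsg.Agent.Lib.Helper77.BPConj
  Cfsg.Agent.Lib.Helper77.BPNormal Cfsg.Agent.Lib.Helper77.BPSubpair
  Cfsg.Agent.Lib.Helper77.BPIdem
  Cfsg.Agent.Lib.CT.Wedderburn Cfsg.Agent.Lib.Helper16.ZR Cfsg.Agent.Lib.Helper33.Conj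

universe u
variable {G : Type u} [Group G] {M : Ideal AlgInt}

/-- **Claim 1.**  For a maximal Brauer pair `(P, e)`: if `R` is a `p`-subgroup of the stabilizer
of `e` in `N_G(P)` which strictly contains `P`, then the idempotent of `e` has coefficients in the
local ideal on `C_G(R)`. -/
theorem coeff_mem_of_maximal [Finite G] {p : ℕ} [Fact p.Prime] (hM : IsPModular p M)
    {B : Set (IrrCharacter G)} {P : Subgroup G}
    {e : Set (IrrCharacter (Subgroup.centralizer (P : Set G)))}
    (hmax : IsMaximalBrauerPair p M B P e) (R : Subgroup G) (hR : IsPGroup p R) (hPR : P ≤ R)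
    (hne : R ≠ P) (hRN : R ≤ Subgroup.normalizer (P : Set G))
    (hst : ∀ x ∈ R, StabilizesBlock (Subgroup.centralizer (P : Set G)) e x) (c : G)
    (hc : c ∈ Subgroup.centralizer (R : Set G)) :
    MemLocalIdeal M ((ext (Subgroup.centralizer (P : Set G)) (blockIdem e)).coeff c) := by
  classical
  have hMp := isPrime_of_isPModular hM
  obtain ⟨⟨hPe, hB, hbr⟩, hmx⟩ := hmax
  have hCC : Subgroup.centralizer (R : Set G) ≤ Subgroup.centralizer (P : Set G) :=
    Subgroup.centralizer_le hPR
  have hRNC : R ≤ Subgroup.normalizer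
      ((Subgroup.centralizer (P : Set G) : Subgroup G) : Set G) :=
    hRN.trans (normalizer_le_normalizer_centralizer P)
  have hεp := ext_blockIdem_mem_pairSubring hMp _ R hRNC e hPe.2 hst
  obtain ⟨hε1, hε2, hε3, hε4⟩ := (mem_pairSubring hMp).mp hεp
  have hεε := ext_blockIdem_mul_self hM (Subgroup.centralizer (P : Set G)) e hPe.2
  obtain ⟨ε, hεdef⟩ : ∃ ε : MonoidAlgebra ℂ G,
      ε = ext (Subgroup.centralizer (P : Set G)) (blockIdem e) := ⟨_, rfl⟩
  rw [← hεdef] at hε1 hε2 hε3 hε4 hεε ⊢
  have huc : res (Subgroup.centralizer (R : Set G)) ε ∈ Zc (Subgroup.centralizer (R : Set G)) :=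
    res_mem_center _ (fixedSubring_mono hCC hε2)
  have huR : res (Subgroup.centralizer (R : Set G)) ε ∈ intSubring M hMp := fun h => hε4 (h : G)
  have hidem : ∀ h : Subgroup.centralizer (R : Set G), MemLocalIdeal M
      ((res (Subgroup.centralizer (R : Set G)) ε * res (Subgroup.centralizer (R : Set G)) ε -
        res (Subgroup.centralizer (R : Set G)) ε).coeff h) := by
    intro h
    have h1 := coeff_mul_sub_trunc hM R hR ε ε hε3 hε3 hε4 hε4 (h : G) h.2
    rw [hεε, ← ext_res, ← ext_mul, coeff_ext_of_mem] at h1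
    have h2 := memLocalIdeal_neg h1
    rw [neg_sub] at h2
    rw [MonoidAlgebra.coeff_sub]
    exact h2
  have hω : ∀ ζ : IrrCharacter (Subgroup.centralizer (R : Set G)), MemLocalIdeal M
      (omega (ζ : Subgroup.centralizer (R : Set G) → ℂ)
        (res (Subgroup.centralizer (R : Set G)) ε)) := by
    intro ζ
    by_contra hnot
    have haR : MemLocalRing M (omega (ζ : Subgroup.centralizer (R : Set G) → ℂ)
        (res (Subgroup.centralizer (R : Set G)) ε)) :=
      om_memLocalRing hMp _ ζ.2 ε (fixedSubring_mono hCC hε2) hε4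
    have h1 : MemLocalIdeal M (omega (ζ : Subgroup.centralizer (R : Set G) → ℂ)
          (res (Subgroup.centralizer (R : Set G)) ε) *
        (omega (ζ : Subgroup.centralizer (R : Set G) → ℂ)
          (res (Subgroup.centralizer (R : Set G)) ε) - 1)) := by
      have h2 := omega_memLocalIdeal hMp ζ.2 _
        (Subalgebra.sub_mem _ (Subalgebra.mul_mem _ huc huc) huc) hidem
      rw [omega_sub, omega_mul ζ.2 _ _ huc] at h2
      convert h2 using 1
      ring
    have h3 := (memLocalIdeal_or_of_mul hMp haR h1).resolve_left hnot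
    have hnorm : IsNormalSubpair p M P e R
        (blockOf M (ζ : Subgroup.centralizer (R : Set G) → ℂ)) := by
      refine ⟨hPe, ⟨hR, isPBlock_blockOf ζ⟩, hPR, hRN, hst, fun ζ' hζ' => ?_⟩
      rw [brauerOmega_eq, ofFun_subgroupBlockCoeff, ← hεdef]
      have a1 := om_sub_mem_of_sameBlock hMp _ ζ'.2 ζ.2
        (sameBlock_of_mem hMp (isPBlock_blockOf ζ) hζ' (mem_blockOf_self hMp ζ)) ε
        (fixedSubring_mono hCC hε2) hε4
      have a2 := memLocalIdeal_add hMp a1 h3
      convert a2 using 1
      unfold om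
      ring
    have hBR : IsBrauerPairOf p M B R (blockOf M (ζ : Subgroup.centralizer (R : Set G) → ℂ)) :=
      (isBrauerPairOf_iff_of_normal hM hnorm B hB).mpr ⟨hPe, hB, hbr⟩
    have hle : SubpairLE p M P e R (blockOf M (ζ : Subgroup.centralizer (R : Set G) → ℂ)) :=
      Relation.ReflTransGen.single hnorm
    exact hne (hmx R _ hBR hle)
  exact coeff_mem_of_omega_mem hMp _ huc huR hidem hω ⟨c, hc⟩

/-! ### The orbit of the idempotent under the normalizer -/

/-- The conjugates of the idempotent of `e` under `N_G(P)`. -/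
noncomputable def orbit [Finite G] (P : Subgroup G)
    (e : Set (IrrCharacter (Subgroup.centralizer (P : Set G)))) :
    Finset (MonoidAlgebra ℂ G) :=
  (Set.toFinite (Set.range (fun x : Subgroup.normalizer (P : Set G) =>
    conjA (x : G) (ext (Subgroup.centralizer (P : Set G)) (blockIdem e))))).toFinset

theorem mem_orbit [Finite G] {P : Subgroup G}
    {e : Set (IrrCharacter (Subgroup.centralizer (P : Set G)))} {s : MonoidAlgebra ℂ G} :
    s ∈ orbit P e ↔ ∃ x ∈ Subgroup.normalizer (P : Set G),
      conjA x (ext (Subgroup.centralizer (P : Set G)) (blockIdem e)) = s := by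
  unfold orbit
  rw [Set.Finite.mem_toFinset, Set.mem_range]
  constructor
  · rintro ⟨x, rfl⟩
    exact ⟨x, x.2, rfl⟩
  · rintro ⟨x, hx, rfl⟩
    exact ⟨⟨x, hx⟩, rfl⟩

theorem self_mem_orbit [Finite G] (P : Subgroup G)
    (e : Set (IrrCharacter (Subgroup.centralizer (P : Set G)))) :
    ext (Subgroup.centralizer (P : Set G)) (blockIdem e) ∈ orbit P e :=
  mem_orbit.mpr ⟨1, Subgroup.one_mem _, conjA_one _⟩

theorem conjA_mem_orbit [Finite G] {P : Subgroup G}
    {e : Set (IrrCharacter (Subgroup.centralizer (P : Set G)))} {x : G}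
    (hx : x ∈ Subgroup.normalizer (P : Set G)) {s : MonoidAlgebra ℂ G} (hs : s ∈ orbit P e) :
    conjA x s ∈ orbit P e := by
  obtain ⟨y, hy, rfl⟩ := mem_orbit.mp hs
  exact mem_orbit.mpr ⟨x * y, Subgroup.mul_mem _ hx hy, conjA_mul _ _ _⟩

/-- Every member of the orbit is the idempotent of a conjugate block. -/
theorem orbit_block [Finite G] {P : Subgroup G}
    {e : Set (IrrCharacter (Subgroup.centralizer (P : Set G)))} {s : MonoidAlgebra ℂ G}
    (hs : s ∈ orbit P e) :
    ∃ (x : G) (hx : x ∈ Subgroup.normalizer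
        ((Subgroup.centralizer (P : Set G) : Subgroup G) : Set G)),
      x ∈ Subgroup.normalizer (P : Set G) ∧
        s = ext (Subgroup.centralizer (P : Set G))
          (blockIdem (conjB (Subgroup.centralizer (P : Set G)) x hx e)) := by
  obtain ⟨x, hx, rfl⟩ := mem_orbit.mp hs
  exact ⟨x, normalizer_le_normalizer_centralizer P hx, hx,
    conjA_ext_blockIdem _ x (normalizer_le_normalizer_centralizer P hx) e⟩

theorem orbit_mem [Finite G] (hMp : M.IsPrime) {P : Subgroup G}
    {e : Set (IrrCharacter (Subgroup.centralizer (P : Set G)))} (he : IsPBlock M e)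
    {s : MonoidAlgebra ℂ G} (hs : s ∈ orbit P e) :
    s ∈ supportSubring (Subgroup.centralizer (P : Set G)) ∧
      s ∈ fixedSubring (Subgroup.centralizer (P : Set G)) ∧ s ∈ intSubring M hMp := by
  obtain ⟨x, hx, -, rfl⟩ := orbit_block hs
  exact ext_blockIdem_mem hMp _ _ (isPBlock_conjB _ x hx he)

/-- The sum of the conjugates of the idempotent of `e` under `N_G(P)`. -/
noncomputable def orbitSum [Finite G] (P : Subgroup G)
    (e : Set (IrrCharacter (Subgroup.centralizer (P : Set G)))) : MonoidAlgebra ℂ G :=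
  ∑ s ∈ orbit P e, s

theorem orbitSum_mem_fixed [Finite G] (P : Subgroup G)
    (e : Set (IrrCharacter (Subgroup.centralizer (P : Set G)))) :
    orbitSum P e ∈ fixedSubring (Subgroup.normalizer (P : Set G)) := by
  rw [mem_fixedSubring_iff_conjA]
  intro u hu
  unfold orbitSum
  rw [conjA_sum]
  exact Finset.sum_nbij' (conjA u) (conjA u⁻¹) (fun s hs => conjA_mem_orbit hu hs)
    (fun s hs => conjA_mem_orbit (Subgroup.inv_mem _ hu) hs) (fun s _ => conjA_inv_cancel u s)
    (fun s _ => conjA_cancel_inv u s) (fun s _ => rfl)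

theorem orbitSum_mem [Finite G] (hMp : M.IsPrime) {P : Subgroup G}
    {e : Set (IrrCharacter (Subgroup.centralizer (P : Set G)))} (he : IsPBlock M e) :
    orbitSum P e ∈ supportSubring (Subgroup.centralizer (P : Set G)) ∧
      orbitSum P e ∈ fixedSubring (Subgroup.centralizer (P : Set G)) ∧
        orbitSum P e ∈ intSubring M hMp :=
  ⟨Subring.sum_mem _ fun _ hs => (orbit_mem hMp he hs).1,
    Subring.sum_mem _ fun _ hs => (orbit_mem hMp he hs).2.1,
    Subring.sum_mem _ fun _ hs => (orbit_mem hMp he hs).2.2⟩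

/-- The central character of a member of `e` takes the value one on the orbit sum. -/
theorem om_orbitSum [Finite G] (hMp : M.IsPrime) {P : Subgroup G}
    {e : Set (IrrCharacter (Subgroup.centralizer (P : Set G)))} (he : IsPBlock M e)
    (ξ : IrrCharacter (Subgroup.centralizer (P : Set G))) (hξ : ξ ∈ e) :
    om (Subgroup.centralizer (P : Set G)) (ξ : Subgroup.centralizer (P : Set G) → ℂ)
      (orbitSum P e) = 1 := by
  classical
  unfold orbitSum
  rw [om_sum, Finset.sum_eq_single (ext (Subgroup.centralizer (P : Set G)) (blockIdem e))]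
  · rw [om_ext_blockIdem, if_pos hξ]
  · intro s hs hne
    obtain ⟨x, hx, -, rfl⟩ := orbit_block hs
    rw [om_ext_blockIdem]
    refine if_neg fun hin => hne ?_
    rw [isPBlock_eq_blockOf hMp (isPBlock_conjB _ x hx he) hin, isPBlock_eq_blockOf hMp he hξ]
  · intro hn
    exact absurd (self_mem_orbit P e) hn

/-- A character on which the orbit sum does not vanish lies in a conjugate of `e`. -/
theorem exists_conjB_of_om_orbitSum_ne_zero [Finite G] {P : Subgroup G}
    {e : Set (IrrCharacter (Subgroup.centralizer (P : Set G)))}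
    (ξ : IrrCharacter (Subgroup.centralizer (P : Set G)))
    (h : om (Subgroup.centralizer (P : Set G)) (ξ : Subgroup.centralizer (P : Set G) → ℂ)
      (orbitSum P e) ≠ 0) :
    ∃ (x : G) (hx : x ∈ Subgroup.normalizer
        ((Subgroup.centralizer (P : Set G) : Subgroup G) : Set G)),
      x ∈ Subgroup.normalizer (P : Set G) ∧
        ξ ∈ conjB (Subgroup.centralizer (P : Set G)) x hx e := by
  classical
  by_contra hnot
  apply h
  unfold orbitSum
  rw [om_sum]
  apply Finset.sum_eq_zero
  intro s hs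
  obtain ⟨x, hx, hxN, rfl⟩ := orbit_block hs
  rw [om_ext_blockIdem]
  exact if_neg fun hin => hnot ⟨x, hx, hxN, hin⟩

/-- **Claim 2.**  For a maximal Brauer pair `(P, e)`: the orbit sum has coefficients in the local
ideal at the elements centralized by a `p`-subgroup of `N_G(P)` strictly containing `P`. -/
theorem orbitSum_coeff_mem [Finite G] {p : ℕ} [Fact p.Prime] (hM : IsPModular p M)
    {B : Set (IrrCharacter G)} {P : Subgroup G}
    {e : Set (IrrCharacter (Subgroup.centralizer (P : Set G)))}
    (hmax : IsMaximalBrauerPair p M B P e) (S : Subgroup G) (hS : IsPGroup p S) (hPS : P ≤ S)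
    (hne : S ≠ P) (hSN : S ≤ Subgroup.normalizer (P : Set G)) (c : G)
    (hc : c ∈ Subgroup.centralizer (S : Set G)) :
    MemLocalIdeal M ((orbitSum P e).coeff c) := by
  classical
  have hMp := isPrime_of_isPModular hM
  have he : IsPBlock M e := hmax.1.1.2
  unfold orbitSum
  rw [coeff_sum]
  refine sum_mem_of_fixed hM (K := S) hS (fun u s => conjA (u : G) s)
    (fun s => by simp only [Subgroup.coe_one]; exact conjA_one s)
    (fun u v s => by simp only [Subgroup.coe_mul]; exact conjA_mul _ _ s) (orbit P e)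
    (fun u s hs => conjA_mem_orbit (hSN u.2) hs) (fun s => s.coeff c) ?_ ?_ ?_
  · intro s hs hfix
    obtain ⟨x, hx, rfl⟩ := mem_orbit.mp hs
    have hmemR : ∀ y : G, y ∈ S.map (MulAut.conj x⁻¹).toMonoidHom ↔ x * y * x⁻¹ ∈ S := by
      intro y
      rw [mem_cj, inv_inv]
    have hRP : P ≤ S.map (MulAut.conj x⁻¹).toMonoidHom := by
      intro y hy
      rw [hmemR]
      exact hPS ((Subgroup.mem_normalizer_iff.mp hx y).mp hy)
    have hRne : S.map (MulAut.conj x⁻¹).toMonoidHom ≠ P := by
      intro heq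
      apply hne
      apply le_antisymm _ hPS
      intro y hy
      have h1 : x⁻¹ * y * x ∈ S.map (MulAut.conj x⁻¹).toMonoidHom := by
        rw [hmemR]
        have h2 : x * (x⁻¹ * y * x) * x⁻¹ = y := by group
        rwa [h2]
      rw [heq] at h1
      have h3 := (Subgroup.mem_normalizer_iff.mp hx (x⁻¹ * y * x)).mp h1
      have h2 : x * (x⁻¹ * y * x) * x⁻¹ = y := by group
      rwa [h2] at h3
    have hRN : S.map (MulAut.conj x⁻¹).toMonoidHom ≤ Subgroup.normalizer (P : Set G) := by
      intro y hy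
      rw [hmemR] at hy
      have h1 := hSN hy
      have h2 : y = x⁻¹ * (x * y * x⁻¹) * x := by group
      rw [h2]
      exact Subgroup.mul_mem _ (Subgroup.mul_mem _ (Subgroup.inv_mem _ hx) h1) hx
    have hst : ∀ y ∈ S.map (MulAut.conj x⁻¹).toMonoidHom,
        StabilizesBlock (Subgroup.centralizer (P : Set G)) e y := by
      intro y hy
      rw [stabilizesBlock_iff_conjA _ y (normalizer_le_normalizer_centralizer P (hRN hy)) e]
      rw [hmemR] at hy
      have h1 := hfix ⟨x * y * x⁻¹, hy⟩
      have h2 : conjA (x * y * x⁻¹) (conjA x (ext (Subgroup.centralizer (P : Set G))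
          (blockIdem e))) = conjA x (ext (Subgroup.centralizer (P : Set G)) (blockIdem e)) := h1
      rw [← conjA_mul] at h2
      have h3 : x * y * x⁻¹ * x = x * y := by group
      rw [h3, conjA_mul] at h2
      exact conjA_injective x h2
    have hcR : x⁻¹ * c * x ∈ Subgroup.centralizer
        ((S.map (MulAut.conj x⁻¹).toMonoidHom : Subgroup G) : Set G) := by
      rw [Subgroup.mem_centralizer_iff]
      intro y hy
      have hy' : x * y * x⁻¹ ∈ S := (hmemR y).mp hy
      have h1 := Subgroup.mem_centralizer_iff.mp hc _ hy'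
      calc y * (x⁻¹ * c * x) = x⁻¹ * ((x * y * x⁻¹) * c) * x := by group
        _ = x⁻¹ * (c * (x * y * x⁻¹)) * x := by rw [h1]
        _ = x⁻¹ * c * x * y := by group
    have h4 := coeff_mem_of_maximal hM hmax _ (isPGroup_cj x⁻¹ hS) hRP hRne hRN hst _ hcR
    rw [coeff_conjA]
    exact h4
  · intro u s _
    show (conjA (u : G) s).coeff c = s.coeff c
    rw [coeff_conjA, conj_centralizer_eq u.2 c hc]
  · intro s hs
    exact (orbit_mem hMp he hs).2.2 c

end Cfsg.Agent.Lib.Helper77.BPMax
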