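import Mathlib
import Cfsg.Prelude.Def_BrauerPairs
import Cfsg.Agent.Lib.Helper77.BPMax

/-!
# Maximal Brauer pairs: the lift of the orbit sum to the centre of the group algebra

For a maximal Brauer pair `(P, e)` of `B` there is a central integral element `z` of the group
algebra of `G` whose truncation to `C_G(P)` is congruent to the `N_G(P)`-orbit sum of the
idempotent of `e`, and which is supported on the classes of elements `c` of `C_G(P)` such that `P`
is a Sylow `p`-subgroup of `C_G(c)`.  Consequences: `P` is a defect group of `B`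
(`isDefectGroup_of_maximal`) and `N_G(P)` is transitive on the Brauer pairs of `B` at `P`
(`exists_conjB_of_maximal`).
-/

set_option autoImplicit false

namespace Cfsg.Agent.Lib.Helper77.BPMax2

open Cfsg Cfsg.Agent.Lib.Helper77.LocalRing Cfsg.Agent.Lib.Helper77.CentralChar
  Cfsg.Agent.Lib.Helper77.ClassSum Cfsg.Agent.Lib.Helper77.BlockIdem
  Cfsg.Agent.Lib.Helper77.OsimaVanish Cfsg.Agent.Lib.Helper77.IdemIn
  Cfsg.Agent.Lib.Helper77.BPBasic Cfsg.Agent.Lib.Helper77.BPBrauer
  Cfsg.Agent.Lib.Helper77.BPPairs Cfsg.Agent.Lib.Helper77.BPConj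
  Cfsg.Agent.Lib.Helper77.BPNormal Cfsg.Agent.Lib.Helper77.BPSubpair
  Cfsg.Agent.Lib.Helper77.BPIdem Cfsg.Agent.Lib.Helper77.BPMax
  Cfsg.Agent.Lib.CT.Wedderburn Cfsg.Agent.Lib.Helper16.ZR Cfsg.Agent.Lib.Helper33.Conj
  Cfsg.Agent.Lib.Helper16.MinMax

universe u
variable {G : Type u} [Group G] {M : Ideal AlgInt}

/-- **Sylow step.** -/
theorem isSylIn_of_orbitSum_coeff [Finite G] {p : ℕ} [Fact p.Prime] (hM : IsPModular p M)
    {B : Set (IrrCharacter G)} {P : Subgroup G}
    {e : Set (IrrCharacter (Subgroup.centralizer (P : Set G)))}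
    (hmax : IsMaximalBrauerPair p M B P e) (c : G)
    (hcC : c ∈ Subgroup.centralizer (P : Set G))
    (hc : ¬ MemLocalIdeal M ((orbitSum P e).coeff c)) :
    IsSylIn p P (Subgroup.centralizer ({c} : Set G)) := by
  have hP : IsPGroup p P := hmax.1.1.1
  have hPc : P ≤ Subgroup.centralizer ({c} : Set G) := by
    intro y hy
    rw [mem_centralizer_singleton]
    exact (Subgroup.mem_centralizer_iff.mp hcC y hy).symm
  obtain ⟨S', hPS', hS'⟩ := exists_isSylIn hPc hP
  by_cases heq : S' = P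
  · rw [← heq]
    exact hS'
  · exfalso
    apply hc
    have hlt := lt_inf_normalizer hS'.2.1 hPS' (Ne.symm heq)
    refine orbitSum_coeff_mem hM hmax (S' ⊓ Subgroup.normalizer (P : Set G))
      (hS'.2.1.to_le inf_le_left) hlt.le hlt.ne' inf_le_right c ?_
    rw [Subgroup.mem_centralizer_iff]
    intro y hy
    have h1 := hS'.1 hy.1
    rw [mem_centralizer_singleton] at h1
    exact h1.symm

/-- **Fusion.**  If `P` is a Sylow `p`-subgroup of `C_G(c)`, then a `G`-conjugate of `c` which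
centralizes `P` is an `N_G(P)`-conjugate of `c`. -/
theorem exists_normalizer_conj [Finite G] {p : ℕ} [Fact p.Prime] {P : Subgroup G} {c : G}
    (hsyl : IsSylIn p P (Subgroup.centralizer ({c} : Set G))) (g : G)
    (hg : g⁻¹ * c * g ∈ Subgroup.centralizer (P : Set G)) :
    ∃ n ∈ Subgroup.normalizer (P : Set G), n⁻¹ * c * n = g⁻¹ * c * g := by
  have hP' : P.map (MulAut.conj g).toMonoidHom ≤ Subgroup.centralizer ({c} : Set G) := by
    intro y hy
    rw [mem_cj] at hy
    rw [mem_centralizer_singleton]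
    have h1 := Subgroup.mem_centralizer_iff.mp hg _ hy
    have h2 : g⁻¹ * (y * c) * g = g⁻¹ * (c * y) * g := by
      calc g⁻¹ * (y * c) * g = (g⁻¹ * y * g) * (g⁻¹ * c * g) := by group
        _ = (g⁻¹ * c * g) * (g⁻¹ * y * g) := h1
        _ = g⁻¹ * (c * y) * g := by group
    exact (mul_left_cancel (mul_right_cancel h2)).symm
  obtain ⟨x, hx, hle⟩ := hsyl.exists_cj_le hP' (isPGroup_cj g hsyl.2.1)
  have hn : x * g ∈ Subgroup.normalizer (P : Set G) := by
    rw [mem_normalizer_iff_cj_eq, ← cj_cj]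
    apply Subgroup.eq_of_le_of_card_ge hle
    rw [card_cj, card_cj]
  refine ⟨x * g, hn, ?_⟩
  rw [mem_centralizer_singleton] at hx
  calc (x * g)⁻¹ * c * (x * g) = g⁻¹ * (x⁻¹ * (c * x)) * g := by group
    _ = g⁻¹ * (x⁻¹ * (x * c)) * g := by rw [hx]
    _ = g⁻¹ * c * g := by group

/-- The orbit sum takes the same value at conjugate elements of `C_G(P)` where it is a unit. -/
theorem orbitSum_coeff_eq_of_isConj [Finite G] {p : ℕ} [Fact p.Prime] (hM : IsPModular p M)
    {B : Set (IrrCharacter G)} {P : Subgroup G}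
    {e : Set (IrrCharacter (Subgroup.centralizer (P : Set G)))}
    (hmax : IsMaximalBrauerPair p M B P e) {c c' : G}
    (hcC : c ∈ Subgroup.centralizer (P : Set G)) (hc'C : c' ∈ Subgroup.centralizer (P : Set G))
    (hconj : IsConj c c') (hc : ¬ MemLocalIdeal M ((orbitSum P e).coeff c)) :
    (orbitSum P e).coeff c' = (orbitSum P e).coeff c := by
  obtain ⟨k, hk⟩ := isConj_iff.mp hconj
  have hsyl := isSylIn_of_orbitSum_coeff hM hmax c hcC hc
  have h1 : k⁻¹⁻¹ * c * k⁻¹ = c' := by rw [inv_inv]; exact hk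
  obtain ⟨n, hn, hn'⟩ := exists_normalizer_conj hsyl k⁻¹ (by rw [h1]; exact hc'C)
  rw [h1] at hn'
  have h2 := (mem_fixedSubring.mp (orbitSum_mem_fixed P e)) n⁻¹ (Subgroup.inv_mem _ hn) c
  rw [inv_inv, hn'] at h2
  exact h2

/-- The coefficient function of the lift of the orbit sum. -/
noncomputable def liftFun [Finite G] (M : Ideal AlgInt) (P : Subgroup G)
    (e : Set (IrrCharacter (Subgroup.centralizer (P : Set G)))) : G → ℂ := fun g => by
  classical
  exact if h : ∃ c ∈ Subgroup.centralizer (P : Set G), IsConj c g ∧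
      ¬ MemLocalIdeal M ((orbitSum P e).coeff c) then (orbitSum P e).coeff h.choose else 0

theorem liftFun_of_exists [Finite G] {p : ℕ} [Fact p.Prime] (hM : IsPModular p M)
    {B : Set (IrrCharacter G)} {P : Subgroup G}
    {e : Set (IrrCharacter (Subgroup.centralizer (P : Set G)))}
    (hmax : IsMaximalBrauerPair p M B P e) {c g : G}
    (hcC : c ∈ Subgroup.centralizer (P : Set G)) (hconj : IsConj c g)
    (hc : ¬ MemLocalIdeal M ((orbitSum P e).coeff c)) :
    liftFun M P e g = (orbitSum P e).coeff c := by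
  classical
  have h : ∃ c ∈ Subgroup.centralizer (P : Set G), IsConj c g ∧
      ¬ MemLocalIdeal M ((orbitSum P e).coeff c) := ⟨c, hcC, hconj, hc⟩
  unfold liftFun
  rw [dif_pos h]
  obtain ⟨h1, h2, h3⟩ := h.choose_spec
  exact orbitSum_coeff_eq_of_isConj hM hmax hcC h1 (hconj.trans h2.symm) hc

theorem liftFun_of_not_exists [Finite G] {P : Subgroup G}
    {e : Set (IrrCharacter (Subgroup.centralizer (P : Set G)))} {g : G}
    (h : ¬ ∃ c ∈ Subgroup.centralizer (P : Set G), IsConj c g ∧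
      ¬ MemLocalIdeal M ((orbitSum P e).coeff c)) : liftFun M P e g = 0 := by
  classical
  unfold liftFun
  rw [dif_neg h]

/-- **The lift of the orbit sum.** -/
theorem exists_lift [Finite G] {p : ℕ} [Fact p.Prime] (hM : IsPModular p M)
    {B : Set (IrrCharacter G)} {P : Subgroup G}
    {e : Set (IrrCharacter (Subgroup.centralizer (P : Set G)))}
    (hmax : IsMaximalBrauerPair p M B P e) :
    ∃ z : MonoidAlgebra ℂ G,
      z ∈ fixedSubring (⊤ : Subgroup G) ⊓ intSubring M (isPrime_of_isPModular hM) ∧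
      (∀ c ∈ Subgroup.centralizer (P : Set G),
        MemLocalIdeal M (z.coeff c - (orbitSum P e).coeff c)) ∧
      ∀ g : G, z.coeff g ≠ 0 → ∃ c ∈ Subgroup.centralizer (P : Set G), IsConj c g ∧
        IsSylIn p P (Subgroup.centralizer ({c} : Set G)) := by
  classical
  have hMp := isPrime_of_isPModular hM
  have he : IsPBlock M e := hmax.1.1.2
  refine ⟨ofFun (liftFun M P e), Subring.mem_inf.mpr ⟨?_, ?_⟩, ?_, ?_⟩
  · rw [mem_fixedSubring]
    intro x _ g
    rw [coeff_ofFun, coeff_ofFun]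
    by_cases h : ∃ c ∈ Subgroup.centralizer (P : Set G), IsConj c g ∧
        ¬ MemLocalIdeal M ((orbitSum P e).coeff c)
    · obtain ⟨c, hcC, hconj, hc⟩ := h
      have hconj' : IsConj c (x * g * x⁻¹) :=
        hconj.trans (isConj_iff.mpr ⟨x, rfl⟩)
      rw [liftFun_of_exists hM hmax hcC hconj hc, liftFun_of_exists hM hmax hcC hconj' hc]
    · have h' : ¬ ∃ c ∈ Subgroup.centralizer (P : Set G), IsConj c (x * g * x⁻¹) ∧
          ¬ MemLocalIdeal M ((orbitSum P e).coeff c) := by
        rintro ⟨c, hcC, hconj, hc⟩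
        exact h ⟨c, hcC, hconj.trans (isConj_iff.mpr ⟨x, rfl⟩).symm, hc⟩
      rw [liftFun_of_not_exists h, liftFun_of_not_exists h']
  · rw [mem_intSubring]
    intro g
    rw [coeff_ofFun]
    by_cases h : ∃ c ∈ Subgroup.centralizer (P : Set G), IsConj c g ∧
        ¬ MemLocalIdeal M ((orbitSum P e).coeff c)
    · obtain ⟨c, hcC, hconj, hc⟩ := h
      rw [liftFun_of_exists hM hmax hcC hconj hc]
      exact (orbitSum_mem hMp he).2.2 c
    · rw [liftFun_of_not_exists h]
      exact memLocalRing_zero hMp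
  · intro c hcC
    rw [coeff_ofFun]
    by_cases h : ∃ c' ∈ Subgroup.centralizer (P : Set G), IsConj c' c ∧
        ¬ MemLocalIdeal M ((orbitSum P e).coeff c')
    · obtain ⟨c', hc'C, hconj, hc'⟩ := h
      rw [liftFun_of_exists hM hmax hc'C hconj hc',
        orbitSum_coeff_eq_of_isConj hM hmax hc'C hcC hconj hc', sub_self]
      exact memLocalIdeal_zero hMp
    · rw [liftFun_of_not_exists h, zero_sub]
      apply memLocalIdeal_neg
      by_contra hn
      exact h ⟨c, hcC, IsConj.refl c, hn⟩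
  · intro g hg
    rw [coeff_ofFun] at hg
    by_cases h : ∃ c ∈ Subgroup.centralizer (P : Set G), IsConj c g ∧
        ¬ MemLocalIdeal M ((orbitSum P e).coeff c)
    · obtain ⟨c, hcC, hconj, hc⟩ := h
      exact ⟨c, hcC, hconj, isSylIn_of_orbitSum_coeff hM hmax c hcC hc⟩
    · exact absurd (liftFun_of_not_exists h) hg

/-- A Brauer pair of `B` has its central characters congruent to those of a member of `B`. -/
theorem exists_irr_of_pairOf [Finite G] {p : ℕ} [Fact p.Prime] (hM : IsPModular p M)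
    {B : Set (IrrCharacter G)} {P : Subgroup G}
    {e : Set (IrrCharacter (Subgroup.centralizer (P : Set G)))}
    (hBe : IsBrauerPairOf p M B P e) :
    ∃ χ₀ ∈ B, ∀ z ∈ fixedSubring (⊤ : Subgroup G) ⊓ intSubring M (isPrime_of_isPModular hM),
      ∀ ξ ∈ e, MemLocalIdeal M (om (Subgroup.centralizer (P : Set G))
        (ξ : Subgroup.centralizer (P : Set G) → ℂ) z - omega (χ₀ : G → ℂ) z) := by
  classical
  have hMp := isPrime_of_isPModular hM
  obtain ⟨hPe, hB, hbr⟩ := hBe
  obtain ⟨χ₀, hχ₀⟩ := exists_irr_of_pair hM P e hPe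
  obtain ⟨ξ₀, hξ₀⟩ := isPBlock_nonempty hMp hPe.2
  refine ⟨χ₀, ?_, hχ₀⟩
  by_contra hn
  have h := hχ₀ (blockIdem B) (blockIdem_mem_top hMp B hB) ξ₀ hξ₀
  rw [omega_blockIdem, if_neg hn, sub_zero] at h
  have h2 := hbr ξ₀ hξ₀
  rw [brauerOmega_eq] at h2
  have h2' : MemLocalIdeal M (om (Subgroup.centralizer (P : Set G))
      (ξ₀ : Subgroup.centralizer (P : Set G) → ℂ) (blockIdem B) - 1) := h2
  have h3 := memLocalIdeal_sub hMp h h2'
  rw [sub_sub_cancel] at h3
  exact not_memLocalIdeal_one hMp h3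

/-- The lift of the orbit sum has central character value `≡ 1` at every member of `B` and at
every member of a block `e'` of `C_G(P)` with `(P, e')` a Brauer pair of `B`. -/
theorem lift_spec [Finite G] {p : ℕ} [Fact p.Prime] (hM : IsPModular p M)
    {B : Set (IrrCharacter G)} {P : Subgroup G}
    {e : Set (IrrCharacter (Subgroup.centralizer (P : Set G)))}
    (hmax : IsMaximalBrauerPair p M B P e) (z : MonoidAlgebra ℂ G)
    (hz : z ∈ fixedSubring (⊤ : Subgroup G) ⊓ intSubring M (isPrime_of_isPModular hM))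
    (hzC : ∀ c ∈ Subgroup.centralizer (P : Set G),
        MemLocalIdeal M (z.coeff c - (orbitSum P e).coeff c)) :
    (∀ ξ : IrrCharacter (Subgroup.centralizer (P : Set G)),
      MemLocalIdeal M (om (Subgroup.centralizer (P : Set G))
        (ξ : Subgroup.centralizer (P : Set G) → ℂ) z -
        om (Subgroup.centralizer (P : Set G))
          (ξ : Subgroup.centralizer (P : Set G) → ℂ) (orbitSum P e))) ∧
    (∀ χ ∈ B, MemLocalIdeal M (omega (χ : G → ℂ) z - 1)) := by
  classical
  have hMp := isPrime_of_isPModular hM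
  have he : IsPBlock M e := hmax.1.1.2
  have hB : IsPBlock M B := hmax.1.2.1
  obtain ⟨hz1, hz2⟩ := Subring.mem_inf.mp hz
  have hA : ∀ ξ : IrrCharacter (Subgroup.centralizer (P : Set G)),
      MemLocalIdeal M (om (Subgroup.centralizer (P : Set G))
        (ξ : Subgroup.centralizer (P : Set G) → ℂ) z -
        om (Subgroup.centralizer (P : Set G))
          (ξ : Subgroup.centralizer (P : Set G) → ℂ) (orbitSum P e)) := by
    intro ξ
    rw [← om_sub]
    refine om_memLocalIdeal hMp _ ξ.2 _ (Subring.sub_mem _ (fixedSubring_mono le_top hz1)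
      (orbitSum_mem hMp he).2.1) fun h => ?_
    rw [MonoidAlgebra.coeff_sub]
    exact hzC h h.2
  refine ⟨hA, ?_⟩
  obtain ⟨χ₀, hχ₀B, hχ₀⟩ := exists_irr_of_pairOf hM hmax.1
  obtain ⟨ξ₀, hξ₀⟩ := isPBlock_nonempty hMp he
  have h1 := hχ₀ z hz ξ₀ hξ₀
  have h2 := hA ξ₀
  rw [om_orbitSum hMp he ξ₀ hξ₀] at h2
  have h3 : MemLocalIdeal M (omega (χ₀ : G → ℂ) z - 1) := by
    have := memLocalIdeal_sub hMp h2 h1
    convert this using 1
    ring
  intro χ hχ
  have h4 := omega_sub_mem_of_sameBlock hMp χ.2 χ₀.2 (sameBlock_of_mem hMp hB hχ hχ₀B) z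
    (mem_fixedSubring_top_iff.mp hz1) hz2
  have h5 := memLocalIdeal_add hMp h4 h3
  convert h5 using 1
  ring

/-- **Maximal Brauer pairs and defect classes.**  For a maximal Brauer pair `(P, e)` of `B` there
is an element `c` of `C_G(P)` such that `P` is a Sylow `p`-subgroup of `C_G(c)` and the central
characters of `B` do not vanish modulo the local ideal at `c`. -/
theorem exists_class_of_maximal [Finite G] {p : ℕ} [Fact p.Prime] (hM : IsPModular p M)
    {B : Set (IrrCharacter G)} {P : Subgroup G}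
    {e : Set (IrrCharacter (Subgroup.centralizer (P : Set G)))}
    (hmax : IsMaximalBrauerPair p M B P e) :
    ∃ c ∈ Subgroup.centralizer (P : Set G), IsSylIn p P (Subgroup.centralizer ({c} : Set G)) ∧
      ∃ χ ∈ B, ¬ MemLocalIdeal M (centralChar (χ : G → ℂ) c) := by
  classical
  have hMp := isPrime_of_isPModular hM
  have hB : IsPBlock M B := hmax.1.2.1
  obtain ⟨z, hz, hzC, hzS⟩ := exists_lift hM hmax
  obtain ⟨-, hω⟩ := lift_spec hM hmax z hz hzC
  obtain ⟨χ₀, hχ₀⟩ := isPBlock_nonempty hMp hB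
  obtain ⟨hz1, hz2⟩ := Subring.mem_inf.mp hz
  obtain ⟨Rep, hRep⟩ := exists_reps_omega (G := G)
  have h1 := hRep (χ₀ : G → ℂ) z (fun x g => irr_conj_inv χ₀ x g) (mem_fixedSubring_top_iff.mp hz1)
  have h2 : ¬ MemLocalIdeal M (omega (χ₀ : G → ℂ) z) :=
    not_memLocalIdeal_of_sub_one hMp (hω χ₀ hχ₀)
  rw [h1] at h2
  have h3 : ∃ r ∈ Rep, ¬ MemLocalIdeal M (z.coeff r * centralChar (χ₀ : G → ℂ) r) := by
    by_contra hn
    push Not at hn
    exact h2 (memLocalIdeal_sum hMp _ _ hn)
  obtain ⟨r, -, hr⟩ := h3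
  have hr0 : z.coeff r ≠ 0 := by
    intro h0
    rw [h0, zero_mul] at hr
    exact hr (memLocalIdeal_zero hMp)
  obtain ⟨c, hcC, hconj, hsyl⟩ := hzS r hr0
  refine ⟨c, hcC, hsyl, χ₀, hχ₀, fun hm => hr ?_⟩
  rw [← centralChar_eq_of_isConj χ₀ hconj] at hm
  exact memLocalIdeal_mul_left hMp (hz2 r) hm

/-- **A maximal Brauer pair of `B` has a defect group of `B` as its subgroup.** -/
theorem isDefectGroup_of_maximal [Finite G] {p : ℕ} [Fact p.Prime] (hM : IsPModular p M)
    {B : Set (IrrCharacter G)} {P : Subgroup G}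
    {e : Set (IrrCharacter (Subgroup.centralizer (P : Set G)))}
    (hmax : IsMaximalBrauerPair p M B P e) : IsDefectGroup p M B P := by
  classical
  have hMp := isPrime_of_isPModular hM
  have hB : IsPBlock M B := hmax.1.2.1
  have hPe : IsBrauerPair p M P e := hmax.1.1
  obtain ⟨D, hD⟩ := exists_defectGroup hM B hB
  obtain ⟨g₀, hg₀, hDsyl⟩ := isDefectGroup_iff.mp hD
  -- `P` is contained in a conjugate of `D`
  obtain ⟨ξ₀, hξ₀⟩ := isPBlock_nonempty hMp hPe.2
  have hex : ∃ h : Subgroup.centralizer (P : Set G), ¬ MemLocalIdeal M (blockCoeff B (h : G)) := by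
    by_contra hn
    push Not at hn
    have h1 := hmax.1.2.2 ξ₀ hξ₀
    rw [brauerOmega_eq] at h1
    have h2 := om_memLocalIdeal hMp _ ξ₀.2 (ofFun (blockCoeff B))
      (fixedSubring_mono le_top (Subring.mem_inf.mp (blockIdem_mem_top hMp B hB)).1)
      (fun h => hn h)
    have h3 := memLocalIdeal_sub hMp h2 h1
    rw [sub_sub_cancel] at h3
    exact not_memLocalIdeal_one hMp h3
  obtain ⟨h, hh⟩ := hex
  have hPh : P ≤ Subgroup.centralizer ({(h : G)} : Set G) := by
    intro y hy
    rw [mem_centralizer_singleton]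
    exact (Subgroup.mem_centralizer_iff.mp h.2 y hy).symm
  obtain ⟨x, hx⟩ := minmax_a hM B hB g₀ hg₀ D hDsyl (h : G) hh P hPe.1 hPh
  -- a conjugate of `D` is contained in a conjugate of `P`
  obtain ⟨c, -, hsyl, hχ⟩ := exists_class_of_maximal hM hmax
  obtain ⟨x', Q, hQsyl, hx'⟩ := minmax_b hM B hB g₀ hg₀ D hDsyl c hχ
  have hcard : Nat.card D ≤ Nat.card P := by
    calc Nat.card D = Nat.card (D.map (MulAut.conj x').toMonoidHom) := (card_cj x' D).symm
      _ ≤ Nat.card Q := Subgroup.card_le_of_le hx'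
      _ ≤ Nat.card P := hsyl.card_le hQsyl.1 hQsyl.2.1
  have heq : P = D.map (MulAut.conj x).toMonoidHom := by
    apply Subgroup.eq_of_le_of_card_ge hx
    rw [card_cj]
    exact hcard
  rw [heq]
  exact isDefectGroup_conj hD x

/-- **Transitivity of the normalizer**: if `(P, e)` is a maximal Brauer pair of `B`, every
Brauer pair `(P, e')` of `B` is conjugate to `(P, e)` under `N_G(P)`. -/
theorem exists_conjB_of_maximal [Finite G] {p : ℕ} [Fact p.Prime] (hM : IsPModular p M)
    {B : Set (IrrCharacter G)} {P : Subgroup G}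
    {e e' : Set (IrrCharacter (Subgroup.centralizer (P : Set G)))}
    (hmax : IsMaximalBrauerPair p M B P e) (hBe' : IsBrauerPairOf p M B P e') :
    ∃ (x : G) (hx : x ∈ Subgroup.normalizer
        ((Subgroup.centralizer (P : Set G) : Subgroup G) : Set G)),
      x ∈ Subgroup.normalizer (P : Set G) ∧
        e' = conjB (Subgroup.centralizer (P : Set G)) x hx e := by
  classical
  have hMp := isPrime_of_isPModular hM
  have he : IsPBlock M e := hmax.1.1.2
  have he' : IsPBlock M e' := hBe'.1.2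
  obtain ⟨z, hz, hzC, -⟩ := exists_lift hM hmax
  obtain ⟨hA, hω⟩ := lift_spec hM hmax z hz hzC
  obtain ⟨χ₁, hχ₁B, hχ₁⟩ := exists_irr_of_pairOf hM hBe'
  obtain ⟨ξ', hξ'⟩ := isPBlock_nonempty hMp he'
  have h1 := hχ₁ z hz ξ' hξ'
  have h2 := hω χ₁ hχ₁B
  have h3 := hA ξ'
  have h4 : MemLocalIdeal M (om (Subgroup.centralizer (P : Set G))
      (ξ' : Subgroup.centralizer (P : Set G) → ℂ) (orbitSum P e) - 1) := by
    have := memLocalIdeal_sub hMp (memLocalIdeal_add hMp h1 h2) h3
    convert this using 1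
    ring
  have h5 : om (Subgroup.centralizer (P : Set G))
      (ξ' : Subgroup.centralizer (P : Set G) → ℂ) (orbitSum P e) ≠ 0 := by
    intro h0
    rw [h0] at h4
    exact not_memLocalIdeal_of_sub_one hMp h4 (memLocalIdeal_zero hMp)
  obtain ⟨x, hx, hxN, hin⟩ := exists_conjB_of_om_orbitSum_ne_zero ξ' h5
  exact ⟨x, hx, hxN, by
    rw [isPBlock_eq_blockOf hMp he' hξ', isPBlock_eq_blockOf hMp (isPBlock_conjB _ x hx he) hin]⟩

end Cfsg.Agent.Lib.Helper77.BPMax2
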