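import Mathlib
import Cfsg.Prelude.Def_BrauerPairs
import Cfsg.Agent.Lib.Helper77.BPMax2
import Cfsg.Agent.Lib.Helper77.BPEquiv

/-!
# Conjugacy of maximal Brauer pairs

* `exists_maximal_above`: every Brauer pair of `B` lies below a maximal Brauer pair of `B`.
* `exists_conj_eq_of_maximal`: a Brauer pair of `B` whose subgroup is conjugate to the subgroup
  of a maximal Brauer pair of `B` is conjugate to that maximal pair.
* `exists_conj_le_of_maximal`: every Brauer pair of `B` is conjugate to a pair below a given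
  maximal Brauer pair of `B`.
-/

set_option autoImplicit false

namespace Cfsg.Agent.Lib.Helper77.BPConjMax

open Cfsg Cfsg.Agent.Lib.Helper77.LocalRing Cfsg.Agent.Lib.Helper77.CentralChar
  Cfsg.Agent.Lib.Helper77.ClassSum Cfsg.Agent.Lib.Helper77.BlockIdem
  Cfsg.Agent.Lib.Helper77.OsimaVanish Cfsg.Agent.Lib.Helper77.IdemIn
  Cfsg.Agent.Lib.Helper77.BPBasic Cfsg.Agent.Lib.Helper77.BPBrauer
  Cfsg.Agent.Lib.Helper77.BPPairs Cfsg.Agent.Lib.Helper77.BPConj
  Cfsg.Agent.Lib.Helper77.BPNormal Cfsg.Agent.Lib.Helper77.BPSubpair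
  Cfsg.Agent.Lib.Helper77.BPIdem Cfsg.Agent.Lib.Helper77.BPMax
  Cfsg.Agent.Lib.Helper77.BPMax2 Cfsg.Agent.Lib.Helper77.BPEquiv
  Cfsg.Agent.Lib.Helper77.BPTransport
  Cfsg.Agent.Lib.CT.Wedderburn Cfsg.Agent.Lib.Helper16.ZR Cfsg.Agent.Lib.Helper33.Conj
  Cfsg.Agent.Lib.Helper16.MinMax

universe u
variable {G : Type u} [Group G] {M : Ideal AlgInt}

/-- Every Brauer pair of `B` lies below a maximal Brauer pair of `B`. -/
theorem exists_maximal_above [Finite G] {p : ℕ} (B : Set (IrrCharacter G)) :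
    ∀ (k : ℕ) (a b : BrauerPairIdx G), IsBrauerPairOf p M B b.1 b.2 →
      Relation.ReflTransGen (NormalSubpairRel p M) a b → Nat.card G - Nat.card b.1 = k →
      ∃ c : BrauerPairIdx G, IsMaximalBrauerPair p M B c.1 c.2 ∧
        Relation.ReflTransGen (NormalSubpairRel p M) a c := by
  intro k
  induction k using Nat.strong_induction_on with
  | _ k IH =>
  intro a b hb hab hk
  by_cases hmax : IsMaximalBrauerPair p M B b.1 b.2
  · exact ⟨b, hmax, hab⟩
  · unfold IsMaximalBrauerPair at hmax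
    push Not at hmax
    obtain ⟨R, g, hRg, hle, hne⟩ := hmax hb
    have hle' : Relation.ReflTransGen (NormalSubpairRel p M) b ⟨R, g⟩ := hle
    have hlt : b.1 < R := lt_of_le_of_ne (le_of_subpairLE _ _ hle') (Ne.symm hne)
    have hcard := card_lt_of_lt hlt
    have hRG : Nat.card R ≤ Nat.card G := Subgroup.card_le_card_group R
    exact IH (Nat.card G - Nat.card R) (by omega) a ⟨R, g⟩ hRg (hab.trans hle') rfl

/-- A Brauer pair of `B` whose subgroup is conjugate to the subgroup of a maximal Brauer pair of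
`B` is conjugate to that maximal pair. -/
theorem exists_conj_eq_of_maximal [Finite G] {p : ℕ} [Fact p.Prime] (hM : IsPModular p M)
    {B : Set (IrrCharacter G)} {P : Subgroup G}
    {e : Set (IrrCharacter (Subgroup.centralizer (P : Set G)))}
    (hmax : IsMaximalBrauerPair p M B P e) (P' : Subgroup G)
    (e' : Set (IrrCharacter (Subgroup.centralizer (P' : Set G))))
    (hBe' : IsBrauerPairOf p M B P' e') (x : G)
    (hx : P'.map (MulAut.conj x).toMonoidHom = P) :
    ∃ y : G, cjp y ⟨P', e'⟩ = (⟨P, e⟩ : BrauerPairIdx G) := by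
  subst hx
  have hMp := isPrime_of_isPModular hM
  have he : IsPBlock M e := hmax.1.1.2
  have hB₂ := isBrauerPairOf_conj B P' x hBe'
  obtain ⟨n, hn, hnN, hconj⟩ := exists_conjB_of_maximal hM hmax hB₂
  refine ⟨n⁻¹ * x, ?_⟩
  obtain ⟨ξ₂, hξ₂⟩ := isPBlock_nonempty hMp he
  have h1 : pull (normConj _ n hn) ξ₂ ∈ conjBlock P' x e' := by
    rw [hconj]
    exact ⟨ξ₂, hξ₂, rfl⟩
  obtain ⟨ξ', hξ', hrel⟩ := h1
  show (⟨P'.map (MulAut.conj (n⁻¹ * x)).toMonoidHom, conjBlock P' (n⁻¹ * x) e'⟩ :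
    BrauerPairIdx G) = ⟨P'.map (MulAut.conj x).toMonoidHom, e⟩
  apply pair_ext hMp
  · rw [← cj_cj]
    exact cj_eq_of_mem_normalizer (Subgroup.inv_mem _ hnN)
  · exact isPBlock_conjBlock P' _ hBe'.1.2
  · exact he
  · refine ⟨pull (cIso P' (n⁻¹ * x)).symm ξ', ?_, ξ₂, hξ₂, ?_⟩
    · rw [conjBlock_eq]
      exact ⟨ξ', hξ', rfl⟩
    · intro c₁ c₂ h12
      rw [pull_apply]
      have h2 := hrel ((cIso P' (n⁻¹ * x)).symm c₁)
        (cIso P' x ((cIso P' (n⁻¹ * x)).symm c₁)) rfl
      rw [← h2, pull_apply]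
      have h3 : normConj _ n hn (cIso P' x ((cIso P' (n⁻¹ * x)).symm c₁)) = c₂ := by
        apply Subtype.ext
        rw [coe_normConj, coe_cIso, coe_cIso_symm, ← h12]
        group
      rw [h3]

/-- **Conjugacy of maximal Brauer pairs**: every Brauer pair of `B` is conjugate to a pair below a
given maximal Brauer pair of `B`. -/
theorem exists_conj_le_of_maximal [Finite G] {p : ℕ} [Fact p.Prime] (hM : IsPModular p M)
    {B : Set (IrrCharacter G)} {P Q : Subgroup G}
    {e : Set (IrrCharacter (Subgroup.centralizer (P : Set G)))}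
    {f : Set (IrrCharacter (Subgroup.centralizer (Q : Set G)))}
    (hmax : IsMaximalBrauerPair p M B P e) (hQf : IsBrauerPairOf p M B Q f) :
    ∃ x : G, SubpairLE p M (Q.map (MulAut.conj x).toMonoidHom) (conjBlock Q x f) P e := by
  have hB := hmax.1.2.1
  obtain ⟨⟨P', e'⟩, hmax', hle⟩ := exists_maximal_above (p := p) (M := M) B _ ⟨Q, f⟩ ⟨Q, f⟩ hQf
    Relation.ReflTransGen.refl rfl
  have hD := isDefectGroup_of_maximal hM hmax'
  have hE := isDefectGroup_of_maximal hM hmax
  obtain ⟨x, hx⟩ := defectGroup_conj hM B hB hD hE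
  obtain ⟨y, hy⟩ := exists_conj_eq_of_maximal hM hmax P' e' hmax'.1 x hx.symm
  refine ⟨y, ?_⟩
  have h1 := subpairLE_conj (p := p) (M := M) y hle
  rw [hy] at h1
  exact h1

end Cfsg.Agent.Lib.Helper77.BPConjMax
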