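import Cfsg.Agent.Lib.Helper77.BPFix

/-!
# Brauer pairs of a subgroup containing a centralizer; relative first main theorem
-/

set_option autoImplicit false

namespace Cfsg.Agent.Lib.Helper77.BPSub

open Cfsg Cfsg.Agent.Lib.Helper77.LocalRing Cfsg.Agent.Lib.Helper77.CentralChar
  Cfsg.Agent.Lib.Helper77.ClassSum Cfsg.Agent.Lib.Helper77.BlockIdem
  Cfsg.Agent.Lib.Helper77.OsimaVanish Cfsg.Agent.Lib.Helper77.IdemIn
  Cfsg.Agent.Lib.Helper77.BPBasic Cfsg.Agent.Lib.Helper77.BPBrauer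
  Cfsg.Agent.Lib.Helper77.BPPairs Cfsg.Agent.Lib.Helper77.BPConj
  Cfsg.Agent.Lib.Helper77.BPNormal Cfsg.Agent.Lib.Helper77.BPSubpair
  Cfsg.Agent.Lib.Helper77.BPIdem Cfsg.Agent.Lib.Helper77.BPMax
  Cfsg.Agent.Lib.Helper77.BPMax2 Cfsg.Agent.Lib.Helper77.BPEquiv
  Cfsg.Agent.Lib.Helper77.BPEquiv2
  Cfsg.Agent.Lib.Helper77.BPTransport Cfsg.Agent.Lib.Helper77.BPConjMax
  Cfsg.Agent.Lib.Helper77.BPCent Cfsg.Agent.Lib.Helper77.BPStab
  Cfsg.Agent.Lib.Helper77.BPNorm Cfsg.Agent.Lib.Helper77.BPFix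
  Cfsg.Agent.Lib.CT.Wedderburn Cfsg.Agent.Lib.Helper16.ZR Cfsg.Agent.Lib.Helper33.Conj
  Cfsg.Agent.Lib.Helper16.MinMax

universe u
variable {G : Type u} [Group G] {M : Ideal AlgInt}

/-! ### Equality of pairs through idempotents -/

theorem pair_eq_of_ext_eq [Finite G] {Q₁ Q₂ : Subgroup G}
    {f₁ : Set (IrrCharacter (Subgroup.centralizer (Q₁ : Set G)))}
    {f₂ : Set (IrrCharacter (Subgroup.centralizer (Q₂ : Set G)))} (hQ : Q₁ = Q₂)
    (h : ext (Subgroup.centralizer (Q₁ : Set G)) (blockIdem f₁) =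
      ext (Subgroup.centralizer (Q₂ : Set G)) (blockIdem f₂)) :
    (⟨Q₁, f₁⟩ : BrauerPairIdx G) = ⟨Q₂, f₂⟩ := by
  subst hQ
  have h2 := congrArg (res (Subgroup.centralizer (Q₁ : Set G))) h
  rw [res_ext, res_ext] at h2
  rw [blockIdem_injective h2]

theorem ext_eq_of_pair_eq [Finite G] {a b : BrauerPairIdx G} (h : a = b) :
    ext (Subgroup.centralizer (a.1 : Set G)) (blockIdem a.2) =
      ext (Subgroup.centralizer (b.1 : Set G)) (blockIdem b.2) := by
  subst h
  rfl

/-- An element of the stabilizer fixes the pair. -/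
theorem cjp_eq_self [Finite G] {Q : Subgroup G}
    {f : Set (IrrCharacter (Subgroup.centralizer (Q : Set G)))} {x : G}
    (hx : x ∈ Subgroup.normalizer (Q : Set G))
    (hs : StabilizesBlock (Subgroup.centralizer (Q : Set G)) f x) :
    cjp x ⟨Q, f⟩ = (⟨Q, f⟩ : BrauerPairIdx G) := by
  have h1 := (stabilizesBlock_iff_conjA _ x (normalizer_le_normalizer_centralizer Q hx) f).mp hs
  rw [conjA_ext_blockIdem_conjBlock] at h1
  exact pair_eq_of_ext_eq (cj_eq_of_mem_normalizer hx) h1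

/-- An element fixing the pair lies in the stabilizer. -/
theorem stabilizes_of_cjp_eq [Finite G] {Q : Subgroup G}
    {f : Set (IrrCharacter (Subgroup.centralizer (Q : Set G)))} {x : G}
    (h : cjp x ⟨Q, f⟩ = (⟨Q, f⟩ : BrauerPairIdx G)) :
    x ∈ Subgroup.normalizer (Q : Set G) ∧
      StabilizesBlock (Subgroup.centralizer (Q : Set G)) f x := by
  have h1 : Q.map (MulAut.conj x).toMonoidHom = Q := congrArg Sigma.fst h
  have hx := mem_normalizer_iff_cj_eq.mpr h1
  refine ⟨hx, (stabilizesBlock_iff_conjA _ x (normalizer_le_normalizer_centralizer Q hx) f).mpr ?_⟩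
  have h2 := ext_eq_of_pair_eq h
  rw [conjA_ext_blockIdem_conjBlock]
  exact h2

/-- Conjugating a pair by an element normalizing the subgroup. -/
theorem cjp_eq_conjB [Finite G] {P : Subgroup G}
    {e : Set (IrrCharacter (Subgroup.centralizer (P : Set G)))} {y : G}
    (hy : y ∈ Subgroup.normalizer (P : Set G)) :
    cjp y ⟨P, e⟩ = (⟨P, conjB (Subgroup.centralizer (P : Set G)) y
      (normalizer_le_normalizer_centralizer P hy) e⟩ : BrauerPairIdx G) := by
  have h1 := conjA_ext_blockIdem (Subgroup.centralizer (P : Set G)) y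
    (normalizer_le_normalizer_centralizer P hy) e
  rw [conjA_ext_blockIdem_conjBlock] at h1
  exact pair_eq_of_ext_eq (cj_eq_of_mem_normalizer hy) h1

/-- An inclusion of pairs with normal subgroup inclusion is a normal inclusion. -/
theorem isNormalSubpair_of_le [Finite G] {p : ℕ} [Fact p.Prime] (hM : IsPModular p M)
    {Q P : Subgroup G} {f : Set (IrrCharacter (Subgroup.centralizer (Q : Set G)))}
    {e : Set (IrrCharacter (Subgroup.centralizer (P : Set G)))} (hPe : IsBrauerPair p M P e)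
    (hle : SubpairLE p M Q f P e) (hPN : P ≤ Subgroup.normalizer (Q : Set G)) :
    IsNormalSubpair p M Q f P e := by
  have hQP : Q ≤ P := le_of_subpairLE (p := p) (M := M) ⟨Q, f⟩ ⟨P, e⟩ hle
  obtain ⟨g, hg, hgle⟩ := exists_mid hM hPe hle P hQP le_rfl hPN
  have hge : g = e := subpair_unique hM _ P rfl e P g e hPe hgle Relation.ReflTransGen.refl
  rw [← hge]
  exact hg

/-- A Brauer pair of a block on a defect group is maximal. -/
theorem isMaximal_of_isDefectGroup {H : Type u} [Group H] [Finite H] {p : ℕ} [Fact p.Prime]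
    (hM : IsPModular p M) {F : Set (IrrCharacter H)} {R : Subgroup H}
    {g : Set (IrrCharacter (Subgroup.centralizer (R : Set H)))}
    (hpair : IsBrauerPairOf p M F R g) (hD : IsDefectGroup p M F R) :
    IsMaximalBrauerPair p M F R g := by
  refine ⟨hpair, fun R₂ g₂ hpair₂ hle => ?_⟩
  have hRR₂ : R ≤ R₂ := le_of_subpairLE (p := p) (M := M) ⟨R, g⟩ ⟨R₂, g₂⟩ hle
  obtain ⟨c, hcmax, hc⟩ := exists_maximal_above (p := p) (M := M) F _ ⟨R₂, g₂⟩ ⟨R₂, g₂⟩ hpair₂
    Relation.ReflTransGen.refl rfl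
  have hR₂c : R₂ ≤ c.1 := le_of_subpairLE (p := p) (M := M) ⟨R₂, g₂⟩ c hc
  have hDc := isDefectGroup_of_maximal hM hcmax
  obtain ⟨x, hx⟩ := defectGroup_conj hM F hpair.2.1 hD hDc
  have hcard : Nat.card c.1 = Nat.card R := by rw [hx, card_cj]
  exact (Subgroup.eq_of_le_of_card_ge hRR₂
    (by rw [← hcard]; exact Subgroup.card_le_of_le hR₂c)).symm

/-- If `(Q, f) ≤ (P, e)` with `(P, e)` maximal and `P ≤ C_G(Q)`, then `P` is a defect group of
`f`. -/
theorem isDefectGroup_of_le_centralizer [Finite G] {p : ℕ} [Fact p.Prime] (hM : IsPModular p M)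
    {B : Set (IrrCharacter G)} {P : Subgroup G}
    {e : Set (IrrCharacter (Subgroup.centralizer (P : Set G)))}
    (hmax : IsMaximalBrauerPair p M B P e) {Q : Subgroup G}
    {f : Set (IrrCharacter (Subgroup.centralizer (Q : Set G)))} (hle : SubpairLE p M Q f P e)
    (hPC : P ≤ Subgroup.centralizer (Q : Set G)) :
    IsDefectGroup p M f (P.subgroupOf (Subgroup.centralizer (Q : Set G))) := by
  have hPinf : P ⊓ Subgroup.centralizer (Q : Set G) = P := inf_eq_left.mpr hPC
  have h := isDefectGroup_of_max hM hmax hle (fun y _ => by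
    rw [hPinf]
    exact Subgroup.card_le_of_le inf_le_left)
  rwa [hPinf] at h

/-! ### The centralizer of a subgroup inside a subgroup -/

section Z

variable (H : Subgroup G) (R' : Subgroup H) (S : Subgroup G)

/-- The identification of `C_H(R')` with `C_G(S)` when they have the same elements. -/
def zIso (hS : ∀ x : G, x ∈ Subgroup.centralizer (S : Set G) ↔
      ∃ hx : x ∈ H, (⟨x, hx⟩ : H) ∈ Subgroup.centralizer (R' : Set H)) :
    Subgroup.centralizer (R' : Set H) ≃* Subgroup.centralizer (S : Set G) where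
  toFun x := ⟨((x : H) : G), (hS _).mpr ⟨(x : H).2, x.2⟩⟩
  invFun y := ⟨⟨(y : G), ((hS _).mp y.2).1⟩, ((hS _).mp y.2).2⟩
  left_inv _ := rfl
  right_inv _ := rfl
  map_mul' _ _ := rfl

theorem coe_zIso (hS : ∀ x : G, x ∈ Subgroup.centralizer (S : Set G) ↔
      ∃ hx : x ∈ H, (⟨x, hx⟩ : H) ∈ Subgroup.centralizer (R' : Set H))
    (x : Subgroup.centralizer (R' : Set H)) : ((zIso H R' S hS x : _) : G) = ((x : H) : G) := rfl

theorem coe_zIso_symm (hS : ∀ x : G, x ∈ Subgroup.centralizer (S : Set G) ↔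
      ∃ hx : x ∈ H, (⟨x, hx⟩ : H) ∈ Subgroup.centralizer (R' : Set H))
    (y : Subgroup.centralizer (S : Set G)) :
    ((((zIso H R' S hS).symm y : _) : H) : G) = (y : G) := rfl

theorem brauerOmega_zIso (hS : ∀ x : G, x ∈ Subgroup.centralizer (S : Set G) ↔
      ∃ hx : x ∈ H, (⟨x, hx⟩ : H) ∈ Subgroup.centralizer (R' : Set H))
    (β : G → ℂ) (β' : H → ℂ) (hβ : ∀ h : H, β' h = β h)
    (ξ : Subgroup.centralizer (S : Set G) → ℂ) :
    brauerOmega R' β' (fun x => ξ (zIso H R' S hS x)) = brauerOmega S β ξ := by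
  unfold brauerOmega
  rw [← finsum_comp_equiv (zIso H R' S hS).toEquiv]
  apply finsum_congr
  intro x
  show β' (x : H) * ξ (zIso H R' S hS x) / ξ (zIso H R' S hS 1) =
    β ((zIso H R' S hS x : _) : G) * ξ (zIso H R' S hS x) / ξ 1
  rw [hβ, map_one]
  rfl

end Z

/-- **Relative first main theorem.**  Let `(P, e)` be a maximal Brauer pair of `B`, `(Q, f) ≤
(P, e)` with `P ≤ C_G(Q)`.  Any block `e₂` of `C_G(P)` with `(Q, f) ⊴ (P, e₂)` is conjugate to
`e` by an element of `C_G(Q) ∩ N_G(P)`. -/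
theorem exists_conj_of_normal [Finite G] {p : ℕ} [Fact p.Prime] (hM : IsPModular p M)
    {B : Set (IrrCharacter G)} {P : Subgroup G}
    {e : Set (IrrCharacter (Subgroup.centralizer (P : Set G)))}
    (hmax : IsMaximalBrauerPair p M B P e) {Q : Subgroup G}
    {f : Set (IrrCharacter (Subgroup.centralizer (Q : Set G)))}
    (hle : SubpairLE p M Q f P e) (hPC : P ≤ Subgroup.centralizer (Q : Set G))
    (e₂ : Set (IrrCharacter (Subgroup.centralizer (P : Set G))))
    (h₂ : IsNormalSubpair p M Q f P e₂) :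
    ∃ n ∈ Subgroup.centralizer (Q : Set G), n ∈ Subgroup.normalizer (P : Set G) ∧
      ext (Subgroup.centralizer (P : Set G)) (blockIdem e₂) =
        conjA n (ext (Subgroup.centralizer (P : Set G)) (blockIdem e)) := by
  classical
  have hMp := isPrime_of_isPModular hM
  have hPe := hmax.1.1
  have hQP : Q ≤ P := le_of_subpairLE (p := p) (M := M) ⟨Q, f⟩ ⟨P, e⟩ hle
  have hQf := isBrauerPair_of_le (p := p) (M := M) ⟨Q, f⟩ ⟨P, e⟩ hle hPe
  have h₁ : IsNormalSubpair p M Q f P e :=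
    isNormalSubpair_of_le hM hPe hle (hPC.trans (Subgroup.centralizer_le_normalizer _))
  have hS : ∀ x : G, x ∈ Subgroup.centralizer (P : Set G) ↔
      ∃ hx : x ∈ Subgroup.centralizer (Q : Set G),
        (⟨x, hx⟩ : Subgroup.centralizer (Q : Set G)) ∈ Subgroup.centralizer
          ((P.subgroupOf (Subgroup.centralizer (Q : Set G)) :
            Subgroup (Subgroup.centralizer (Q : Set G))) :
            Set (Subgroup.centralizer (Q : Set G))) := by
    intro x
    constructor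
    · intro hx
      refine ⟨Subgroup.centralizer_le hQP hx, ?_⟩
      rw [Subgroup.mem_centralizer_iff]
      intro u hu
      exact Subtype.ext (Subgroup.mem_centralizer_iff.mp hx u (Subgroup.mem_subgroupOf.mp hu))
    · rintro ⟨hx, hx'⟩
      rw [Subgroup.mem_centralizer_iff] at hx' ⊢
      intro u hu
      exact congrArg Subtype.val (hx' ⟨u, hPC hu⟩ (Subgroup.mem_subgroupOf.mpr hu))
  obtain ⟨ζ, hζ⟩ : ∃ ζ, ζ = zIso (Subgroup.centralizer (Q : Set G))
      (P.subgroupOf (Subgroup.centralizer (Q : Set G))) P hS := ⟨_, rfl⟩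
  have hpairOf : ∀ e' : Set (IrrCharacter (Subgroup.centralizer (P : Set G))),
      IsNormalSubpair p M Q f P e' →
      IsBrauerPairOf p M f (P.subgroupOf (Subgroup.centralizer (Q : Set G))) (pull ζ '' e') := by
    intro e' he'
    refine ⟨⟨hPe.1.comap_subtype, isPBlock_pull ζ he'.2.1.2⟩, hQf.2, ?_⟩
    rintro _ ⟨ξ, hξ, rfl⟩
    have h3 := he'.2.2.2.2.2 ξ hξ
    rw [← brauerOmega_zIso (Subgroup.centralizer (Q : Set G))
      (P.subgroupOf (Subgroup.centralizer (Q : Set G))) P hS _ (blockCoeff f)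
      (fun h => (subgroupBlockCoeff_coe _ f h).symm), ← hζ] at h3
    exact h3
  have hD := isDefectGroup_of_le_centralizer hM hmax hle hPC
  have hmax' := isMaximal_of_isDefectGroup hM (hpairOf e h₁) hD
  obtain ⟨n', hn', hn'P, he₂⟩ := exists_conjB_of_maximal hM hmax' (hpairOf e₂ h₂)
  have hnP : (n' : G) ∈ Subgroup.normalizer (P : Set G) := by
    rw [Subgroup.mem_normalizer_iff] at hn'P ⊢
    intro u
    constructor
    · intro hu
      have h4 := (hn'P ⟨u, hPC hu⟩).mp (Subgroup.mem_subgroupOf.mpr hu)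
      exact Subgroup.mem_subgroupOf.mp h4
    · intro hu
      have huC : u ∈ Subgroup.centralizer (Q : Set G) := by
        have h5 := mul_mem (mul_mem (inv_mem n'.2) (hPC hu)) n'.2
        have h6 : (n' : G)⁻¹ * ((n' : G) * u * (n' : G)⁻¹) * (n' : G) = u := by group
        rwa [h6] at h5
      have h4 := (hn'P ⟨u, huC⟩).mpr (Subgroup.mem_subgroupOf.mpr hu)
      exact Subgroup.mem_subgroupOf.mp h4
  refine ⟨(n' : G), n'.2, hnP, ?_⟩
  have hnC := normalizer_le_normalizer_centralizer P hnP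
  ext y
  rw [coeff_conjA, coeff_ext, coeff_ext]
  by_cases hy : y ∈ Subgroup.centralizer (P : Set G)
  · have hy' : (n' : G)⁻¹ * y * (n' : G) ∈ Subgroup.centralizer (P : Set G) :=
      (conj_mem_iff hnC y).mpr hy
    rw [dif_pos hy, dif_pos hy', coeff_blockIdem, coeff_blockIdem]
    have a1 : blockCoeff (pull ζ '' e₂) (ζ.symm ⟨y, hy⟩) = blockCoeff e₂ ⟨y, hy⟩ := by
      rw [blockCoeff_pull, MulEquiv.apply_symm_apply]
    rw [← a1, he₂, blockCoeff_conjB, blockCoeff_pull]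
    congr 1
    apply Subtype.ext
    rw [hζ]
    rfl
  · have hy' : ¬ (n' : G)⁻¹ * y * (n' : G) ∈ Subgroup.centralizer (P : Set G) :=
      fun h => hy ((conj_mem_iff hnC y).mp h)
    rw [dif_neg hy, dif_neg hy']

/-- **Abelian defect groups: stabilizers of subpairs.**  If `(P, e)` is a maximal Brauer pair with
`P` abelian and `(Q, f) ≤ (P, e)`, then every element of `N_G(Q, f)` is a product of an element of
`C_G(Q)` and an element of `N_G(P, e)`. -/
theorem exists_mul_of_stab [Finite G] {p : ℕ} [Fact p.Prime] (hM : IsPModular p M)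
    {B : Set (IrrCharacter G)} {P : Subgroup G}
    {e : Set (IrrCharacter (Subgroup.centralizer (P : Set G)))}
    (hmax : IsMaximalBrauerPair p M B P e) (hab : ∀ x ∈ P, ∀ y ∈ P, x * y = y * x)
    {Q : Subgroup G} {f : Set (IrrCharacter (Subgroup.centralizer (Q : Set G)))}
    (hf : IsPBlock M f) (hle : SubpairLE p M Q f P e) (x : G)
    (hxN : x ∈ Subgroup.normalizer (Q : Set G))
    (hxs : StabilizesBlock (Subgroup.centralizer (Q : Set G)) f x) :
    ∃ c ∈ Subgroup.centralizer (Q : Set G), ∃ y ∈ Subgroup.normalizer (P : Set G),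
      StabilizesBlock (Subgroup.centralizer (P : Set G)) e y ∧ x = c * y := by
  classical
  have hMp := isPrime_of_isPModular hM
  have hPe := hmax.1.1
  have hQP : Q ≤ P := le_of_subpairLE (p := p) (M := M) ⟨Q, f⟩ ⟨P, e⟩ hle
  have hPC : P ≤ Subgroup.centralizer (Q : Set G) := by
    intro u hu
    rw [Subgroup.mem_centralizer_iff]
    intro q hq
    exact hab q (hQP hq) u hu
  have hfix := cjp_eq_self hxN hxs
  have hle₂ : Relation.ReflTransGen (NormalSubpairRel p M) ⟨Q, f⟩ (cjp x ⟨P, e⟩) := by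
    have h1 := subpairLE_conj (M := M) x hle
    rwa [hfix] at h1
  have hPe₂ : IsBrauerPair p M (P.map (MulAut.conj x).toMonoidHom) (conjBlock P x e) :=
    isBrauerPair_conj P x hPe
  have hPxC : P.map (MulAut.conj x).toMonoidHom ≤ Subgroup.centralizer (Q : Set G) := by
    intro u hu
    rw [Subgroup.mem_centralizer_iff]
    intro q hq
    have hq' : q ∈ P.map (MulAut.conj x).toMonoidHom :=
      le_of_subpairLE (p := p) (M := M) ⟨Q, f⟩ (cjp x ⟨P, e⟩) hle₂ hq
    obtain ⟨u₀, hu₀, rfl⟩ := hu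
    obtain ⟨q₀, hq₀, rfl⟩ := hq'
    have h1 := hab q₀ hq₀ u₀ hu₀
    show x * q₀ * x⁻¹ * (x * u₀ * x⁻¹) = x * u₀ * x⁻¹ * (x * q₀ * x⁻¹)
    calc x * q₀ * x⁻¹ * (x * u₀ * x⁻¹) = x * (q₀ * u₀) * x⁻¹ := by group
      _ = x * (u₀ * q₀) * x⁻¹ := by rw [h1]
      _ = x * u₀ * x⁻¹ * (x * q₀ * x⁻¹) := by group
  have hD₁ := isDefectGroup_of_le_centralizer hM hmax hle hPC
  obtain ⟨D₂, hD₂, hD₂le⟩ := exists_defectGroup_ge_centralizer hM hPe₂ hle₂
  obtain ⟨c₁, hc₁⟩ := defectGroup_conj hM f hf hD₁ hD₂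
  have hsub : P.map (MulAut.conj x).toMonoidHom ≤ P.map (MulAut.conj (c₁ : G)).toMonoidHom := by
    intro u hu
    have h1 : (⟨u, hPxC hu⟩ : Subgroup.centralizer (Q : Set G)) ∈ D₂ :=
      hD₂le (Subgroup.mem_subgroupOf.mpr ⟨hu, hPxC hu⟩)
    rw [hc₁, mem_cj] at h1
    rw [mem_cj]
    exact Subgroup.mem_subgroupOf.mp h1
  have heq : P.map (MulAut.conj x).toMonoidHom = P.map (MulAut.conj (c₁ : G)).toMonoidHom :=
    Subgroup.eq_of_le_of_card_ge hsub (by rw [card_cj, card_cj])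
  obtain ⟨y₁, hy₁⟩ : ∃ y₁ : G, y₁ = (c₁ : G)⁻¹ * x := ⟨_, rfl⟩
  have hy₁N : y₁ ∈ Subgroup.normalizer (P : Set G) := by
    rw [mem_normalizer_iff_cj_eq, hy₁, ← cj_cj, heq, cj_inv_cj]
  have hy₁st : y₁ ∈ stab Q f := by
    rw [hy₁]
    exact mul_mem (inv_mem (mem_stab.mpr ⟨Subgroup.centralizer_le_normalizer _ c₁.2,
      stabilizes_of_mem_centralizer Q f c₁.2⟩)) (mem_stab.mpr ⟨hxN, hxs⟩)
  have hfix₁ := cjp_eq_self (mem_stab.mp hy₁st).1 (mem_stab.mp hy₁st).2
  have hle₃ : Relation.ReflTransGen (NormalSubpairRel p M) ⟨Q, f⟩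
      ⟨P, conjB (Subgroup.centralizer (P : Set G)) y₁
        (normalizer_le_normalizer_centralizer P hy₁N) e⟩ := by
    have h1 := subpairLE_conj (M := M) y₁ hle
    rwa [hfix₁, cjp_eq_conjB hy₁N] at h1
  have hPe₃ : IsBrauerPair p M P (conjB (Subgroup.centralizer (P : Set G)) y₁
      (normalizer_le_normalizer_centralizer P hy₁N) e) :=
    ⟨hPe.1, isPBlock_conjB _ _ _ hPe.2⟩
  have hnorm₃ := isNormalSubpair_of_le hM hPe₃ hle₃
    (hPC.trans (Subgroup.centralizer_le_normalizer _))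
  obtain ⟨n, hnC, hnN, hn⟩ := exists_conj_of_normal hM hmax hle hPC _ hnorm₃
  rw [← conjA_ext_blockIdem] at hn
  refine ⟨(c₁ : G) * n, mul_mem c₁.2 hnC, n⁻¹ * y₁, mul_mem (inv_mem hnN) hy₁N, ?_, ?_⟩
  · rw [stabilizesBlock_iff_conjA _ _ (normalizer_le_normalizer_centralizer P
      (mul_mem (inv_mem hnN) hy₁N)), conjA_mul, hn, conjA_inv_cancel]
  · rw [hy₁]
    group

end Cfsg.Agent.Lib.Helper77.BPSub
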