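import Mathlib
import Cfsg.Agent.Lib.Helper42.ReeSpStmt

set_option maxHeartbeats 400000

/-!
# S1159 / RC1 : centralizers of elements of order `p ∣ q² - q + 1` in a group with a faithful
7-dimensional representation over `F_q` are abelian.
-/

namespace Cfsg.Agent.Lib.Helper77.ReeSpRC1

open Polynomial Module

universe u v

section LA

variable {K : Type*} [Field K] {V : Type*} [AddCommGroup V] [Module K V]

/-- a polynomial in `f` commutes with anything commuting with `f` -/
theorem comm_aeval (f a : Module.End K V) (h : a * f = f * a) (c : K[X]) :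
    a * aeval f c = aeval f c * a :=
  (Algebra.commute_of_mem_adjoin_singleton_of_commute
    (Polynomial.aeval_mem_adjoin_singleton K f) (show Commute a f from h)).eq

theorem comm_aeval_apply (f a : Module.End K V) (h : a * f = f * a) (c : K[X]) (v : V) :
    a (aeval f c v) = aeval f c (a v) := by
  have := congrArg (fun φ : Module.End K V => φ v) (comm_aeval f a h c)
  simpa using this

/-- evaluation of polynomials in `f` at a vector -/
noncomputable def evl (f : Module.End K V) (v : V) : K[X] →ₗ[K] V where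
  toFun c := aeval f c v
  map_add' := by intros; simp
  map_smul' := by intros; simp

theorem evl_apply (f : Module.End K V) (v : V) (c : K[X]) : evl f v c = aeval f c v := rfl

/-- a polynomial of small degree killing a nonzero vector of `ker g(f)` is zero -/
theorem eq_zero_of_aeval (f : Module.End K V) (g : K[X]) (hg : Irreducible g) (w : V)
    (hw : w ≠ 0) (hgw : aeval f g w = 0) (c : K[X]) (hc : c.degree < g.natDegree)
    (hcw : aeval f c w = 0) : c = 0 := by
  by_contra hc0
  have hndvd : ¬ g ∣ c := by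
    intro hd
    have := Polynomial.degree_le_of_dvd hd hc0
    rw [Polynomial.degree_eq_natDegree hg.ne_zero] at this
    exact absurd (lt_of_le_of_lt this hc) (lt_irrefl _)
  have hcop : IsCoprime g c := (Irreducible.coprime_iff_not_dvd hg).2 hndvd
  obtain ⟨s, t, hst⟩ := hcop
  have := congrArg (fun P : K[X] => aeval f P w) hst
  simp only [map_add, map_mul, map_one, LinearMap.add_apply, Module.End.mul_apply, hgw, hcw,
    map_zero, add_zero, Module.End.one_apply] at this
  exact hw this.symm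

theorem finrank_degreeLT' (d : ℕ) : finrank K (degreeLT K d) = d :=
  (degreeLTEquiv K d).finrank_eq.trans (Module.finrank_fin_fun K)

/-- the cyclic subspace of small-degree polynomials applied to `w` -/
noncomputable def cyc (f : Module.End K V) (d : ℕ) (w : V) : Submodule K V :=
  LinearMap.range ((evl f w).comp (degreeLT K d).subtype)

theorem finrank_cyc [FiniteDimensional K V] (f : Module.End K V) (g : K[X]) (hg : Irreducible g)
    (w : V) (hw : w ≠ 0) (hgw : aeval f g w = 0) :
    finrank K (cyc f g.natDegree w) = g.natDegree := by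
  unfold cyc
  rw [LinearMap.finrank_range_of_inj, finrank_degreeLT']
  rw [← LinearMap.ker_eq_bot, LinearMap.ker_eq_bot']
  rintro ⟨c, hc⟩ hcw
  have hc' : c.degree < g.natDegree := mem_degreeLT.1 hc
  have : c = 0 := eq_zero_of_aeval f g hg w hw hgw c hc' (by simpa [evl_apply] using hcw)
  exact Subtype.ext this

theorem cyc_le_ker (f : Module.End K V) (g : K[X]) (d : ℕ) (w : V) (hgw : aeval f g w = 0) :
    cyc f d w ≤ LinearMap.ker (aeval f g) := by
  rintro _ ⟨⟨c, hc⟩, rfl⟩
  rw [LinearMap.mem_ker]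
  show aeval f g (aeval f c w) = 0
  rw [← Module.End.mul_apply, ← map_mul, mul_comm, map_mul, Module.End.mul_apply, hgw, map_zero]

/-- every vector of `ker g(f)` is a polynomial in `f` applied to `w` -/
theorem exists_poly [FiniteDimensional K V] (f : Module.End K V) (g : K[X]) (hg : Irreducible g)
    (w : V) (hw : w ≠ 0) (hgw : aeval f g w = 0) (hdim : finrank K V < 2 * g.natDegree)
    (w' : V) (hgw' : aeval f g w' = 0) : ∃ c : K[X], w' = aeval f c w := by
  by_cases hw' : w' = 0
  · exact ⟨0, by simp [hw']⟩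
  have h1 := finrank_cyc f g hg w hw hgw
  have h2 := finrank_cyc f g hg w' hw' hgw'
  have hnd : ¬ Disjoint (cyc f g.natDegree w) (cyc f g.natDegree w') := by
    intro hd
    have := Submodule.finrank_add_finrank_le_of_disjoint hd
    omega
  rw [Submodule.disjoint_def] at hnd
  push_neg at hnd
  obtain ⟨u, ⟨⟨c1, hc1⟩, rfl⟩, ⟨⟨c2, hc2⟩, hu2⟩, hu0⟩ := hnd
  have hu2' : aeval f c2 w' = aeval f c1 w := hu2
  have hu0' : aeval f c1 w ≠ 0 := hu0
  have hc2' : c2.degree < g.natDegree := mem_degreeLT.1 hc2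
  have hc20 : c2 ≠ 0 := by
    rintro rfl
    rw [map_zero, LinearMap.zero_apply] at hu2'
    exact hu0' hu2'.symm
  have hndvd : ¬ g ∣ c2 := by
    intro hd
    have := Polynomial.degree_le_of_dvd hd hc20
    rw [Polynomial.degree_eq_natDegree hg.ne_zero] at this
    exact absurd (lt_of_le_of_lt this hc2') (lt_irrefl _)
  have hcop : IsCoprime g c2 := (Irreducible.coprime_iff_not_dvd hg).2 hndvd
  obtain ⟨s, t, hst⟩ := hcop
  have := congrArg (fun P : K[X] => aeval f P w') hst
  simp only [map_add, map_mul, map_one, LinearMap.add_apply, Module.End.mul_apply, hgw', hu2',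
    map_zero, zero_add, Module.End.one_apply] at this
  refine ⟨t * c1, ?_⟩
  rw [map_mul, Module.End.mul_apply]
  exact this.symm

/-- the commutant of `f` is commutative when `f` is killed by `g * h` with `g` irreducible of
large degree -/
theorem comm_lin [FiniteDimensional K V] (f a b : Module.End K V) (g h : K[X])
    (hg : Irreducible g) (hcop : IsCoprime g h) (hgh : aeval f (g * h) = 0) (w : V) (hw : w ≠ 0)
    (hgw : aeval f g w = 0) (hdim : finrank K V < 2 * g.natDegree)
    (hdim' : finrank K V ≤ g.natDegree + 1) (ha : a * f = f * a) (hb : b * f = f * b) :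
    a * b = b * a := by
  have hW : ∀ w' : V, aeval f g w' = 0 → a (b w') = b (a w') := by
    intro w' hw'
    have haw : aeval f g (a w) = 0 := by rw [← comm_aeval_apply f a ha, hgw, map_zero]
    have hbw : aeval f g (b w) = 0 := by rw [← comm_aeval_apply f b hb, hgw, map_zero]
    obtain ⟨α, hα⟩ := exists_poly f g hg w hw hgw hdim (a w) haw
    obtain ⟨β, hβ⟩ := exists_poly f g hg w hw hgw hdim (b w) hbw
    obtain ⟨c, hc⟩ := exists_poly f g hg w hw hgw hdim w' hw'
    rw [hc, comm_aeval_apply f b hb, comm_aeval_apply f a ha, comm_aeval_apply f a ha,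
      comm_aeval_apply f b hb]
    congr 1
    rw [hβ, hα, comm_aeval_apply f a ha, comm_aeval_apply f b hb, hα, hβ]
    rw [← Module.End.mul_apply, ← Module.End.mul_apply, ← map_mul, ← map_mul, mul_comm]
  have hU : ∀ u : V, aeval f h u = 0 → a (b u) = b (a u) := by
    have hdisj := Polynomial.disjoint_ker_aeval_of_isCoprime f hcop
    have h1 := Submodule.finrank_add_finrank_le_of_disjoint hdisj
    have h2 : g.natDegree ≤ finrank K (LinearMap.ker (aeval f g)) := by
      rw [← finrank_cyc f g hg w hw hgw]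
      exact Submodule.finrank_mono (cyc_le_ker f g _ w hgw)
    have h3 : finrank K (LinearMap.ker (aeval f h)) ≤ 1 := by omega
    obtain ⟨⟨v0, hv0⟩, hv⟩ := finrank_le_one_iff.1 h3
    have hv0' : aeval f h v0 = 0 := LinearMap.mem_ker.1 hv0
    have key : ∀ u : V, aeval f h u = 0 → ∃ c : K, u = c • v0 := by
      intro u hu
      obtain ⟨c, hc⟩ := hv ⟨u, LinearMap.mem_ker.2 hu⟩
      exact ⟨c, by simpa using (congrArg Subtype.val hc).symm⟩
    intro u hu
    obtain ⟨c, rfl⟩ := key u hu
    obtain ⟨α, hα⟩ := key (a v0) (by rw [← comm_aeval_apply f a ha, hv0', map_zero])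
    obtain ⟨β, hβ⟩ := key (b v0) (by rw [← comm_aeval_apply f b hb, hv0', map_zero])
    simp only [map_smul, hα, hβ]
    rw [smul_comm α β]
  have htop : LinearMap.ker (aeval f g) ⊔ LinearMap.ker (aeval f h) = ⊤ := by
    rw [Polynomial.sup_ker_aeval_eq_ker_aeval_mul_of_coprime f hcop, hgh, LinearMap.ker_zero]
  ext v
  have hv : v ∈ LinearMap.ker (aeval f g) ⊔ LinearMap.ker (aeval f h) := by rw [htop]; trivial
  obtain ⟨w', hw', u, hu, rfl⟩ := Submodule.mem_sup.1 hv
  simp only [Module.End.mul_apply, map_add]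
  rw [hW w' (LinearMap.mem_ker.1 hw'), hU u (LinearMap.mem_ker.1 hu)]

theorem unit_case (f : Module.End K V) (P : K[X]) (hu : IsUnit P) (w : V) (hw : w ≠ 0)
    (hPw : aeval f P w = 0) : False := by
  obtain ⟨Q, hQ⟩ := hu.exists_left_inv
  have := congrArg (fun R : K[X] => aeval f R w) hQ
  simp only [map_mul, map_one, Module.End.mul_apply, hPw, map_zero, Module.End.one_apply] at this
  exact hw this.symm

/-- a nonzero polynomial killing a nonzero vector has an irreducible factor with nonzero
kernel -/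
theorem irr_ker (f : Module.End K V) : ∀ (n : ℕ) (P : K[X]), P.natDegree ≤ n → P ≠ 0 →
    ∀ w : V, w ≠ 0 → aeval f P w = 0 →
      ∃ g : K[X], Irreducible g ∧ g ∣ P ∧ ∃ w' : V, w' ≠ 0 ∧ aeval f g w' = 0 := by
  intro n
  induction n with
  | zero =>
    intro P hP hP0 w hw hPw
    have hu : IsUnit P := by
      rw [Polynomial.eq_C_of_natDegree_le_zero hP] at hP0 ⊢
      exact Polynomial.isUnit_C.2 (isUnit_iff_ne_zero.2 (fun h => hP0 (by rw [h, map_zero])))
    exact (unit_case f P hu w hw hPw).elim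
  | succ n ih =>
    intro P hP hP0 w hw hPw
    by_cases hu : IsUnit P
    · exact (unit_case f P hu w hw hPw).elim
    · obtain ⟨g, hg, k, rfl⟩ := WfDvdMonoid.exists_irreducible_factor hu hP0
      by_cases hk : aeval f k w = 0
      · have hk0 : k ≠ 0 := right_ne_zero_of_mul hP0
        have hdeg : k.natDegree ≤ n := by
          have h1 := Polynomial.natDegree_mul hg.ne_zero hk0
          have h2 := hg.natDegree_pos
          omega
        obtain ⟨g', hg', hd, w', hw', hgw'⟩ := ih k hdeg hk0 w hw hk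
        exact ⟨g', hg', hd.mul_left g, w', hw', hgw'⟩
      · refine ⟨g, hg, dvd_mul_right g k, aeval f k w, hk, ?_⟩
        rw [← Module.End.mul_apply, ← map_mul]
        exact hPw

end LA

/-- the arithmetic: `q` has order `6` modulo `p` -/
theorem six_le_aux (q p d : ℕ) (hq1 : 1 ≤ q) (hqodd : Odd q) (hp : p.Prime) (hp3 : p ≠ 3)
    (hdvd : p ∣ q ^ 2 - q + 1) (hd : 0 < d) (hpd : p ∣ q ^ d - 1) : 6 ≤ d := by
  haveI := Fact.mk hp
  have hp2 : p ≠ 2 := by
    rintro rfl
    obtain ⟨k, hk⟩ := hqodd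
    have h1 : q ^ 2 = 4 * (k * k) + 2 * k + q := by rw [hk]; ring
    generalize k * k = kk at h1
    omega
  have h0 : (q : ZMod p) ^ 2 - (q : ZMod p) + 1 = 0 := by
    have := (ZMod.natCast_eq_zero_iff _ _).2 hdvd
    rw [Nat.cast_add, Nat.cast_sub (Nat.le_self_pow (by norm_num) _)] at this
    simpa using this
  have hdd : (q : ZMod p) ^ d = 1 := by
    have := (ZMod.natCast_eq_zero_iff _ _).2 hpd
    rw [Nat.cast_sub (Nat.one_le_pow _ _ hq1)] at this
    push_cast at this
    exact sub_eq_zero.1 this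
  have h3 : (3 : ZMod p) ≠ 0 := by
    intro h
    have : ((3 : ℕ) : ZMod p) = 0 := by exact_mod_cast h
    rw [ZMod.natCast_eq_zero_iff] at this
    exact hp3 ((Nat.prime_dvd_prime_iff_eq hp Nat.prime_three).1 this)
  have h2 : (2 : ZMod p) ≠ 0 := by
    intro h
    have : ((2 : ℕ) : ZMod p) = 0 := by exact_mod_cast h
    rw [ZMod.natCast_eq_zero_iff] at this
    exact hp2 ((Nat.prime_dvd_prime_iff_eq hp Nat.prime_two).1 this)
  have h1 : (1 : ZMod p) ≠ 0 := one_ne_zero
  by_contra hlt
  push_neg at hlt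
  generalize (q : ZMod p) = t at h0 hdd
  interval_cases d
  · exact h1 (by linear_combination h0 - t * hdd)
  · exact h3 (by linear_combination hdd + (t + 2) * (h0 - hdd))
  · exact h2 (by linear_combination (t + 1) * h0 - hdd)
  · exact h3 (by linear_combination h0 + (t - 2) * (hdd - (t ^ 2 + t) * h0))
  · exact h1 (by linear_combination h0 + (t - 1) * (hdd - (t ^ 3 + t ^ 2 - 1) * h0))

open Cfsg.Agent.Lib.Helper42.ReeSpStmt in
theorem six_le (m p d : ℕ) (hp : p.Prime) (hp3 : p ≠ 3) (hdvd : p ∣ qq m ^ 2 - qq m + 1)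
    (hd : 0 < d) (hpd : p ∣ qq m ^ d - 1) : 6 ≤ d :=
  six_le_aux (qq m) p d (Nat.one_le_pow _ _ (by norm_num)) (Odd.pow (by decide)) hp hp3 hdvd hd hpd

open Cfsg.Agent.Lib.Helper42.ReeSpStmt in
theorem natCast_ne_zero_of_card {K : Type*} [Field K] [Fintype K] (m p : ℕ)
    (hK : Fintype.card K = qq m) (hp : p.Prime) (hp3 : p ≠ 3) : (p : K) ≠ 0 := by
  intro h
  have h1 : addOrderOf (1 : K) ∣ p := addOrderOf_dvd_of_nsmul_eq_zero (by simpa using h)
  have h2 : addOrderOf (1 : K) ∣ 3 ^ (2 * m + 1) := by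
    have := addOrderOf_dvd_card (x := (1 : K))
    rw [hK] at this
    exact this
  have hc : Nat.Coprime p (3 ^ (2 * m + 1)) :=
    Nat.Coprime.pow_right _ ((Nat.coprime_primes hp Nat.prime_three).2 hp3)
  have h3 : addOrderOf (1 : K) = 1 := (hc.coprime_dvd_left h1).eq_one_of_dvd h2
  rw [AddMonoid.addOrderOf_eq_one_iff] at h3
  exact one_ne_zero h3

open Cfsg.Agent.Lib.Helper42.ReeSpStmt in
theorem main : Cfsg.Agent.Lib.Helper42.ReeSpStmt.RC1.{u, v} := by
  intro G _ _ K _ _ m hK ⟨ρ, hρ⟩ x p hp hp3 hx hdvd a b hax hbx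
  classical
  haveI := Fact.mk hp
  let T : Matrix (Fin 7) (Fin 7) K ≃ₐ[K] Module.End K (Fin 7 → K) := Matrix.toLinAlgEquiv'
  let Ψ : G →* Module.End K (Fin 7 → K) :=
    (MonoidHomClass.toMonoidHom T).comp ((Units.coeHom _).comp ρ)
  have hΨ : Function.Injective Ψ := fun y z h => hρ (Units.ext (T.injective h))
  have hpK : (p : K) ≠ 0 := natCast_ne_zero_of_card m p hK hp hp3
  have hsep : (X ^ p - 1 : K[X]).Separable := by
    have := separable_X_pow_sub_C (1 : K) hpK one_ne_zero
    simpa using this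
  have hfp : Ψ x ^ p = 1 := by rw [← map_pow, ← hx, pow_orderOf_eq_one, map_one]
  have hf1 : Ψ x ≠ 1 := by
    intro h
    have : x = 1 := hΨ (by rw [h, map_one])
    rw [this, orderOf_one] at hx
    exact hp.one_lt.ne hx
  obtain ⟨v, hv⟩ : ∃ v, Ψ x v ≠ v := by
    by_contra hcon
    push_neg at hcon
    exact hf1 (LinearMap.ext fun v => by simpa using hcon v)
  have hgeom : (∑ i ∈ Finset.range p, (X : K[X]) ^ i) * (X - 1) = X ^ p - 1 := geom_sum_mul X p
  have hΦ0 : (∑ i ∈ Finset.range p, (X : K[X]) ^ i) ≠ 0 := by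
    intro h
    rw [h, zero_mul] at hgeom
    exact hsep.ne_zero hgeom.symm
  have hXp : aeval (Ψ x) (X ^ p - 1 : K[X]) = 0 := by simp [hfp]
  have hΦw : aeval (Ψ x) (∑ i ∈ Finset.range p, (X : K[X]) ^ i) (Ψ x v - v) = 0 := by
    have h1 : aeval (Ψ x) (∑ i ∈ Finset.range p, (X : K[X]) ^ i) (Ψ x v - v)
        = aeval (Ψ x) ((∑ i ∈ Finset.range p, (X : K[X]) ^ i) * (X - 1)) v := by
      rw [map_mul, Module.End.mul_apply]
      simp
    rw [h1, hgeom, hXp, LinearMap.zero_apply]
  obtain ⟨g, hg, ⟨k, hk⟩, w, hw, hgw⟩ := irr_ker (Ψ x) _ _ le_rfl hΦ0 (Ψ x v - v)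
    (sub_ne_zero.2 hv) hΦw
  have hgh : g * (k * (X - 1)) = X ^ p - 1 := by rw [← mul_assoc, ← hk, hgeom]
  have hcop : IsCoprime g (k * (X - 1)) := by
    have : (g * (k * (X - 1))).Separable := by rw [hgh]; exact hsep
    exact this.isCoprime
  have hdeg : 6 ≤ g.natDegree := by
    haveI : Fact (Irreducible g) := ⟨hg⟩
    have hpbdim : (AdjoinRoot.powerBasis hg.ne_zero).dim = g.natDegree :=
      AdjoinRoot.powerBasis_dim hg.ne_zero
    haveI : Module.Finite K (AdjoinRoot g) := (AdjoinRoot.powerBasis hg.ne_zero).finite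
    haveI : Finite (AdjoinRoot g) := Module.finite_of_finite K
    letI : Fintype (AdjoinRoot g) := Fintype.ofFinite _
    have hcard : Fintype.card (AdjoinRoot g) = qq m ^ g.natDegree := by
      rw [Module.card_eq_pow_finrank (K := K) (V := AdjoinRoot g), hK,
        (AdjoinRoot.powerBasis hg.ne_zero).finrank, hpbdim]
    have hζp : AdjoinRoot.root g ^ p = 1 := by
      have : AdjoinRoot.mk g (X ^ p - 1) = 0 := AdjoinRoot.mk_eq_zero.2 ⟨_, hgh.symm⟩
      simpa [sub_eq_zero] using this
    have hζ1 : AdjoinRoot.root g ≠ 1 := by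
      intro h1
      have : AdjoinRoot.mk g (X - 1) = 0 := by simp [h1]
      have hd1 : g ∣ X - 1 := AdjoinRoot.mk_eq_zero.1 this
      have hc : IsCoprime (∑ i ∈ Finset.range p, (X : K[X]) ^ i) (X - 1) := by
        have : ((∑ i ∈ Finset.range p, (X : K[X]) ^ i) * (X - 1)).Separable := by
          rw [hgeom]; exact hsep
        exact this.isCoprime
      exact hg.not_isUnit (hc.isUnit_of_dvd' ⟨k, hk⟩ hd1)
    have hζ0 : AdjoinRoot.root g ≠ 0 := by
      intro h0
      rw [h0, zero_pow hp.ne_zero] at hζp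
      exact zero_ne_one hζp
    have hord : orderOf (AdjoinRoot.root g) = p := orderOf_eq_prime hζp hζ1
    have hpow : AdjoinRoot.root g ^ (Fintype.card (AdjoinRoot g) - 1) = 1 :=
      FiniteField.pow_card_sub_one_eq_one _ hζ0
    have hpd : p ∣ qq m ^ g.natDegree - 1 := by
      rw [← hord, ← hcard]
      exact orderOf_dvd_of_pow_eq_one hpow
    exact six_le m p g.natDegree hp hp3 hdvd hg.natDegree_pos hpd
  have hfin : finrank K (Fin 7 → K) = 7 := Module.finrank_fin_fun K
  have hA : Ψ a * Ψ x = Ψ x * Ψ a := by rw [← map_mul, ← map_mul, hax]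
  have hB : Ψ b * Ψ x = Ψ x * Ψ b := by rw [← map_mul, ← map_mul, hbx]
  have hAB := comm_lin (Ψ x) (Ψ a) (Ψ b) g (k * (X - 1)) hg hcop (by rw [hgh]; exact hXp) w hw hgw
    (by omega) (by omega) hA hB
  apply hΨ
  rw [map_mul, map_mul, hAB]

end Cfsg.Agent.Lib.Helper77.ReeSpRC1
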