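import Cfsg.Agent.Lib.Helper77.BSWBridge

/-! S3282 piece `BasicOf`. -/

set_option maxHeartbeats 400000
set_option autoImplicit false

namespace Cfsg.Agent.Lib.Helper77.BSWBasicOf

open Cfsg.Agent.Lib.Helper25.BSWSpec Cfsg.Agent.Lib.Helper77.BSWGrp
open Cfsg.Agent.Lib.Helper77.BSWBridge Subgroup

universe u

theorem main : Cfsg.Agent.Lib.Helper25.BSWSpec.BasicOf.{u} := by
  intro G _ _ t K s h
  have hh := hyp_of_bsw h
  refine
    { card_K := rfl
      two_dvd := ?_
      ht := h.ht
      htK := h.htK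
      hs := h.hs
      hsK := h.hsK
      comm := h.hKab
      inv := h.hinv
      cent_t := ?_
      invol_coset := ?_
      invol_K := fun x hx hx2 => hh.eq_t_of_orderOf_two hx hx2
      ti := fun a ha ha1 g hg => mem_centralizer_singleton_iff.1 (hh.mem_H_of_conj_mem ha ha1 hg)
      hconj := h.hconj }
  · have h1 : orderOf (⟨t, h.htK⟩ : K) = 2 := by
      rw [← Subgroup.orderOf_coe]; exact h.ht
    rw [← h1]
    exact orderOf_dvd_natCard _
  · intro x
    rw [← mem_centralizer_singleton_iff, hh.mem_H_iff]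
    constructor
    · rintro (hx | hx)
      · exact Or.inl hx
      · exact Or.inr ⟨x * s, hx, by rw [mul_assoc, hh.s_mul_s, mul_one]⟩
    · rintro (hx | ⟨y, hy, rfl⟩)
      · exact Or.inl hx
      · right
        rw [mul_assoc, hh.s_mul_s, mul_one]; exact hy
  · intro x hx
    apply hh.orderOf_of_mul_s_mem
    rw [mul_assoc, hh.s_mul_s, mul_one]; exact hx

end Cfsg.Agent.Lib.Helper77.BSWBasicOf
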