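import Mathlib

/-!
# An abstract lattice lemma for Brauer's analysis of dihedral principal blocks

Integer vectors `u ψ` (indexed by a set `Ψ` with an involution `inv` having exactly one fixed
point `ψ₀`) on a finite set `B`, with Gram matrix `2 + [ψ = ψ'] + [ψ' = inv ψ]`, value `1` at a
distinguished point, orthogonal to a positive "degree" vector, are of a very rigid shape.
-/

set_option autoImplicit false

namespace Cfsg.Agent.Lib.Helper77.DihLat

variable {X : Type*} [DecidableEq X]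

theorem sum_sq_nonneg (S : Finset X) (v : X → ℤ) : 0 ≤ ∑ χ ∈ S, v χ * v χ :=
  Finset.sum_nonneg fun χ _ => mul_self_nonneg _

theorem exists_ne_zero (T : Finset X) (v : X → ℤ) (h : ∑ χ ∈ T, v χ * v χ ≠ 0) :
    ∃ a ∈ T, v a ≠ 0 := by
  by_contra hc
  apply h
  apply Finset.sum_eq_zero
  intro χ hχ
  have : v χ = 0 := by
    by_contra h0
    exact hc ⟨χ, hχ, h0⟩
  rw [this, mul_zero]

theorem all_zero (T : Finset X) (v : X → ℤ) (h : ∑ χ ∈ T, v χ * v χ = 0) :
    ∀ χ ∈ T, v χ = 0 := by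
  intro χ hχ
  have := (Finset.sum_eq_zero_iff_of_nonneg (fun χ _ => mul_self_nonneg (v χ))).mp h χ hχ
  exact mul_self_eq_zero.mp this

/-- An integer vector of norm `2` is `± e_a ± e_b`. -/
theorem norm_two (T : Finset X) (v : X → ℤ) (h : ∑ χ ∈ T, v χ * v χ = 2) :
    ∃ a ∈ T, ∃ b ∈ T, a ≠ b ∧ (v a = 1 ∨ v a = -1) ∧ (v b = 1 ∨ v b = -1) ∧
      ∀ χ ∈ T, χ ≠ a → χ ≠ b → v χ = 0 := by
  obtain ⟨a, haT, ha⟩ := exists_ne_zero T v (by rw [h]; norm_num)
  have e1 := Finset.add_sum_erase T (fun χ => v χ * v χ) haT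
  have n1 := sum_sq_nonneg (T.erase a) v
  have hva : v a = 1 ∨ v a = -1 := by
    have h2 : v a * v a ≤ 2 := by linarith
    have h3 : -1 ≤ v a := by nlinarith
    have h4 : v a ≤ 1 := by nlinarith
    omega
  have hrest : ∑ χ ∈ T.erase a, v χ * v χ = 1 := by
    rcases hva with h' | h' <;> rw [h'] at e1 <;> linarith
  obtain ⟨b, hbT, hb⟩ := exists_ne_zero (T.erase a) v (by rw [hrest]; norm_num)
  have e2 := Finset.add_sum_erase (T.erase a) (fun χ => v χ * v χ) hbT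
  have n2 := sum_sq_nonneg ((T.erase a).erase b) v
  have hvb : v b = 1 ∨ v b = -1 := by
    have h2 : v b * v b ≤ 1 := by linarith
    have h3 : -1 ≤ v b := by nlinarith
    have h4 : v b ≤ 1 := by nlinarith
    omega
  have hrest2 : ∑ χ ∈ (T.erase a).erase b, v χ * v χ = 0 := by
    rcases hvb with h' | h' <;> rw [h'] at e2 <;> linarith
  refine ⟨a, haT, b, Finset.mem_of_mem_erase hbT, (Finset.ne_of_mem_erase hbT).symm, hva, hvb, ?_⟩
  intro χ hχ hχa hχb
  exact all_zero _ v hrest2 χ (Finset.mem_erase.mpr ⟨hχb, Finset.mem_erase.mpr ⟨hχa, hχ⟩⟩)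

/-- A sum against a vector supported on three points. -/
theorem sum_three (B : Finset X) (one a b : X) (v f : X → ℤ) (p q : ℤ) (h1 : one ∈ B)
    (ha : a ∈ B) (hb : b ∈ B) (ha1 : a ≠ one) (hb1 : b ≠ one) (hab : a ≠ b) (v1 : v one = 1)
    (va : v a = p) (vb : v b = q) (v0 : ∀ χ ∈ B, χ ≠ one → χ ≠ a → χ ≠ b → v χ = 0) :
    ∑ χ ∈ B, v χ * f χ = f one + p * f a + q * f b := by
  have key : ∀ χ ∈ B, v χ * f χ = (if χ = one then f one else 0) +
      (if χ = a then p * f a else 0) + (if χ = b then q * f b else 0) := by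
    intro χ hχ
    by_cases c1 : χ = one
    · subst c1
      rw [if_pos rfl, if_neg (Ne.symm ha1), if_neg (Ne.symm hb1), v1]
      ring
    · by_cases c2 : χ = a
      · subst c2
        rw [if_neg c1, if_pos rfl, if_neg hab, va]
        ring
      · by_cases c3 : χ = b
        · subst c3
          rw [if_neg c1, if_neg c2, if_pos rfl, vb]
          ring
        · rw [if_neg c1, if_neg c2, if_neg c3, v0 χ hχ c1 c2 c3]
          ring
  rw [Finset.sum_congr rfl key, Finset.sum_add_distrib, Finset.sum_add_distrib,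
    Finset.sum_ite_eq' B one, Finset.sum_ite_eq' B a, Finset.sum_ite_eq' B b, if_pos h1, if_pos ha,
    if_pos hb]

/-- Entries outside a subset carrying the whole norm vanish. -/
theorem zero_of_norm (B S : Finset X) (v : X → ℤ) (hS : S ⊆ B)
    (hsum : ∑ χ ∈ B, v χ * v χ ≤ ∑ χ ∈ S, v χ * v χ) : ∀ χ ∈ B, χ ∉ S → v χ = 0 := by
  intro χ hχ hχS
  have e := Finset.sum_sdiff (f := fun χ => v χ * v χ) hS
  have n := sum_sq_nonneg (B \ S) v
  have h0 : ∑ χ ∈ B \ S, v χ * v χ = 0 := by linarith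
  exact all_zero _ v h0 χ (Finset.mem_sdiff.mpr ⟨hχ, hχS⟩)

theorem sum_four (B : Finset X) (x0 x1 x2 x3 : X) (g : X → ℤ) (h0 : x0 ∈ B) (h1 : x1 ∈ B)
    (h2 : x2 ∈ B) (h3 : x3 ∈ B) (d01 : x0 ≠ x1) (d02 : x0 ≠ x2) (d03 : x0 ≠ x3) (d12 : x1 ≠ x2)
    (d13 : x1 ≠ x3) (d23 : x2 ≠ x3)
    (hz : ∀ χ ∈ B, χ ≠ x0 → χ ≠ x1 → χ ≠ x2 → χ ≠ x3 → g χ = 0) :
    ∑ χ ∈ B, g χ = g x0 + g x1 + g x2 + g x3 := by
  have hsub : ({x0, x1, x2, x3} : Finset X) ⊆ B := by
    intro χ hχ
    simp only [Finset.mem_insert, Finset.mem_singleton] at hχ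
    rcases hχ with rfl | rfl | rfl | rfl <;> assumption
  rw [← Finset.sum_subset hsub]
  · rw [Finset.sum_insert, Finset.sum_insert, Finset.sum_insert, Finset.sum_singleton]
    · ring
    · simp [d23]
    · simp [d12, d13]
    · simp [d01, d02, d03]
  · intro χ hχ hχn
    simp only [Finset.mem_insert, Finset.mem_singleton, not_or] at hχn
    exact hz χ hχ hχn.1 hχn.2.1 hχn.2.2.1 hχn.2.2.2

end Cfsg.Agent.Lib.Helper77.DihLat
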