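import Mathlib
import Cfsg.Prelude.Def_OddOrderLocal

/-!
# `fittingHallOf` of a normal Hall subgroup containing `M_F`

`D ≤ M` normal in `M`, `|D|` prime to `|M : D|`, `M_F ≤ D`: then `D_F = M_F`
(pure group theory; for S1381 with `D = ⁅M, M⁆`).
-/

set_option autoImplicit false
set_option maxHeartbeats 400000

namespace Cfsg.Agent.Lib.Helper77.FHCore

universe u

/-- a normal subgroup whose order is prime to its index contains every element whose order
divides its order -/
theorem mem_of_orderOf_dvd {X : Type*} [Group X] (N : Subgroup X) [N.Normal]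
    (hN : (Nat.card ↥N).Coprime N.index) (y : X) (hy : orderOf y ∣ Nat.card ↥N) : y ∈ N := by
  have h2 : (y : X ⧸ N) ^ N.index = 1 := pow_card_eq_one'
  have h3 : (y : X ⧸ N) ^ orderOf y = 1 := by
    rw [← QuotientGroup.mk_pow, pow_orderOf_eq_one]
    rfl
  have hd1 := orderOf_dvd_of_pow_eq_one h2
  have hd2 := (orderOf_dvd_of_pow_eq_one h3).trans hy
  have h41 : orderOf (y : X ⧸ N) = 1 := Nat.eq_one_of_dvd_coprimes hN hd2 hd1
  exact (QuotientGroup.eq_one_iff _).mp (orderOf_eq_one_iff.mp h41)

theorem subgroupOf_map_subtype_self {G : Type*} [Group G] (M : Subgroup G) (N : Subgroup ↥M) :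
    (N.map M.subtype).subgroupOf M = N := by
  ext k
  rw [Subgroup.mem_subgroupOf]
  constructor
  · rintro ⟨k', hk', hkk'⟩
    have h2 : k' = k := Subtype.ext hkk'
    rw [← h2]
    exact hk'
  · intro hk
    exact ⟨k, hk, rfl⟩

theorem main {G : Type u} [Group G] [Finite G] (M D : Subgroup G) (hDM : D ≤ M)
    (hDn : ∀ m ∈ M, ∀ d ∈ D, m * d * m⁻¹ ∈ D)
    (hcop : (Nat.card ↥D).Coprime (D.relIndex M)) (hF : Cfsg.fittingHallOf M ≤ D) :
    Cfsg.fittingHallOf D = Cfsg.fittingHallOf M := by
  apply le_antisymm
  · unfold Cfsg.fittingHallOf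
    rw [Subgroup.map_le_iff_le_comap]
    have hgoal : sSup {N : Subgroup ↥D | N.Normal ∧ Group.IsNilpotent N ∧
        (Nat.card N).Coprime N.index} ≤
        Subgroup.comap D.subtype ((Cfsg.fittingHall ↥M).map M.subtype) := by
      apply sSup_le
      rintro N ⟨hNn, hNnil, hNcop⟩
      intro x hx
      rw [Subgroup.mem_comap, Subgroup.mem_map]
      have hNle : N.map D.subtype ≤ M := by
        rintro _ ⟨n, -, rfl⟩
        exact hDM n.2
      have hND : N.map D.subtype ≤ D := by
        rintro _ ⟨n, -, rfl⟩
        exact n.2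
      obtain ⟨N', hN'def⟩ : ∃ N' : Subgroup ↥M, N' = (N.map D.subtype).subgroupOf M := ⟨_, rfl⟩
      have hmem' : ∀ z : ↥M, z ∈ N' ↔ ∃ n ∈ N, (n : G) = (z : G) := by
        intro z
        rw [hN'def, Subgroup.mem_subgroupOf, Subgroup.mem_map]
        rfl
      have hfam : N' ∈ {N : Subgroup ↥M | N.Normal ∧ Group.IsNilpotent N ∧
          (Nat.card N).Coprime N.index} := by
        refine ⟨?_, ?_, ?_⟩
        · constructor
          intro z hz m
          obtain ⟨n, hn, hnz⟩ := (hmem' z).mp hz
          have hyD : (m : G) * (n : G) * (m : G)⁻¹ ∈ D := hDn m m.2 n n.2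
          have hy : (⟨(m : G) * (n : G) * (m : G)⁻¹, hyD⟩ : ↥D) ∈ N := by
            haveI := hNn
            apply mem_of_orderOf_dvd N hNcop
            have h1 : orderOf (⟨(m : G) * (n : G) * (m : G)⁻¹, hyD⟩ : ↥D) =
                orderOf ((m : G) * (n : G) * (m : G)⁻¹) :=
              (Subgroup.orderOf_coe (⟨(m : G) * (n : G) * (m : G)⁻¹, hyD⟩ : ↥D)).symm
            have h2 : orderOf ((m : G) * (n : G) * (m : G)⁻¹) = orderOf (n : G) := by
              have h3 := MulEquiv.orderOf_eq (MulAut.conj (m : G)) (n : G)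
              rwa [MulAut.conj_apply] at h3
            have h4 : orderOf (n : G) = orderOf n := Subgroup.orderOf_coe n
            rw [h1, h2, h4]
            exact Subgroup.orderOf_dvd_natCard N hn
          refine (hmem' _).mpr ⟨_, hy, ?_⟩
          show (m : G) * (n : G) * (m : G)⁻¹ = ((m * z * m⁻¹ : ↥M) : G)
          rw [hnz]
          rfl
        · have e1 : ↥N ≃* ↥(N.map D.subtype) :=
            N.equivMapOfInjective D.subtype D.subtype_injective
          have e2 : ↥((N.map D.subtype).subgroupOf M) ≃* ↥(N.map D.subtype) :=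
            Subgroup.subgroupOfEquivOfLe hNle
          rw [hN'def]
          haveI := hNnil
          exact Group.nilpotent_of_mulEquiv (e1.trans e2.symm)
        · have hc1 : Nat.card ↥N' = Nat.card ↥N := by
            rw [hN'def]
            exact Nat.card_congr ((Subgroup.subgroupOfEquivOfLe hNle).toEquiv.trans
              (N.equivMapOfInjective D.subtype D.subtype_injective).symm.toEquiv)
          have hi1 : (N.map D.subtype).relIndex D = N.index := by
            have h2 : (N.map D.subtype).relIndex D =
                ((N.map D.subtype).subgroupOf D).index := rfl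
            rw [h2, subgroupOf_map_subtype_self]
          have hi2 : N'.index = N.index * D.relIndex M := by
            have h2 : N'.index = (N.map D.subtype).relIndex M := by
              rw [hN'def]
              rfl
            rw [h2, ← hi1]
            exact (Subgroup.relIndex_mul_relIndex _ D M hND hDM).symm
          rw [hc1, hi2]
          have hcd : Nat.card ↥N ∣ Nat.card ↥D := Subgroup.card_subgroup_dvd_card N
          exact Nat.Coprime.mul_right hNcop (Nat.Coprime.coprime_dvd_left hcd hcop)
      exact ⟨⟨(x : G), hDM x.2⟩, (le_sSup hfam) ((hmem' _).mpr ⟨x, hx, rfl⟩), rfl⟩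
    exact hgoal
  · have hmemF : ∀ N : Subgroup ↥M,
        (N.Normal ∧ Group.IsNilpotent N ∧ (Nat.card N).Coprime N.index) →
        ∀ x ∈ N, (x : G) ∈ D := by
      intro N hN x hx
      apply hF
      have h1 : x ∈ Cfsg.fittingHall ↥M := (le_sSup (a := N) hN) hx
      exact ⟨x, h1, rfl⟩
    unfold Cfsg.fittingHallOf
    rw [Subgroup.map_le_iff_le_comap]
    have hgoal : sSup {N : Subgroup ↥M | N.Normal ∧ Group.IsNilpotent N ∧
        (Nat.card N).Coprime N.index} ≤
        Subgroup.comap M.subtype ((Cfsg.fittingHall ↥D).map D.subtype) := by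
      apply sSup_le
      rintro N ⟨hNn, hNnil, hNcop⟩
      intro x hx
      rw [Subgroup.mem_comap, Subgroup.mem_map]
      have hND : N.map M.subtype ≤ D := by
        rintro _ ⟨n, hn, rfl⟩
        exact hmemF N ⟨hNn, hNnil, hNcop⟩ n hn
      have hNM : N.map M.subtype ≤ M := by
        rintro _ ⟨n, -, rfl⟩
        exact n.2
      obtain ⟨N'', hN''def⟩ : ∃ N'' : Subgroup ↥D, N'' = (N.map M.subtype).subgroupOf D :=
        ⟨_, rfl⟩
      have hmem'' : ∀ z : ↥D, z ∈ N'' ↔ ∃ n ∈ N, (n : G) = (z : G) := by
        intro z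
        rw [hN''def, Subgroup.mem_subgroupOf, Subgroup.mem_map]
        rfl
      have hfam : N'' ∈ {N : Subgroup ↥D | N.Normal ∧ Group.IsNilpotent N ∧
          (Nat.card N).Coprime N.index} := by
        refine ⟨?_, ?_, ?_⟩
        · constructor
          intro z hz d
          obtain ⟨n, hn, hnz⟩ := (hmem'' z).mp hz
          have h1 : (⟨(d : G), hDM d.2⟩ : ↥M) * n * (⟨(d : G), hDM d.2⟩ : ↥M)⁻¹ ∈ N :=
            hNn.conj_mem n hn _
          refine (hmem'' _).mpr ⟨_, h1, ?_⟩
          show (d : G) * (n : G) * (d : G)⁻¹ = ((d * z * d⁻¹ : ↥D) : G)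
          rw [hnz]
          rfl
        · have e1 : ↥N ≃* ↥(N.map M.subtype) :=
            N.equivMapOfInjective M.subtype M.subtype_injective
          have e2 : ↥((N.map M.subtype).subgroupOf D) ≃* ↥(N.map M.subtype) :=
            Subgroup.subgroupOfEquivOfLe hND
          rw [hN''def]
          haveI := hNnil
          exact Group.nilpotent_of_mulEquiv (e1.trans e2.symm)
        · have hc1 : Nat.card ↥N'' = Nat.card ↥N := by
            rw [hN''def]
            exact Nat.card_congr ((Subgroup.subgroupOfEquivOfLe hND).toEquiv.trans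
              (N.equivMapOfInjective M.subtype M.subtype_injective).symm.toEquiv)
          have hi1 : (N.map M.subtype).relIndex M = N.index := by
            have h2 : (N.map M.subtype).relIndex M =
                ((N.map M.subtype).subgroupOf M).index := rfl
            rw [h2, subgroupOf_map_subtype_self]
          have hi2 : N''.index ∣ N.index := by
            have h2 : N''.index = (N.map M.subtype).relIndex D := by
              rw [hN''def]
              rfl
            rw [h2, ← hi1]
            exact Dvd.intro _ (Subgroup.relIndex_mul_relIndex _ D M hND hDM)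
          rw [hc1]
          exact Nat.Coprime.coprime_dvd_right hi2 hNcop
      exact ⟨⟨(x : G), hND ⟨x, hx, rfl⟩⟩, (le_sSup hfam) ((hmem'' _).mpr ⟨x, hx, rfl⟩), rfl⟩
    exact hgoal

end Cfsg.Agent.Lib.Helper77.FHCore
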