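import Cfsg.Agent.Lib.Helper77.BPCyc

/-!
# Nilpotent blocks with abelian defect groups

`abelian_nilpotent`: if `(P, c)` is a maximal Brauer pair of the block `B`, `P` is abelian and
`N_G(P, c) = C_G(P)`, then `l(B) = 1` and `k(B) = |P|`.

The proof is by induction on `|G|`, with Brauer's count of characters by subsections
(`lower_bound`) and the bound `k(B) ≤ |P|` from a major subsection with one Brauer character
(`upper_bound`).
-/

set_option autoImplicit false

namespace Cfsg.Agent.Lib.Helper77.BPAb

open Cfsg Cfsg.Agent.Lib.Helper77.LocalRing Cfsg.Agent.Lib.Helper77.BPNormal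
  Cfsg.Agent.Lib.Helper77.BPEquiv Cfsg.Agent.Lib.Helper77.BPEquiv2
  Cfsg.Agent.Lib.Helper77.BPConjMax Cfsg.Agent.Lib.Helper77.BPFix
  Cfsg.Agent.Lib.Helper77.BPSub Cfsg.Agent.Lib.Helper77.BPSubpair
  Cfsg.Agent.Lib.Helper77.BPUp Cfsg.Agent.Lib.Helper77.BPInd
  Cfsg.Agent.Lib.Helper77.BPFus Cfsg.Agent.Lib.Helper77.BPMax2
  Cfsg.Agent.Lib.Helper77.BPTransport Cfsg.Agent.Lib.Helper77.BPCyc
  Cfsg.Agent.Lib.Helper33.Conj Cfsg.Agent.Lib.Helper16.ZR Cfsg.Agent.Lib.Helper16.BPLocal
  Cfsg.Agent.Lib.Helper16.Defect Cfsg.Agent.Lib.CT.Wedderburn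

universe u
variable {G : Type u} [Group G] {M : Ideal AlgInt}

theorem stab_congr' {a b : BrauerPairIdx G} (h : a = b) (x : G) :
    (x ∈ Subgroup.normalizer (a.1 : Set G) ∧
        StabilizesBlock (Subgroup.centralizer (a.1 : Set G)) a.2 x) ↔
      (x ∈ Subgroup.normalizer (b.1 : Set G) ∧
        StabilizesBlock (Subgroup.centralizer (b.1 : Set G)) b.2 x) := by
  subst h
  rfl

/-- **Upper bound.**  If `(P, c)` is a maximal pair of `B` with `P` abelian, `v ∈ P` and the
block `f` of `C_G(v)` below `(P, c)` has at most two irreducible Brauer characters, then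
`k(B) ≤ |P|`. -/
theorem upper_bound [Finite G] {p : ℕ} [Fact p.Prime] (hM : IsPModular p M)
    {B : Set (IrrCharacter G)} {P : Subgroup G}
    {c : Set (IrrCharacter (Subgroup.centralizer (P : Set G)))}
    (hmax : IsMaximalBrauerPair p M B P c) (hab : ∀ x ∈ P, ∀ y ∈ P, x * y = y * x)
    {v : G} (hv : v ∈ P)
    (f : Set (IrrCharacter (Subgroup.centralizer ((Subgroup.zpowers v : Subgroup G) : Set G))))
    (hle : SubpairLE p M (Subgroup.zpowers v) f P c) (hrank : blockRank p f ≤ 2) :
    Nat.card B ≤ Nat.card P := by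
  have hB : IsPBlock M B := hmax.1.2.1
  have hPe : IsBrauerPair p M P c := hmax.1.1
  have hPD : IsDefectGroup p M B P := isDefectGroup_of_maximal hM hmax
  have hR : Subgroup.zpowers v ≤ P := Subgroup.zpowers_le.mpr hv
  have hPCv : P ≤ Subgroup.centralizer ((Subgroup.zpowers v : Subgroup G) : Set G) := by
    intro u hu
    rw [Subgroup.mem_centralizer_iff]
    intro q hq
    exact hab q (hR hq) u hu
  have hpairB : IsBrauerPairOf p M B (Subgroup.zpowers v) f :=
    (isBrauerPairOf_iff_of_le hM B hB ⟨Subgroup.zpowers v, f⟩ ⟨P, c⟩ hle).mp hmax.1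
  have hind := (isBrauerPairOf_iff_isInducedBlock hM _ hpairB.1.1 _ B).mp hpairB
  have hfD := isDefectGroup_of_le_centralizer hM hmax hle hPCv
  obtain ⟨b', -, hb'1, hb'2, hb'3⟩ := transport (p := p) (M := M) B (centralizer_zpowers_eq v) f
  have h39 := Cfsg.Agent.S4539.result p M hM B hB P hPD v hv (fun d hd => hab d hd v hv) b'
    (hb'1 hind) (hb'2 P hfD) (by rw [hb'3]; exact hrank)
  rwa [← card_defectGroup p hM B hB P hPD] at h39

/-- **Lower bound.**  If `(P, c)` is a maximal pair of `B` with `P` abelian and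
`N_G(P, c) = C_G(P)`, then `k(B) ≥ z · l(B) + (|P| - z)`, where `z ≥ 1` is the number of elements
of `P` that are central in `G`. -/
theorem lower_bound [Finite G] {p : ℕ} [Fact p.Prime] (hM : IsPModular p M)
    {B : Set (IrrCharacter G)} {P : Subgroup G}
    {c : Set (IrrCharacter (Subgroup.centralizer (P : Set G)))}
    (hmax : IsMaximalBrauerPair p M B P c) (hab : ∀ x ∈ P, ∀ y ∈ P, x * y = y * x)
    (hnil : ∀ x ∈ Subgroup.normalizer (P : Set G),
      StabilizesBlock (Subgroup.centralizer (P : Set G)) c x →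
        x ∈ Subgroup.centralizer (P : Set G)) :
    ∃ z : ℕ, 1 ≤ z ∧ z ≤ Nat.card P ∧ z * blockRank p B + (Nat.card P - z) ≤ Nat.card B := by
  classical
  have hMp := isPrime_of_isPModular hM
  have hp : p.Prime := Fact.out
  have hB : IsPBlock M B := hmax.1.2.1
  have hPe : IsBrauerPair p M P c := hmax.1.1
  have hPp : IsPGroup p P := hPe.1
  -- class representatives
  haveI : Fintype G := Fintype.ofFinite G
  obtain ⟨rep, hrep⟩ : ∃ rep : G → G, ∀ g, rep g = Quotient.out (ConjClasses.mk g) :=
    ⟨_, fun _ => rfl⟩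
  have hrepconj : ∀ g, IsConj g (rep g) := by
    intro g
    rw [hrep]
    apply ConjClasses.mk_eq_mk_iff_isConj.mp
    exact (Quotient.out_eq (ConjClasses.mk g)).symm
  have hrepeq : ∀ g g', IsConj g g' → rep g = rep g' := by
    intro g g' h
    rw [hrep, hrep, ConjClasses.mk_eq_mk_iff_isConj.mpr h]
  have hord : ∀ g g' : G, IsConj g g' → orderOf g = orderOf g' := by
    intro g g' h
    obtain ⟨x, rfl⟩ := isConj_iff.mp h
    exact (orderOf_injective (MulAut.conj x).toMonoidHom (MulAut.conj x).injective g).symm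
  have hrepcent : ∀ g ∈ Subgroup.center G, rep g = g := by
    intro g hg
    obtain ⟨x, hx⟩ := isConj_iff.mp (hrepconj g)
    rw [← hx, Subgroup.mem_center_iff.mp hg x, mul_inv_cancel_right]
  obtain ⟨X, hXdef⟩ : ∃ X : Finset G, ∀ x, x ∈ X ↔ (∃ k : ℕ, orderOf x = p ^ k) ∧ rep x = x :=
    ⟨Finset.univ.filter (fun x => (∃ k : ℕ, orderOf x = p ^ k) ∧ rep x = x), fun x => by simp⟩
  have hX : ∀ x ∈ X, ∃ k : ℕ, orderOf x = p ^ k := fun x hx => ((hXdef x).mp hx).1
  have hXrep : ∀ g : G, (∃ k : ℕ, orderOf g = p ^ k) → ∃! x, x ∈ X ∧ IsConj g x := by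
    intro g hg
    refine ⟨rep g, ⟨(hXdef _).mpr ⟨?_, ?_⟩, hrepconj g⟩, ?_⟩
    · obtain ⟨k, hk⟩ := hg
      exact ⟨k, by rw [← hord g (rep g) (hrepconj g), hk]⟩
    · exact hrepeq _ _ (hrepconj g).symm
    · rintro y ⟨hyX, hgy⟩
      rw [← ((hXdef y).mp hyX).2]
      exact hrepeq _ _ hgy.symm
  have hcount := Cfsg.Agent.S4511.result p M hM B hB X hX hXrep
  obtain ⟨t, ht⟩ : ∃ t : G → ℕ, ∀ x, t x =
      ∑ᶠ b ∈ {b : Set (IrrCharacter (Subgroup.centralizer ({x} : Set G))) |
        IsInducedBlock M (Subgroup.centralizer ({x} : Set G)) b B}, blockRank p b :=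
    ⟨_, fun _ => rfl⟩
  have hcount' : Nat.card B = ∑ x ∈ X, t x := by
    rw [hcount]
    exact Finset.sum_congr rfl (fun x _ => (ht x).symm)
  have hfin : ∀ x : G, Finite (Set (IrrCharacter (Subgroup.centralizer ({x} : Set G)))) := by
    intro x
    haveI := finite_irrCharacter (Subgroup.centralizer ({x} : Set G))
    infer_instance
  have hpos : ∀ (x : G) (b : Set (IrrCharacter (Subgroup.centralizer ({x} : Set G)))),
      IsInducedBlock M (Subgroup.centralizer ({x} : Set G)) b B → 1 ≤ blockRank p b := by
    intro x b hb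
    obtain ⟨ψ, hψ⟩ := isPBlock_nonempty hMp hb.1
    exact blockRank_pos p hψ
  obtain ⟨Pfin, hPfin⟩ : ∃ Pfin : Finset G, ∀ u, u ∈ Pfin ↔ u ∈ P :=
    ⟨Finset.univ.filter (fun u => u ∈ P), fun u => by simp⟩
  have hPcard : Nat.card P = Pfin.card := Nat.subtype_card Pfin hPfin
  obtain ⟨Zfin, hZfin⟩ : ∃ Zfin : Finset G, ∀ u, u ∈ Zfin ↔ u ∈ P ∧ u ∈ Subgroup.center G :=
    ⟨Finset.univ.filter (fun u => u ∈ P ∧ u ∈ Subgroup.center G), fun u => by simp⟩
  have hZP : Zfin ⊆ Pfin := fun u hu => (hPfin u).mpr ((hZfin u).mp hu).1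
  have hpelt : ∀ u ∈ P, ∃ k : ℕ, orderOf u = p ^ k := by
    intro u hu
    obtain ⟨k, hk⟩ := (IsPGroup.iff_orderOf.mp hPp) ⟨u, hu⟩
    exact ⟨k, by rw [← hk, Subgroup.orderOf_mk]⟩
  have hZX : Zfin ⊆ X := by
    intro u hu
    obtain ⟨huP, huZ⟩ := (hZfin u).mp hu
    exact (hXdef u).mpr ⟨hpelt u huP, hrepcent u huZ⟩
  -- the central terms
  have htz : ∀ x ∈ Zfin, blockRank p B ≤ t x := by
    intro x hx
    obtain ⟨hxP, hxZ⟩ := (hZfin x).mp hx
    have hK : Subgroup.centralizer (((⊥ : Subgroup G) : Set G)) =
        Subgroup.centralizer ({x} : Set G) := by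
      rw [Subgroup.centralizer_eq_top_iff_subset.mpr, Subgroup.centralizer_eq_top_iff_subset.mpr]
      · intro y hy
        rw [Set.mem_singleton_iff] at hy
        rw [hy]
        exact hxZ
      · intro y hy
        rw [Subgroup.coe_bot, Set.mem_singleton_iff] at hy
        rw [hy]
        exact one_mem _
    have hbot := isBrauerPairOf_bot hM B hB
    have hind := (isBrauerPairOf_iff_isInducedBlock hM ⊥ hbot.1.1 _ B).mp hbot
    obtain ⟨b₁, -, hb1, -, hb3⟩ := transport (p := p) (M := M) B hK (pull (botIso G) '' B)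
    rw [blockRank_pull] at hb3
    rw [ht x, ← hb3]
    haveI := hfin x
    rw [finsum_mem_eq_finite_toFinset_sum _ (Set.toFinite _)]
    exact Finset.single_le_sum (f := fun b => blockRank p b) (fun _ _ => Nat.zero_le _)
      ((Set.Finite.mem_toFinset _).mpr (hb1 hind))
  -- the other terms
  have htx : ∀ x ∈ X \ Zfin, ((Pfin \ Zfin).filter (fun u => rep u = x)).card ≤ t x := by
    intro x hx
    have hex : ∀ u : G, ∃ b : Set (IrrCharacter (Subgroup.centralizer ({x} : Set G))),
        u ∈ (Pfin \ Zfin).filter (fun u => rep u = x) →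
          IsInducedBlock M (Subgroup.centralizer ({x} : Set G)) b B ∧
            IsSubsectionBlock p M P c x u b := by
      intro u
      by_cases hu : u ∈ (Pfin \ Zfin).filter (fun u => rep u = x)
      · rw [Finset.mem_filter, Finset.mem_sdiff] at hu
        have hux : IsConj u x := by
          have h1 := hrepconj u
          rwa [hu.2] at h1
        obtain ⟨b, hb1, hb2⟩ := exists_subsectionBlock hM hmax ((hPfin u).mp hu.1.1) hux
        exact ⟨b, fun _ => ⟨hb1, hb2⟩⟩
      · exact ⟨∅, fun h => absurd h hu⟩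
    choose β hβ using hex
    haveI := hfin x
    rw [ht x, finsum_mem_eq_finite_toFinset_sum _ (Set.toFinite _)]
    have hle1 : ((Pfin \ Zfin).filter (fun u => rep u = x)).card ≤
        (Set.toFinite {b : Set (IrrCharacter (Subgroup.centralizer ({x} : Set G))) |
          IsInducedBlock M (Subgroup.centralizer ({x} : Set G)) b B}).toFinset.card := by
      apply Finset.card_le_card_of_injOn β
      · intro u hu
        rw [Finset.mem_coe] at hu
        rw [Finset.mem_coe, Set.Finite.mem_toFinset]
        exact (hβ u hu).1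
      · intro u hu u' hu' hbb
        rw [Finset.mem_coe] at hu hu'
        have hu1 := (hβ u hu).2
        have hu2 := (hβ u' hu').2
        rw [← hbb] at hu2
        have huP : u ∈ P := by
          rw [Finset.mem_filter, Finset.mem_sdiff] at hu
          exact (hPfin u).mp hu.1.1
        exact subsectionBlock_injective hM hmax hab hnil huP hu1 hu2
    refine hle1.trans ?_
    rw [Finset.card_eq_sum_ones]
    apply Finset.sum_le_sum
    intro b hb
    rw [Set.Finite.mem_toFinset] at hb
    exact hpos x b hb
  -- assembling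
  have hsplit : ∑ x ∈ X, t x = ∑ x ∈ X \ Zfin, t x + ∑ x ∈ Zfin, t x :=
    (Finset.sum_sdiff hZX).symm
  have hfib : (Pfin \ Zfin).card =
      ∑ x ∈ X \ Zfin, ((Pfin \ Zfin).filter (fun u => rep u = x)).card := by
    apply Finset.card_eq_sum_card_fiberwise
    intro u hu
    rw [Finset.mem_coe, Finset.mem_sdiff] at hu
    have huP := (hPfin u).mp hu.1
    rw [Finset.mem_coe, Finset.mem_sdiff]
    refine ⟨(hXdef _).mpr ⟨?_, hrepeq _ _ (hrepconj u).symm⟩, ?_⟩
    · obtain ⟨k, hk⟩ := hpelt u huP
      exact ⟨k, by rw [← hord u (rep u) (hrepconj u), hk]⟩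
    · intro h1
      have h2 := ((hZfin _).mp h1).2
      obtain ⟨y, hy⟩ := isConj_iff.mp (hrepconj u).symm
      have h4 : y * rep u * y⁻¹ = rep u := by
        rw [Subgroup.mem_center_iff.mp h2 y, mul_inv_cancel_right]
      have h3 : u = rep u := hy.symm.trans h4
      apply hu.2
      rw [h3]
      exact h1
  have h1Z : (1 : G) ∈ Zfin := (hZfin 1).mpr ⟨one_mem P, one_mem _⟩
  have hZpos : 0 < Zfin.card := Finset.card_pos.mpr ⟨1, h1Z⟩
  have hZle : Zfin.card ≤ Pfin.card := Finset.card_le_card hZP
  have hsd : (Pfin \ Zfin).card = Pfin.card - Zfin.card := Finset.card_sdiff_of_subset hZP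
  refine ⟨Zfin.card, hZpos, by rw [hPcard]; exact hZle, ?_⟩
  rw [hcount', hsplit, hPcard, ← hsd, hfib, add_comm]
  apply Nat.add_le_add (Finset.sum_le_sum htx)
  calc Zfin.card * blockRank p B = ∑ _x ∈ Zfin, blockRank p B := by
        rw [Finset.sum_const, smul_eq_mul]
    _ ≤ ∑ x ∈ Zfin, t x := Finset.sum_le_sum htz

theorem abelian_nilpotent_aux {p : ℕ} [Fact p.Prime] (hM : IsPModular p M) :
    ∀ (n : ℕ) (G : Type u) [Group G] [Finite G], Nat.card G = n →
      ∀ (B : Set (IrrCharacter G)) (P : Subgroup G)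
        (c : Set (IrrCharacter (Subgroup.centralizer (P : Set G)))),
        IsMaximalBrauerPair p M B P c → (∀ x ∈ P, ∀ y ∈ P, x * y = y * x) →
        (∀ x ∈ Subgroup.normalizer (P : Set G),
          StabilizesBlock (Subgroup.centralizer (P : Set G)) c x →
            x ∈ Subgroup.centralizer (P : Set G)) →
        blockRank p B = 1 ∧ Nat.card B = Nat.card P := by
  intro n
  induction n using Nat.strong_induction_on with
  | _ n ih =>
    intro G _ _ hn B P c hmax hab hnil
    classical
    have hMp := isPrime_of_isPModular hM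
    have hB : IsPBlock M B := hmax.1.2.1
    have hPe : IsBrauerPair p M P c := hmax.1.1
    have hPC : P ≤ Subgroup.centralizer (P : Set G) := by
      intro u hu
      rw [Subgroup.mem_centralizer_iff]
      intro q hq
      exact hab q hq u hu
    -- a subsection with one Brauer character
    have hex : ∃ v ∈ P, ∃ f : Set (IrrCharacter
        (Subgroup.centralizer ((Subgroup.zpowers v : Subgroup G) : Set G))),
        SubpairLE p M (Subgroup.zpowers v) f P c ∧ blockRank p f = 1 := by
      by_cases hPZ : P ≤ Subgroup.center G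
      · obtain ⟨f, hle⟩ := exists_subpair hM P c hPe (Subgroup.zpowers (1 : G))
          (Subgroup.zpowers_le.mpr (one_mem P))
        refine ⟨1, one_mem P, f, hle, ?_⟩
        have hPCv : P ≤ Subgroup.centralizer ((Subgroup.zpowers (1 : G) : Subgroup G) : Set G) :=
          fun u hu => Subgroup.center_le_centralizer _ (hPZ hu)
        have hfD := isDefectGroup_of_le_centralizer hM hmax hle hPCv
        have hfb : IsPBlock M f :=
          (isBrauerPair_of_le ⟨Subgroup.zpowers (1 : G), f⟩ ⟨P, c⟩ hle hPe).2
        haveI : Fintype (Subgroup.centralizer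
            ((Subgroup.zpowers (1 : G) : Subgroup G) : Set G)) := Fintype.ofFinite _
        refine Cfsg.Agent.S4669.result p M hM f hfb _ hfD ?_
        intro u hu
        rw [Subgroup.mem_center_iff]
        intro g
        apply Subtype.ext
        rw [Subgroup.coe_mul, Subgroup.coe_mul]
        exact Subgroup.mem_center_iff.mp (hPZ (Subgroup.mem_subgroupOf.mp hu)) g
      · obtain ⟨v, hvP, hvZ⟩ := SetLike.not_le_iff_exists.mp hPZ
        have hQP : Subgroup.zpowers v ≤ P := Subgroup.zpowers_le.mpr hvP
        obtain ⟨f, hle⟩ := exists_subpair hM P c hPe (Subgroup.zpowers v) hQP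
        refine ⟨v, hvP, f, hle, ?_⟩
        have hPCQ : P ≤ Subgroup.centralizer ((Subgroup.zpowers v : Subgroup G) : Set G) :=
          hPC.trans (Subgroup.centralizer_le hQP)
        have hCPQ : Subgroup.centralizer (P : Set G) ≤
            Subgroup.centralizer ((Subgroup.zpowers v : Subgroup G) : Set G) :=
          Subgroup.centralizer_le hQP
        have hfb : IsPBlock M f :=
          (isBrauerPair_of_le ⟨Subgroup.zpowers v, f⟩ ⟨P, c⟩ hle hPe).2
        have hns : IsNormalSubpair p M (Subgroup.zpowers v) f P c :=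
          isNormalSubpair_of_le hM hPe hle (hPCQ.trans (Subgroup.centralizer_le_normalizer _))
        obtain ⟨a, ha⟩ : ∃ a, a = down (Subgroup.centralizer
            ((Subgroup.zpowers v : Subgroup G) : Set G)) P hPCQ hCPQ c := ⟨_, rfl⟩
        have hup : up (Subgroup.centralizer ((Subgroup.zpowers v : Subgroup G) : Set G)) a =
            ⟨P, c⟩ := by
          rw [ha]
          exact up_down _ P hPCQ hCPQ c
        have hapair : IsBrauerPairOf p M f a.1 a.2 := by
          rw [ha]
          exact (isBrauerPairOf_down_iff hQP hPCQ f hfb c hPe).mpr hns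
        have ha1 : a.1 = P.subgroupOf
            (Subgroup.centralizer ((Subgroup.zpowers v : Subgroup G) : Set G)) := by
          rw [ha]
          rfl
        have hD : IsDefectGroup p M f a.1 := by
          rw [ha1]
          exact isDefectGroup_of_le_centralizer hM hmax hle hPCQ
        have hamax : IsMaximalBrauerPair p M f a.1 a.2 :=
          isMaximal_of_isDefectGroup hM hapair hD
        have haab : ∀ x ∈ a.1, ∀ y ∈ a.1, x * y = y * x := by
          rw [ha1]
          intro x hx y hy
          apply Subtype.ext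
          exact hab _ (Subgroup.mem_subgroupOf.mp hx) _ (Subgroup.mem_subgroupOf.mp hy)
        have hC : Subgroup.centralizer ((a.1.map (Subgroup.centralizer
            ((Subgroup.zpowers v : Subgroup G) : Set G)).subtype : Subgroup G) : Set G) ≤
            Subgroup.centralizer ((Subgroup.zpowers v : Subgroup G) : Set G) := by
          have h1 : a.1.map (Subgroup.centralizer
              ((Subgroup.zpowers v : Subgroup G) : Set G)).subtype = P :=
            congrArg Sigma.fst hup
          rw [h1]
          exact hCPQ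
        have hstab : ∀ t : Subgroup.centralizer ((Subgroup.zpowers v : Subgroup G) : Set G),
            (t ∈ Subgroup.normalizer (a.1 : Set (Subgroup.centralizer
                ((Subgroup.zpowers v : Subgroup G) : Set G))) ∧
              StabilizesBlock (Subgroup.centralizer (a.1 : Set (Subgroup.centralizer
                ((Subgroup.zpowers v : Subgroup G) : Set G)))) a.2 t) ↔
            ((t : G) ∈ Subgroup.normalizer (P : Set G) ∧
              StabilizesBlock (Subgroup.centralizer (P : Set G)) c (t : G)) := by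
          intro t
          exact (stab_up_iff _ a hC t).trans (stab_congr' hup (t : G))
        have hcard : Nat.card (Subgroup.centralizer
            ((Subgroup.zpowers v : Subgroup G) : Set G)) < n := by
          rw [← hn]
          apply lt_of_le_of_ne (Subgroup.card_le_card_group _)
          intro heq
          have htop := Subgroup.eq_top_of_card_eq _ heq
          apply hvZ
          rw [Subgroup.mem_center_iff]
          intro g
          have hg : g ∈ Subgroup.centralizer ((Subgroup.zpowers v : Subgroup G) : Set G) := by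
            rw [htop]
            exact Subgroup.mem_top g
          exact (Subgroup.mem_centralizer_iff.mp hg v (Subgroup.mem_zpowers v)).symm
        have hih := ih _ hcard (Subgroup.centralizer
          ((Subgroup.zpowers v : Subgroup G) : Set G)) rfl f a.1 a.2 hamax haab ?_
        · exact hih.1
        · intro x hxN hxs
          have hx2 := (hstab x).mp ⟨hxN, hxs⟩
          have h2 := hnil (x : G) hx2.1 hx2.2
          rw [Subgroup.mem_centralizer_iff]
          intro y hy
          have hyP : (y : G) ∈ P := by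
            rw [ha1] at hy
            exact Subgroup.mem_subgroupOf.mp hy
          apply Subtype.ext
          exact Subgroup.mem_centralizer_iff.mp h2 _ hyP
    obtain ⟨v, hvP, f, hle, hrank⟩ := hex
    have hupb := upper_bound hM hmax hab hvP f hle (by rw [hrank]; norm_num)
    obtain ⟨z, hz1, hzP, hlow⟩ := lower_bound hM hmax hab hnil
    obtain ⟨ψ, hψ⟩ := isPBlock_nonempty hMp hB
    have hge := blockRank_pos p hψ
    have hl : blockRank p B = 1 := by
      by_contra hne
      have h2 : 2 ≤ blockRank p B := by omega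
      have h3 : z * 2 ≤ z * blockRank p B := Nat.mul_le_mul_left z h2
      omega
    refine ⟨hl, ?_⟩
    rw [hl, mul_one] at hlow
    omega

/-- **Nilpotent blocks with abelian defect groups.**  If `(P, c)` is a maximal Brauer pair of the
block `B`, `P` is abelian and `N_G(P, c) = C_G(P)`, then `l(B) = 1` and `k(B) = |P|`. -/
theorem abelian_nilpotent [Finite G] {p : ℕ} [Fact p.Prime] (hM : IsPModular p M)
    {B : Set (IrrCharacter G)} {P : Subgroup G}
    {c : Set (IrrCharacter (Subgroup.centralizer (P : Set G)))}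
    (hmax : IsMaximalBrauerPair p M B P c) (hab : ∀ x ∈ P, ∀ y ∈ P, x * y = y * x)
    (hnil : ∀ x ∈ Subgroup.normalizer (P : Set G),
      StabilizesBlock (Subgroup.centralizer (P : Set G)) c x →
        x ∈ Subgroup.centralizer (P : Set G)) :
    blockRank p B = 1 ∧ Nat.card B = Nat.card P :=
  abelian_nilpotent_aux hM _ G rfl B P c hmax hab hnil

end Cfsg.Agent.Lib.Helper77.BPAb
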