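import Mathlib
import Cfsg.Agent.Lib.Helper25.ACStmt

set_option maxHeartbeats 400000

namespace Cfsg.Agent.Lib.Helper77.ACAB8

open Cfsg.Agent.Lib.Helper25.ACStmt

universe u

theorem main : Ab8.{u} := by
  intro G _ _ B₁ hcomm hinv h8
  classical
  haveI : Fintype G := Fintype.ofFinite G
  haveI : Fact (Nat.Prime 2) := ⟨Nat.prime_two⟩
  obtain ⟨K0, hK0⟩ := Sylow.exists_subgroup_card_pow_prime (G := ↥B₁) 2 (n := 3)
    (by have h23 : (2 : ℕ) ^ 3 = 8 := by norm_num
        rw [h23]; exact h8)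
  obtain ⟨K, hKB, hK8⟩ : ∃ K : Subgroup G, K ≤ B₁ ∧ Nat.card K = 8 := by
    refine ⟨K0.map B₁.subtype, ?_, ?_⟩
    · rintro x ⟨y, _, rfl⟩
      exact y.2
    · rw [Subgroup.card_map_of_injective B₁.subtype_injective, hK0]
      norm_num
  by_contra hno
  push_neg at hno
  have h4 : ∀ x ∈ K, x ^ 4 = 1 := by
    intro x hx
    have h1 : orderOf x ∣ 2 ^ 3 := by
      have h0 := Subgroup.orderOf_dvd_natCard K hx
      rw [hK8] at h0
      have h23 : (2 : ℕ) ^ 3 = 8 := by norm_num
      rw [h23]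
      exact h0
    obtain ⟨m, hm, hm2⟩ := (Nat.dvd_prime_pow Nat.prime_two).mp h1
    have hm3 : m ≠ 3 := by
      intro h
      rw [h] at hm2
      exact hno x (hKB hx) (by rw [hm2]; norm_num)
    have hm' : m ≤ 2 := by omega
    have h3 : orderOf x ∣ 2 ^ 2 := by
      rw [hm2]
      exact pow_dvd_pow 2 hm'
    exact orderOf_dvd_iff_pow_eq_one.mp h3
  let Kf : Finset G := Finset.univ.filter (· ∈ K)
  have hKf : ∀ x, x ∈ Kf ↔ x ∈ K := by intro x; simp [Kf]
  have hKfcard : Kf.card = 8 := by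
    rw [← hK8, ← Nat.card_eq_finsetCard]
    apply Nat.card_congr
    exact Equiv.subtypeEquivRight (fun x => hKf x)
  let E : Finset G := Kf.filter (fun x => x ^ 2 = 1)
  have hE : ∀ x, x ∈ E ↔ x ∈ K ∧ x ^ 2 = 1 := by intro x; simp [E, Kf]
  have hEcard : E.card ≤ 2 := by
    by_cases h : ∃ z ∈ E, z ≠ 1
    · obtain ⟨z, hz, hz1⟩ := h
      have hsub : E ⊆ {1, z} := by
        intro x hx
        rw [Finset.mem_insert, Finset.mem_singleton]
        by_cases hx1 : x = 1
        · exact Or.inl hx1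
        · right
          have ox : orderOf x = 2 := orderOf_eq_prime ((hE x).mp hx).2 hx1
          have oz : orderOf z = 2 := orderOf_eq_prime ((hE z).mp hz).2 hz1
          exact hinv x z ox oz
      exact (Finset.card_le_card hsub).trans Finset.card_le_two
    · push_neg at h
      have hsub : E ⊆ {1} := by
        intro x hx
        rw [Finset.mem_singleton]
        exact h x hx
      exact (Finset.card_le_card hsub).trans (by simp)
  have himg : Kf.image (fun x => x ^ 2) ⊆ E := by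
    intro y hy
    obtain ⟨x, hx, rfl⟩ := Finset.mem_image.mp hy
    rw [hKf] at hx
    rw [hE]
    refine ⟨K.pow_mem hx 2, ?_⟩
    rw [← pow_mul]
    exact h4 x hx
  have h9 : Kf.card ≤ 2 * (Kf.image (fun x => x ^ 2)).card := by
    apply Finset.card_le_mul_card_image
    intro b hb
    obtain ⟨x0, hx0, rfl⟩ := Finset.mem_image.mp hb
    rw [hKf] at hx0
    refine (Finset.card_le_card (t := E.image (fun e => x0 * e)) ?_).trans
      (Finset.card_image_le.trans hEcard)
    intro x hx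
    obtain ⟨hxK, hxsq⟩ := Finset.mem_filter.mp hx
    rw [hKf] at hxK
    have hxsq' : x ^ 2 = x0 ^ 2 := hxsq
    rw [Finset.mem_image]
    refine ⟨x0⁻¹ * x, ?_, mul_inv_cancel_left _ _⟩
    rw [hE]
    refine ⟨K.mul_mem (K.inv_mem hx0) hxK, ?_⟩
    have hcm : Commute x0 x := hcomm x0 (hKB hx0) x (hKB hxK)
    rw [(hcm.inv_left).mul_pow, hxsq', inv_pow, inv_mul_cancel]
  have h10 := Finset.card_le_card himg
  rw [hKfcard] at h9
  omega

end Cfsg.Agent.Lib.Helper77.ACAB8
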