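import Mathlib
import Cfsg.Agent.Lib.Helper25.ACStmt

set_option maxHeartbeats 400000

namespace Cfsg.Agent.Lib.Helper77.ACVCORE

open Cfsg.Agent.Lib.Helper25.ACStmt

universe u

theorem main (hO : OddCore.{u}) (hH : HatB.{u}) (hE : ExV.{u}) (hS : VSmall.{u})
    (hA : VAll4.{u}) : VCore.{u} := by
  intro G _ _ hsolv hB hinvG P₁ hP8 hnonab
  obtain ⟨K, hKn, hKodd, hKmax⟩ := hO G
  haveI : K.Normal := hKn
  haveI : Group.IsSolvable G := hsolv
  obtain ⟨hconj4, huniq'⟩ := hH G hB K hKodd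
  have huniq := huniq' hinvG
  obtain ⟨a, ha, b, hb, hab⟩ := hnonab
  haveI : Fact (Nat.Prime 2) := ⟨Nat.prime_two⟩
  have h23 : (2 : ℕ) ^ 3 = 8 := by norm_num
  -- the restricted quotient map
  let φ : ↥P₁ →* G ⧸ K := (QuotientGroup.mk' K).comp P₁.subtype
  have hφap : ∀ p : ↥P₁, φ p = QuotientGroup.mk' K (p : G) := fun p => rfl
  have hφ : Function.Injective φ := by
    rw [injective_iff_map_eq_one]
    intro p hp
    have hpK : (p : G) ∈ K := (QuotientGroup.eq_one_iff (p : G)).mp hp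
    have h1 : orderOf (p : G) ∣ Nat.card K := Subgroup.orderOf_dvd_natCard K hpK
    have h2 : orderOf (p : G) ∣ 2 ^ 3 := by
      have h0 := Subgroup.orderOf_dvd_natCard P₁ p.2
      rw [hP8] at h0
      rw [h23]
      exact h0
    have hcop : Nat.Coprime (2 ^ 3) (Nat.card K) :=
      Nat.Coprime.pow_left 3 (Nat.coprime_two_left.mpr hKodd)
    have h3 : orderOf (p : G) = 1 := Nat.eq_one_of_dvd_coprimes hcop h2 h1
    exact Subtype.ext (orderOf_eq_one_iff.mp h3)
  -- every element of P₁ has p ^ 4 = 1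
  have hP4 : ∀ p : ↥P₁, p ^ 4 = 1 := by
    intro p
    have h1 : orderOf p ∣ 2 ^ 3 := by
      have h0 := orderOf_dvd_natCard p
      rw [hP8] at h0
      rw [h23]
      exact h0
    obtain ⟨m, hm, hm2⟩ := (Nat.dvd_prime_pow Nat.prime_two).mp h1
    have hm3 : m ≠ 3 := by
      intro h
      rw [h, h23] at hm2
      have htop : Subgroup.zpowers p = ⊤ := by
        apply Subgroup.eq_top_of_card_eq
        rw [Nat.card_zpowers, hm2, hP8]
      apply hab
      have ha' : (⟨a, ha⟩ : ↥P₁) ∈ Subgroup.zpowers p := by rw [htop]; exact Subgroup.mem_top _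
      have hb' : (⟨b, hb⟩ : ↥P₁) ∈ Subgroup.zpowers p := by rw [htop]; exact Subgroup.mem_top _
      obtain ⟨i, hi⟩ := Subgroup.mem_zpowers_iff.mp ha'
      obtain ⟨j, hj⟩ := Subgroup.mem_zpowers_iff.mp hb'
      have hcm : (⟨a, ha⟩ : ↥P₁) * ⟨b, hb⟩ = ⟨b, hb⟩ * ⟨a, ha⟩ := by
        rw [← hi, ← hj]
        exact (Commute.zpow_zpow_self p i j)
      exact congrArg Subtype.val hcm
    have hm' : m ≤ 2 := by omega
    have h3 : orderOf p ∣ 2 ^ 2 := by
      rw [hm2]
      exact pow_dvd_pow 2 hm'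
    exact orderOf_dvd_iff_pow_eq_one.mp h3
  -- the involution
  obtain ⟨z0, hz0⟩ := exists_prime_orderOf_dvd_card' (G := ↥P₁) 2 (by rw [hP8]; norm_num)
  obtain ⟨z, hzdef⟩ : ∃ z : G ⧸ K, z = φ z0 := ⟨_, rfl⟩
  have hz2 : orderOf z = 2 := by
    rw [hzdef, orderOf_injective φ hφ, hz0]
  have hzuniq : ∀ x : G ⧸ K, orderOf x = 2 → x = z := fun x hx => huniq x z hx hz2
  -- an element different from 1 and z
  have hex : ∃ x : G ⧸ K, x ≠ 1 ∧ x ≠ z := by
    by_contra hcon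
    push_neg at hcon
    apply hab
    have hc : φ ⟨a, ha⟩ * φ ⟨b, hb⟩ = φ ⟨b, hb⟩ * φ ⟨a, ha⟩ := by
      have h1 : φ ⟨a, ha⟩ = 1 ∨ φ ⟨a, ha⟩ = z := by
        by_cases h : φ ⟨a, ha⟩ = 1
        · exact Or.inl h
        · exact Or.inr (hcon _ h)
      have h2 : φ ⟨b, hb⟩ = 1 ∨ φ ⟨b, hb⟩ = z := by
        by_cases h : φ ⟨b, hb⟩ = 1
        · exact Or.inl h
        · exact Or.inr (hcon _ h)
      rcases h1 with h1 | h1 <;> rcases h2 with h2 | h2 <;> simp [h1, h2]
    rw [← map_mul, ← map_mul] at hc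
    exact congrArg Subtype.val (hφ hc)
  have hQmax : ∀ Y : Subgroup (G ⧸ K), Y.Normal → Odd (Nat.card ↥Y) → Y = ⊥ := hKmax
  obtain ⟨V, hVn, hV2, ⟨v, hvV, hv1, hvz⟩, hsq⟩ := hE (G ⧸ K) inferInstance hQmax z hz2 hzuniq hex
  have hzV : z ∈ V := by
    rcases hsq v hvV with h | h
    · exfalso
      exact hvz (hzuniq v (orderOf_eq_prime h hv1))
    · rw [← h]
      exact V.pow_mem hvV 2
  have hz1 : z ≠ 1 := by
    intro h
    rw [h, orderOf_one] at hz2
    norm_num at hz2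
  have hVcard : Nat.card ↥V ≤ 8 := by
    apply hS ↥V hV2 ⟨z, hzV⟩
    · intro h
      exact hz1 (congrArg Subtype.val h)
    · intro x hx
      by_cases hx1 : x = 1
      · exact Or.inl hx1
      · right
        apply Subtype.ext
        apply hzuniq
        have hx' : (x : G ⧸ K) ^ 2 = 1 := by
          have := congrArg Subtype.val hx
          simpa using this
        exact orderOf_eq_prime hx' (fun h => hx1 (Subtype.ext h))
    · intro w
      rcases hsq w w.2 with h | h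
      · left
        apply Subtype.ext
        simpa using h
      · right
        apply Subtype.ext
        simpa using h
  have hall4 : ∀ x : G ⧸ K, x ^ 4 = 1 → x ∈ V :=
    hA (G ⧸ K) V hVn hconj4 z hz2 hzuniq hV2 ⟨v, hvV, hv1, hvz⟩
  -- the image of P₁ lies in V
  have hPV : φ.range ≤ V := by
    rintro x ⟨p, rfl⟩
    apply hall4
    rw [← map_pow, hP4 p, map_one]
  have hrange8 : Nat.card ↥φ.range = 8 := by
    rw [← hP8]
    exact (Nat.card_congr (MonoidHom.ofInjective hφ).toEquiv).symm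
  have hVeq : φ.range = V := Subgroup.eq_of_le_of_card_ge hPV (by rw [hrange8]; exact hVcard)
  refine ⟨K, hKn, hKodd, huniq, V, hVn, ?_, ?_, hall4⟩
  · rw [← hVeq]
    exact hrange8
  · refine ⟨φ ⟨a, ha⟩, hPV ⟨_, rfl⟩, φ ⟨b, hb⟩, hPV ⟨_, rfl⟩, ?_⟩
    intro hc
    rw [← map_mul, ← map_mul] at hc
    exact hab (congrArg Subtype.val (hφ hc))

end Cfsg.Agent.Lib.Helper77.ACVCORE
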