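import Mathlib
import Cfsg.Agent.Lib.Helper64.AutStmt
import Cfsg.Agent.Lib.Helper76.PSolv

set_option autoImplicit false
set_option maxHeartbeats 400000

namespace Cfsg.Agent.Lib.Helper77.AutHALLABS

universe u

open Cfsg.Agent.Lib.Helper64.AutStmt

/-- a `{p,q}`-subgroup of index prime to `p` and `q` -/
def HP (p q : ℕ) (N : Type u) [Group N] : Prop :=
  ∃ Y : Subgroup N, (∀ r : ℕ, r.Prime → r ∣ Nat.card Y → r = p ∨ r = q) ∧
    ¬ p ∣ Y.index ∧ ¬ q ∣ Y.index

theorem hp_of_subgroup (p q : ℕ) [hp : Fact p.Prime] [hq : Fact q.Prime] {N : Type u} [Group N]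
    [Finite N] (K : Subgroup N) (hKp : ¬ p ∣ K.index) (hKq : ¬ q ∣ K.index) (h : HP p q ↥K) :
    HP p q N := by
  obtain ⟨Y, hY, hYp, hYq⟩ := h
  refine ⟨Y.map K.subtype, ?_, ?_, ?_⟩
  · intro r hr hdvd
    rw [Subgroup.card_map_of_injective K.subtype_injective] at hdvd
    exact hY r hr hdvd
  · rw [Subgroup.index_map_subtype]
    exact fun h => (hp.out.dvd_mul.1 h).elim hYp hKp
  · rw [Subgroup.index_map_subtype]
    exact fun h => (hq.out.dvd_mul.1 h).elim hYq hKq

theorem hp_of_quotient (p q : ℕ) {N : Type u} [Group N] [Finite N]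
    (M : Subgroup N) [M.Normal] (hM : ∀ r : ℕ, r.Prime → r ∣ Nat.card M → r = p ∨ r = q)
    (h : HP p q (N ⧸ M)) : HP p q N := by
  obtain ⟨Y, hY, hYp, hYq⟩ := h
  have hidx : (Y.comap (QuotientGroup.mk' M)).index = Y.index :=
    Subgroup.index_comap_of_surjective _ (QuotientGroup.mk'_surjective M)
  refine ⟨Y.comap (QuotientGroup.mk' M), ?_, ?_, ?_⟩
  · intro r hr hdvd
    have h1 : Nat.card (Y.comap (QuotientGroup.mk' M)) * (Y.comap (QuotientGroup.mk' M)).index =
        Nat.card N := Subgroup.card_mul_index _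
    have h2 : Nat.card Y * Y.index = Nat.card (N ⧸ M) := Subgroup.card_mul_index _
    have h3 : Nat.card N = Nat.card (N ⧸ M) * Nat.card M :=
      Subgroup.card_eq_card_quotient_mul_card_subgroup M
    have hpos : 0 < Y.index := Nat.pos_of_ne_zero Subgroup.index_ne_zero_of_finite
    have h4 : Nat.card (Y.comap (QuotientGroup.mk' M)) = Nat.card Y * Nat.card M := by
      rw [hidx] at h1
      have h5 : Nat.card (Y.comap (QuotientGroup.mk' M)) * Y.index =
          (Nat.card Y * Nat.card M) * Y.index := by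
        rw [h1, h3, ← h2]; ring
      exact Nat.eq_of_mul_eq_mul_right hpos h5
    rw [h4] at hdvd
    rcases (Nat.Prime.dvd_mul hr).1 hdvd with h | h
    · exact hY r hr h
    · exact hM r hr h
  · rw [hidx]; exact hYp
  · rw [hidx]; exact hYq

theorem exists_first {N : Type u} [Group N] [Nontrivial N] (p : ℕ) (h : Cfsg.IsPSolvable p N) :
    ∃ M : Subgroup N, M.Normal ∧ M ≠ ⊥ ∧
      ((∃ m : ℕ, Nat.card M = p ^ m) ∨ (Nat.card M).Coprime p) := by
  obtain ⟨n, H, h0, hlast, hmono, hnormal, hstep⟩ := h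
  have key : ∀ i : Fin (n + 1), H i ≠ ⊥ → ∃ M : Subgroup N, M.Normal ∧ M ≠ ⊥ ∧
      ((∃ m : ℕ, Nat.card M = p ^ m) ∨ (Nat.card M).Coprime p) := by
    intro i
    induction i using Fin.induction with
    | zero => intro hne; exact absurd h0 hne
    | succ i ih =>
      intro hne
      by_cases hc : H i.castSucc = ⊥
      · refine ⟨H i.succ, hnormal _, hne, ?_⟩
        have hs := hstep i
        rw [hc, Subgroup.relIndex_bot_left] at hs
        exact hs
      · exact ih hc
  apply key (Fin.last n)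
  rw [hlast]
  exact top_ne_bot

theorem card_lt_of_ne_top {N : Type u} [Group N] [Finite N] (K : Subgroup N) (hK : K ≠ ⊤) :
    Nat.card ↥K < Nat.card N := by
  have h1 : Nat.card ↥K ≤ Nat.card N := Subgroup.card_le_card_group K
  rcases Nat.lt_or_ge (Nat.card ↥K) (Nat.card N) with h | h
  · exact h
  · exact absurd (Subgroup.eq_top_of_card_eq K (le_antisymm h1 h)) hK

theorem card_quot_lt {N : Type u} [Group N] [Finite N] (M : Subgroup N) [M.Normal] (hM : M ≠ ⊥) :
    Nat.card (N ⧸ M) < Nat.card N := by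
  have h3 : Nat.card N = Nat.card (N ⧸ M) * Nat.card M :=
    Subgroup.card_eq_card_quotient_mul_card_subgroup M
  have h1 : 1 < Nat.card ↥M := (Subgroup.one_lt_card_iff_ne_bot M).2 hM
  have hpos : 0 < Nat.card (N ⧸ M) := Nat.card_pos
  nlinarith

theorem frattini_case (p q : ℕ) [hp : Fact p.Prime] [hq : Fact q.Prime] (hSub : PSSub.{u})
    (N : Type u) [Group N] [Finite N]
    (ih : ∀ m < Nat.card N, ∀ (N' : Type u) [Group N'] [Finite N'], Nat.card N' = m →
      Cfsg.IsPSolvable p N' → HP p q N')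
    (hps : Cfsg.IsPSolvable p N) (M : Subgroup N) [hMn : M.Normal]
    (hcop : (Nat.card M).Coprime p)
    (hNM : ∀ r : ℕ, r.Prime → r ∣ Nat.card (N ⧸ M) → r = p ∨ r = q) : HP p q N := by
  classical
  have hpM : ¬ p ∣ Nat.card ↥M := (Nat.Prime.coprime_iff_not_dvd hp.out).1 hcop.symm
  obtain ⟨Q₀⟩ : Nonempty (Sylow q ↥M) := inferInstance
  obtain ⟨Q, hQdef⟩ : ∃ Q : Subgroup N, Q = (Q₀ : Subgroup ↥M).map M.subtype := ⟨_, rfl⟩
  have hfr : Subgroup.normalizer (Q : Set N) ⊔ M = ⊤ := by
    rw [hQdef]; exact Sylow.normalizer_sup_eq_top Q₀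
  have hQcard : Nat.card ↥Q = q ^ (Nat.card ↥M).factorization q := by
    rw [hQdef, Subgroup.card_map_of_injective M.subtype_injective]
    exact Q₀.card_eq_multiplicity
  have hQprimes : ∀ r : ℕ, r.Prime → r ∣ Nat.card ↥Q → r = p ∨ r = q := by
    intro r hr hdvd
    rw [hQcard] at hdvd
    right
    exact (Nat.prime_dvd_prime_iff_eq hr hq.out).1 (hr.dvd_of_dvd_pow hdvd)
  by_cases hN1 : Subgroup.normalizer (Q : Set N) = ⊤
  · haveI hQn : Q.Normal := Subgroup.normalizer_eq_top_iff.1 hN1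
    by_cases hQ : Q = ⊥
    · have hqM : ¬ q ∣ Nat.card ↥M := by
        intro hdvd
        rw [hQ, Subgroup.card_bot] at hQcard
        have hposM : Nat.card ↥M ≠ 0 := Nat.card_pos.ne'
        have hfac : 0 < (Nat.card ↥M).factorization q :=
          hq.out.factorization_pos_of_dvd hposM hdvd
        have h1 : 1 < q ^ (Nat.card ↥M).factorization q :=
          Nat.one_lt_pow hfac.ne' hq.out.one_lt
        omega
      have hcopM : Nat.Coprime (Nat.card ↥M) M.index := by
        rw [Subgroup.index_eq_card]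
        apply Nat.Coprime.symm
        apply Nat.coprime_of_dvd
        intro r hr h1 h2
        rcases hNM r hr h1 with rfl | rfl
        · exact hpM h2
        · exact hqM h2
      obtain ⟨Y, hY⟩ := Subgroup.exists_right_complement'_of_coprime hcopM
      have hc1 : Nat.card ↥M * Nat.card ↥Y = Nat.card N := hY.card_mul_card
      have hc2 : Nat.card N = Nat.card (N ⧸ M) * Nat.card M :=
        Subgroup.card_eq_card_quotient_mul_card_subgroup M
      have hc3 : Nat.card ↥Y * Y.index = Nat.card N := Subgroup.card_mul_index Y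
      have hMpos : 0 < Nat.card ↥M := Nat.card_pos
      have hYpos : 0 < Nat.card ↥Y := Nat.card_pos
      have hYcard : Nat.card ↥Y = Nat.card (N ⧸ M) := by
        have h5 : Nat.card ↥Y * Nat.card ↥M = Nat.card (N ⧸ M) * Nat.card ↥M := by
          rw [← hc2, ← hc1]; ring
        exact Nat.eq_of_mul_eq_mul_right hMpos h5
      have hYidx : Y.index = Nat.card ↥M := by
        have h5 : Nat.card ↥Y * Y.index = Nat.card ↥Y * Nat.card ↥M := by
          rw [hc3, ← hc1]; ring
        exact Nat.eq_of_mul_eq_mul_left hYpos h5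
      refine ⟨Y, ?_, ?_, ?_⟩
      · intro r hr hdvd
        rw [hYcard] at hdvd
        exact hNM r hr hdvd
      · rw [hYidx]; exact hpM
      · rw [hYidx]; exact hqM
    · have hlt := card_quot_lt Q hQ
      have hquot := ih _ hlt (N ⧸ Q) rfl
        (Cfsg.Agent.Lib.Helper76.PSolv.isPSolvable_quotient p Q hps)
      exact hp_of_quotient p q Q hQprimes hquot
  · obtain ⟨N₁, hN₁def⟩ : ∃ N₁ : Subgroup N, N₁ = Subgroup.normalizer (Q : Set N) := ⟨_, rfl⟩
    rw [← hN₁def] at hfr hN1
    have hlt := card_lt_of_ne_top N₁ hN1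
    have hsub := ih _ hlt ↥N₁ rfl (hSub p N hps N₁)
    have htrans : MulAction.IsPretransitive ↥M (N ⧸ N₁) := by
      refine ⟨fun x y => ?_⟩
      refine QuotientGroup.induction_on x (fun a => ?_)
      refine QuotientGroup.induction_on y (fun b => ?_)
      have hmem : b⁻¹ * a ∈ M ⊔ N₁ := by rw [sup_comm, hfr]; trivial
      rw [← SetLike.mem_coe, Subgroup.normal_mul] at hmem
      obtain ⟨m₀, hm₀, n₁, hn₁, he⟩ := Set.mem_mul.1 hmem
      refine ⟨⟨b * m₀⁻¹ * b⁻¹, hMn.conj_mem _ (M.inv_mem hm₀) b⟩, ?_⟩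
      show ((b * m₀⁻¹ * b⁻¹ * a : N) : N ⧸ N₁) = (b : N ⧸ N₁)
      rw [QuotientGroup.eq]
      have he' : a = b * (m₀ * n₁) := by rw [he]; group
      have e2 : (b * m₀⁻¹ * b⁻¹ * a)⁻¹ * b = n₁⁻¹ := by rw [he']; group
      rw [e2]
      exact N₁.inv_mem hn₁
    have hidx : (MulAction.stabilizer ↥M ((1 : N) : N ⧸ N₁)).index = N₁.index := by
      rw [MulAction.index_stabilizer_of_transitive, Subgroup.index_eq_card]
    have hQle : (Q₀ : Subgroup ↥M) ≤ MulAction.stabilizer ↥M ((1 : N) : N ⧸ N₁) := by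
      intro u hu
      rw [MulAction.mem_stabilizer_iff]
      show (((u : N) * 1 : N) : N ⧸ N₁) = ((1 : N) : N ⧸ N₁)
      rw [QuotientGroup.eq]
      have huQ : (u : N) ∈ Q := by rw [hQdef]; exact ⟨u, hu, rfl⟩
      have huN : (u : N) ∈ N₁ := by rw [hN₁def]; exact Subgroup.le_normalizer huQ
      simpa using N₁.inv_mem huN
    have hp1 : ¬ p ∣ N₁.index := by
      rw [← hidx]
      intro h
      exact hpM (h.trans (Subgroup.index_dvd_card _))
    have hq1 : ¬ q ∣ N₁.index := by
      rw [← hidx]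
      intro h
      exact Q₀.not_dvd_index (h.trans (Subgroup.index_dvd_of_le hQle))
    exact hp_of_subgroup p q N₁ hp1 hq1 hsub

theorem hp_all (p q : ℕ) [hp : Fact p.Prime] [hq : Fact q.Prime] (hSub : PSSub.{u}) :
    ∀ n : ℕ, ∀ (N : Type u) [Group N] [Finite N], Nat.card N = n → Cfsg.IsPSolvable p N →
      HP p q N := by
  intro n
  induction n using Nat.strong_induction_on with
  | _ n ih =>
  intro N _ _ hn hps
  by_cases htriv : Subsingleton N
  · refine ⟨⊤, ?_, ?_, ?_⟩
    · intro r hr hdvd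
      have h1 : Nat.card (⊤ : Subgroup N) = 1 := by
        rw [Subgroup.card_top]; exact Nat.card_of_subsingleton 1
      rw [h1] at hdvd
      exact absurd (Nat.dvd_one.1 hdvd) hr.ne_one
    · rw [Subgroup.index_top]; exact hp.out.not_dvd_one
    · rw [Subgroup.index_top]; exact hq.out.not_dvd_one
  haveI : Nontrivial N := not_subsingleton_iff_nontrivial.1 htriv
  obtain ⟨M, hMn, hMne, hM⟩ := exists_first p hps
  haveI := hMn
  have hquot_lt : Nat.card (N ⧸ M) < n := by rw [← hn]; exact card_quot_lt M hMne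
  have hquot := ih _ hquot_lt (N ⧸ M) rfl
    (Cfsg.Agent.Lib.Helper76.PSolv.isPSolvable_quotient p M hps)
  rcases hM with ⟨m, hm⟩ | hcop
  · apply hp_of_quotient p q M _ hquot
    intro r hr hdvd
    rw [hm] at hdvd
    left
    exact (Nat.prime_dvd_prime_iff_eq hr hp.out).1 (hr.dvd_of_dvd_pow hdvd)
  · obtain ⟨Y', hY', hY'p, hY'q⟩ := hquot
    by_cases hK : Y'.comap (QuotientGroup.mk' M) = ⊤
    · have hY'top : Y' = ⊤ := by
        apply Subgroup.comap_injective (QuotientGroup.mk'_surjective M)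
        rw [hK, Subgroup.comap_top]
      have hNM : ∀ r : ℕ, r.Prime → r ∣ Nat.card (N ⧸ M) → r = p ∨ r = q := by
        intro r hr hdvd
        apply hY' r hr
        rw [hY'top, Subgroup.card_top]; exact hdvd
      refine frattini_case p q hSub N ?_ hps M hcop hNM
      intro m hm N' _ _ hN' hps'
      exact ih m (by rw [← hn]; exact hm) N' hN' hps'
    · have hidx : (Y'.comap (QuotientGroup.mk' M)).index = Y'.index :=
        Subgroup.index_comap_of_surjective _ (QuotientGroup.mk'_surjective M)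
      have hlt : Nat.card ↥(Y'.comap (QuotientGroup.mk' M)) < n := by
        rw [← hn]; exact card_lt_of_ne_top _ hK
      have hsub := ih _ hlt ↥(Y'.comap (QuotientGroup.mk' M)) rfl (hSub p N hps _)
      exact hp_of_subgroup p q _ (by rw [hidx]; exact hY'p) (by rw [hidx]; exact hY'q) hsub

theorem main (hSub : PSSub.{u}) : HallAbs.{u} := by
  intro p q _ _ hpq N _ _ hps P
  obtain ⟨Y, hY, hYp, hYq⟩ := hp_all p q hSub _ N rfl hps
  have hfix : (MulAction.fixedPoints ↥(P : Subgroup N) (N ⧸ Y)).Nonempty := by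
    apply P.isPGroup'.nonempty_fixed_point_of_prime_not_dvd_card
    rw [← Subgroup.index_eq_card]; exact hYp
  obtain ⟨x, hx⟩ := hfix
  revert hx
  refine QuotientGroup.induction_on x (fun g => ?_)
  intro hx
  rw [MulAction.mem_fixedPoints] at hx
  have hcardY : Nat.card ↥(Y.map (MulAut.conj g).toMonoidHom) = Nat.card ↥Y :=
    Subgroup.card_map_of_injective (MulAut.conj g).injective
  refine ⟨Y.map (MulAut.conj g).toMonoidHom, ?_, ?_, ?_⟩
  · intro u hu
    have h1 : ((u * g : N) : N ⧸ Y) = (g : N ⧸ Y) := hx ⟨u, hu⟩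
    rw [QuotientGroup.eq] at h1
    have h2 : g⁻¹ * u * g ∈ Y := by
      have h3 := Y.inv_mem h1
      have e : ((u * g)⁻¹ * g)⁻¹ = g⁻¹ * u * g := by group
      rw [e] at h3
      exact h3
    refine ⟨g⁻¹ * u * g, h2, ?_⟩
    show g * (g⁻¹ * u * g) * g⁻¹ = u
    group
  · intro r hr hdvd
    rw [hcardY] at hdvd
    exact hY r hr hdvd
  · have h1 : Nat.card ↥(Y.map (MulAut.conj g).toMonoidHom) *
        (Y.map (MulAut.conj g).toMonoidHom).index = Nat.card N := Subgroup.card_mul_index _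
    have h2 : Nat.card ↥Y * Y.index = Nat.card N := Subgroup.card_mul_index _
    have hYpos : 0 < Nat.card ↥Y := Nat.card_pos
    have h3 : (Y.map (MulAut.conj g).toMonoidHom).index = Y.index := by
      rw [hcardY, ← h2] at h1
      exact Nat.eq_of_mul_eq_mul_left hYpos h1
    rw [h3]
    exact hYq

end Cfsg.Agent.Lib.Helper77.AutHALLABS
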