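import Mathlib
import Cfsg.Prelude.Def_BrauerPairs
import Cfsg.Agent.Lib.Helper77.BPConjMax
import Cfsg.Agent.Lib.Helper77.BPEquiv2

/-!
# Defect groups of the blocks of subpairs

For a maximal Brauer pair `(P, e)` of `B` and `(Q, f) ≤ (P, e)`:
* `exists_defectGroup_ge_centralizer`: `C_P(Q)` is contained in a defect group of `f`;
* `isDefectGroup_of_max`: if `|C_P(Q)|` is maximal among the conjugates of `(Q, f)` below
  `(P, e)`, then `C_P(Q)` is a defect group of `f`;
* `exists_conj_isDefectGroup`: some conjugate of `(Q, f)` below `(P, e)` has this property.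
-/

set_option autoImplicit false

namespace Cfsg.Agent.Lib.Helper77.BPCent

open Cfsg Cfsg.Agent.Lib.Helper77.LocalRing Cfsg.Agent.Lib.Helper77.CentralChar
  Cfsg.Agent.Lib.Helper77.ClassSum Cfsg.Agent.Lib.Helper77.BlockIdem
  Cfsg.Agent.Lib.Helper77.OsimaVanish Cfsg.Agent.Lib.Helper77.IdemIn
  Cfsg.Agent.Lib.Helper77.BPBasic Cfsg.Agent.Lib.Helper77.BPBrauer
  Cfsg.Agent.Lib.Helper77.BPPairs Cfsg.Agent.Lib.Helper77.BPConj
  Cfsg.Agent.Lib.Helper77.BPNormal Cfsg.Agent.Lib.Helper77.BPSubpair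
  Cfsg.Agent.Lib.Helper77.BPIdem Cfsg.Agent.Lib.Helper77.BPMax
  Cfsg.Agent.Lib.Helper77.BPMax2 Cfsg.Agent.Lib.Helper77.BPEquiv
  Cfsg.Agent.Lib.Helper77.BPEquiv2
  Cfsg.Agent.Lib.Helper77.BPTransport Cfsg.Agent.Lib.Helper77.BPConjMax
  Cfsg.Agent.Lib.CT.Wedderburn Cfsg.Agent.Lib.Helper16.ZR Cfsg.Agent.Lib.Helper33.Conj
  Cfsg.Agent.Lib.Helper16.MinMax

universe u
variable {G : Type u} [Group G] {M : Ideal AlgInt}

/-- **Existence of a normal superpair.**  If `R` is a `p`-subgroup with `Q ≤ R ≤ N_G(Q)` which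
stabilizes the block `f` of `C_G(Q)`, and the idempotent of `f` has a coefficient outside the local
ideal on `C_G(R)`, then `(Q, f) ⊴ (R, g)` for some block `g` of `C_G(R)`. -/
theorem exists_normalSuperpair [Finite G] {p : ℕ} [Fact p.Prime] (hM : IsPModular p M)
    {Q : Subgroup G} {f : Set (IrrCharacter (Subgroup.centralizer (Q : Set G)))}
    (hQf : IsBrauerPair p M Q f) (R : Subgroup G) (hR : IsPGroup p R) (hQR : Q ≤ R)
    (hRN : R ≤ Subgroup.normalizer (Q : Set G))
    (hst : ∀ x ∈ R, StabilizesBlock (Subgroup.centralizer (Q : Set G)) f x) (c : G)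
    (hc : c ∈ Subgroup.centralizer (R : Set G))
    (hcoef : ¬ MemLocalIdeal M ((ext (Subgroup.centralizer (Q : Set G)) (blockIdem f)).coeff c)) :
    ∃ g : Set (IrrCharacter (Subgroup.centralizer (R : Set G))), IsNormalSubpair p M Q f R g := by
  classical
  have hMp := isPrime_of_isPModular hM
  have hCC : Subgroup.centralizer (R : Set G) ≤ Subgroup.centralizer (Q : Set G) :=
    Subgroup.centralizer_le hQR
  have hRNC : R ≤ Subgroup.normalizer
      ((Subgroup.centralizer (Q : Set G) : Subgroup G) : Set G) :=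
    hRN.trans (normalizer_le_normalizer_centralizer Q)
  have hεp := ext_blockIdem_mem_pairSubring hMp _ R hRNC f hQf.2 hst
  obtain ⟨hε1, hε2, hε3, hε4⟩ := (mem_pairSubring hMp).mp hεp
  have hεε := ext_blockIdem_mul_self hM (Subgroup.centralizer (Q : Set G)) f hQf.2
  obtain ⟨ε, hεdef⟩ : ∃ ε : MonoidAlgebra ℂ G,
      ε = ext (Subgroup.centralizer (Q : Set G)) (blockIdem f) := ⟨_, rfl⟩
  rw [← hεdef] at hε1 hε2 hε3 hε4 hεε hcoef
  have huc : res (Subgroup.centralizer (R : Set G)) ε ∈ Zc (Subgroup.centralizer (R : Set G)) :=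
    res_mem_center _ (fixedSubring_mono hCC hε2)
  have huR : res (Subgroup.centralizer (R : Set G)) ε ∈ intSubring M hMp := fun h => hε4 (h : G)
  have hidem : ∀ h : Subgroup.centralizer (R : Set G), MemLocalIdeal M
      ((res (Subgroup.centralizer (R : Set G)) ε * res (Subgroup.centralizer (R : Set G)) ε -
        res (Subgroup.centralizer (R : Set G)) ε).coeff h) := by
    intro h
    have h1 := coeff_mul_sub_trunc hM R hR ε ε hε3 hε3 hε4 hε4 (h : G) h.2
    rw [hεε, ← ext_res, ← ext_mul, coeff_ext_of_mem] at h1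
    have h2 := memLocalIdeal_neg h1
    rw [neg_sub] at h2
    rw [MonoidAlgebra.coeff_sub]
    exact h2
  have hex : ∃ ζ : IrrCharacter (Subgroup.centralizer (R : Set G)), ¬ MemLocalIdeal M
      (omega (ζ : Subgroup.centralizer (R : Set G) → ℂ)
        (res (Subgroup.centralizer (R : Set G)) ε)) := by
    by_contra hn
    push Not at hn
    exact hcoef (coeff_mem_of_omega_mem hMp _ huc huR hidem hn ⟨c, hc⟩)
  obtain ⟨ζ, hnot⟩ := hex
  have haR : MemLocalRing M (omega (ζ : Subgroup.centralizer (R : Set G) → ℂ)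
      (res (Subgroup.centralizer (R : Set G)) ε)) :=
    om_memLocalRing hMp _ ζ.2 ε (fixedSubring_mono hCC hε2) hε4
  have h1 : MemLocalIdeal M (omega (ζ : Subgroup.centralizer (R : Set G) → ℂ)
        (res (Subgroup.centralizer (R : Set G)) ε) *
      (omega (ζ : Subgroup.centralizer (R : Set G) → ℂ)
        (res (Subgroup.centralizer (R : Set G)) ε) - 1)) := by
    have h2 := omega_memLocalIdeal hMp ζ.2 _
      (Subalgebra.sub_mem _ (Subalgebra.mul_mem _ huc huc) huc) hidem
    rw [omega_sub, omega_mul ζ.2 _ _ huc] at h2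
    convert h2 using 1
    ring
  have h3 := (memLocalIdeal_or_of_mul hMp haR h1).resolve_left hnot
  refine ⟨blockOf M (ζ : Subgroup.centralizer (R : Set G) → ℂ), hQf, ⟨hR, isPBlock_blockOf ζ⟩,
    hQR, hRN, hst, fun ζ' hζ' => ?_⟩
  rw [brauerOmega_eq, ofFun_subgroupBlockCoeff, ← hεdef]
  have a1 := om_sub_mem_of_sameBlock hMp _ ζ'.2 ζ.2
    (sameBlock_of_mem hMp (isPBlock_blockOf ζ) hζ' (mem_blockOf_self hMp ζ)) ε
    (fixedSubring_mono hCC hε2) hε4
  have a2 := memLocalIdeal_add hMp a1 h3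
  convert a2 using 1
  unfold om
  ring

/-- Between a pair and a subpair there is a pair on any intermediate subgroup normalizing the
smaller subgroup, and the subpair is a normal subpair of it. -/
theorem exists_mid [Finite G] {p : ℕ} [Fact p.Prime] (hM : IsPModular p M) {Q P : Subgroup G}
    {f : Set (IrrCharacter (Subgroup.centralizer (Q : Set G)))}
    {e : Set (IrrCharacter (Subgroup.centralizer (P : Set G)))} (hPe : IsBrauerPair p M P e)
    (hle : SubpairLE p M Q f P e) (R : Subgroup G) (hQR : Q ≤ R) (hRP : R ≤ P)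
    (hRN : R ≤ Subgroup.normalizer (Q : Set G)) :
    ∃ g : Set (IrrCharacter (Subgroup.centralizer (R : Set G))),
      IsNormalSubpair p M Q f R g ∧ SubpairLE p M R g P e := by
  obtain ⟨g, hg⟩ := exists_subpair hM P e hPe R hRP
  have hRg := isBrauerPair_of_le (p := p) (M := M) ⟨R, g⟩ ⟨P, e⟩ hg hPe
  obtain ⟨f', hf'⟩ := exists_normalSubpair hM R Q g hRg hQR hRN
  have hf'' : NormalSubpairRel p M ⟨Q, f'⟩ ⟨R, g⟩ := hf'
  have heq : f' = f :=
    subpair_unique hM _ P rfl e Q f' f hPe (Relation.ReflTransGen.head hf'' hg) hle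
  rw [heq] at hf'
  exact ⟨g, hf', hg⟩

/-- The idempotent of a subpair has a coefficient outside the local ideal on the centralizer of
any intermediate subgroup normalizing the smaller subgroup. -/
theorem exists_coeff_of_le [Finite G] {p : ℕ} [Fact p.Prime] (hM : IsPModular p M)
    {Q P : Subgroup G} {f : Set (IrrCharacter (Subgroup.centralizer (Q : Set G)))}
    {e : Set (IrrCharacter (Subgroup.centralizer (P : Set G)))} (hPe : IsBrauerPair p M P e)
    (hle : SubpairLE p M Q f P e) (R : Subgroup G) (hQR : Q ≤ R) (hRP : R ≤ P)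
    (hRN : R ≤ Subgroup.normalizer (Q : Set G)) :
    ∃ h ∈ Subgroup.centralizer (R : Set G),
      ¬ MemLocalIdeal M ((ext (Subgroup.centralizer (Q : Set G)) (blockIdem f)).coeff h) := by
  classical
  have hMp := isPrime_of_isPModular hM
  obtain ⟨g, hnorm, -⟩ := exists_mid hM hPe hle R hQR hRP hRN
  have hCC : Subgroup.centralizer (R : Set G) ≤ Subgroup.centralizer (Q : Set G) :=
    Subgroup.centralizer_le hQR
  by_contra hn
  push Not at hn
  obtain ⟨ζ, hζ⟩ := isPBlock_nonempty hMp hnorm.2.1.2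
  have h1 := hnorm.2.2.2.2.2 ζ hζ
  rw [brauerOmega_eq, ofFun_subgroupBlockCoeff] at h1
  have hε := ext_blockIdem_mem hMp (Subgroup.centralizer (Q : Set G)) f hnorm.1.2
  have h2 := om_memLocalIdeal hMp _ ζ.2 _ (fixedSubring_mono hCC hε.2.1) (fun h => hn h h.2)
  have h3 := memLocalIdeal_sub hMp h2 h1
  rw [sub_sub_cancel] at h3
  exact not_memLocalIdeal_one hMp h3

/-- A `p`-subgroup centralizing an element at which the block idempotent is a unit is contained
in a defect group. -/
theorem exists_defectGroup_ge {H : Type u} [Group H] [Finite H] {p : ℕ} [Fact p.Prime]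
    (hM : IsPModular p M) (f : Set (IrrCharacter H)) (hf : IsPBlock M f) (D₀ : Subgroup H)
    (hD₀ : IsPGroup p D₀) (h : H) (hh : ¬ MemLocalIdeal M (blockCoeff f h))
    (hD₀h : D₀ ≤ Subgroup.centralizer ({h} : Set H)) :
    ∃ D : Subgroup H, IsDefectGroup p M f D ∧ D₀ ≤ D := by
  obtain ⟨D₁, hD₁⟩ := exists_defectGroup hM f hf
  obtain ⟨g₀, hg₀, hsyl⟩ := isDefectGroup_iff.mp hD₁
  obtain ⟨x, hx⟩ := minmax_a hM f hf g₀ hg₀ D₁ hsyl h hh D₀ hD₀ hD₀h
  exact ⟨_, isDefectGroup_conj hD₁ x, hx⟩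

/-- For `(Q, f) ≤ (P, e)`: `C_P(Q)` is contained in a defect group of `f`. -/
theorem exists_defectGroup_ge_centralizer [Finite G] {p : ℕ} [Fact p.Prime]
    (hM : IsPModular p M) {Q P : Subgroup G}
    {f : Set (IrrCharacter (Subgroup.centralizer (Q : Set G)))}
    {e : Set (IrrCharacter (Subgroup.centralizer (P : Set G)))} (hPe : IsBrauerPair p M P e)
    (hle : SubpairLE p M Q f P e) :
    ∃ D : Subgroup (Subgroup.centralizer (Q : Set G)), IsDefectGroup p M f D ∧
      (P ⊓ Subgroup.centralizer (Q : Set G)).subgroupOf (Subgroup.centralizer (Q : Set G)) ≤ D := by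
  have hQP : Q ≤ P := le_of_subpairLE (p := p) (M := M) ⟨Q, f⟩ ⟨P, e⟩ hle
  have hQf := isBrauerPair_of_le (p := p) (M := M) ⟨Q, f⟩ ⟨P, e⟩ hle hPe
  obtain ⟨h, hh, hcoef⟩ := exists_coeff_of_le hM hPe hle
    (Q ⊔ (P ⊓ Subgroup.centralizer (Q : Set G))) le_sup_left (sup_le hQP inf_le_left)
    (sup_le Subgroup.le_normalizer (inf_le_right.trans (Subgroup.centralizer_le_normalizer _)))
  have hhQ : h ∈ Subgroup.centralizer (Q : Set G) := by
    rw [Subgroup.mem_centralizer_iff] at hh ⊢
    intro q hq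
    exact hh q (le_sup_left (a := Q) hq)
  refine exists_defectGroup_ge hM f hQf.2 _ ((hPe.1.to_le inf_le_left).comap_subtype) ⟨h, hhQ⟩
    ?_ ?_
  · rw [← coeff_blockIdem, ← coeff_ext_of_mem]
    exact hcoef
  · intro d hd
    rw [mem_centralizer_singleton]
    apply Subtype.ext
    have hd' : (d : G) ∈ Q ⊔ (P ⊓ Subgroup.centralizer (Q : Set G)) :=
      le_sup_right (a := Q) (Subgroup.mem_subgroupOf.mp hd)
    exact (Subgroup.mem_centralizer_iff.mp hh d hd').symm

/-- **Fully centralized subpairs.**  For a maximal Brauer pair `(P, e)` of `B` and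
`(Q, f) ≤ (P, e)`: if `|C_P(Q)|` is maximal among the conjugates of `(Q, f)` below `(P, e)`, then
`C_P(Q)` is a defect group of `f`. -/
theorem isDefectGroup_of_max [Finite G] {p : ℕ} [Fact p.Prime] (hM : IsPModular p M)
    {B : Set (IrrCharacter G)} {P : Subgroup G}
    {e : Set (IrrCharacter (Subgroup.centralizer (P : Set G)))}
    (hmax : IsMaximalBrauerPair p M B P e) {Q : Subgroup G}
    {f : Set (IrrCharacter (Subgroup.centralizer (Q : Set G)))} (hle : SubpairLE p M Q f P e)
    (hbig : ∀ y : G, SubpairLE p M (Q.map (MulAut.conj y).toMonoidHom) (conjBlock Q y f) P e →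
      Nat.card (P ⊓ Subgroup.centralizer
        ((Q.map (MulAut.conj y).toMonoidHom : Subgroup G) : Set G) : Subgroup G) ≤
        Nat.card (P ⊓ Subgroup.centralizer (Q : Set G) : Subgroup G)) :
    IsDefectGroup p M f
      ((P ⊓ Subgroup.centralizer (Q : Set G)).subgroupOf (Subgroup.centralizer (Q : Set G))) := by
  classical
  have hMp := isPrime_of_isPModular hM
  have hPe := hmax.1.1
  have hB := hmax.1.2.1
  have hQf := isBrauerPair_of_le (p := p) (M := M) ⟨Q, f⟩ ⟨P, e⟩ hle hPe
  obtain ⟨D, hD, hD₀⟩ := exists_defectGroup_ge_centralizer hM hPe hle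
  obtain ⟨c₀, hc₀, hsyl⟩ := isDefectGroup_iff.mp hD
  obtain ⟨Dt, hDt⟩ : ∃ Dt : Subgroup G,
      Dt = D.map (Subgroup.centralizer (Q : Set G)).subtype := ⟨_, rfl⟩
  have hDtC : Dt ≤ Subgroup.centralizer (Q : Set G) := by
    rw [hDt]
    exact Subgroup.map_subtype_le D
  have hDtp : IsPGroup p Dt := by
    rw [hDt]
    exact hsyl.2.1.map _
  have hRp : IsPGroup p (Q ⊔ Dt : Subgroup G) :=
    IsPGroup.to_sup_of_normal_left' hQf.1 hDtp (hDtC.trans (Subgroup.centralizer_le_normalizer _))
  have hRN : Q ⊔ Dt ≤ Subgroup.normalizer (Q : Set G) :=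
    sup_le Subgroup.le_normalizer (hDtC.trans (Subgroup.centralizer_le_normalizer _))
  have hRNC : Q ⊔ Dt ≤ Subgroup.normalizer
      ((Subgroup.centralizer (Q : Set G) : Subgroup G) : Set G) :=
    hRN.trans (normalizer_le_normalizer_centralizer Q)
  have hε := ext_blockIdem_mem hMp (Subgroup.centralizer (Q : Set G)) f hQf.2
  have hfixQ : ext (Subgroup.centralizer (Q : Set G)) (blockIdem f) ∈ fixedSubring Q := by
    rw [mem_fixedSubring]
    intro q hq g
    by_cases hg : g ∈ Subgroup.centralizer (Q : Set G)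
    · have h1 : q * g * q⁻¹ = g := by
        rw [Subgroup.mem_centralizer_iff.mp hg q hq, mul_inv_cancel_right]
      rw [h1]
    · have hg' : q * g * q⁻¹ ∉ Subgroup.centralizer (Q : Set G) := by
        intro hin
        apply hg
        have hqN := normalizer_le_normalizer_centralizer Q (Subgroup.le_normalizer hq)
        exact (Subgroup.mem_normalizer_iff.mp hqN g).mpr hin
      rw [hε.1 _ hg', hε.1 _ hg]
  have hfixR : ext (Subgroup.centralizer (Q : Set G)) (blockIdem f) ∈ fixedSubring (Q ⊔ Dt) :=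
    mem_fixedSubring_sup hfixQ (fixedSubring_mono hDtC hε.2.1)
  have hst : ∀ x ∈ Q ⊔ Dt, StabilizesBlock (Subgroup.centralizer (Q : Set G)) f x :=
    (forall_stabilizes_iff _ _ hRNC f).mpr hfixR
  have hcR : (c₀ : G) ∈ Subgroup.centralizer ((Q ⊔ Dt : Subgroup G) : Set G) := by
    have hle' : Q ⊔ Dt ≤ Subgroup.centralizer ({(c₀ : G)} : Set G) := by
      apply sup_le
      · intro q hq
        rw [mem_centralizer_singleton]
        exact (Subgroup.mem_centralizer_iff.mp c₀.2 q hq).symm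
      · rw [hDt]
        rintro _ ⟨d, hd, rfl⟩
        rw [mem_centralizer_singleton]
        have h1 := hsyl.1 hd
        rw [mem_centralizer_singleton] at h1
        exact congrArg Subtype.val h1
    rw [Subgroup.mem_centralizer_iff]
    intro r hr
    have h1 := hle' hr
    rw [mem_centralizer_singleton] at h1
    exact h1.symm
  have hcoef : ¬ MemLocalIdeal M
      ((ext (Subgroup.centralizer (Q : Set G)) (blockIdem f)).coeff (c₀ : G)) := by
    rw [coeff_ext_of_mem, coeff_blockIdem]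
    exact hc₀.2.1
  obtain ⟨g, hnorm⟩ := exists_normalSuperpair hM hQf (Q ⊔ Dt) hRp le_sup_left hRN hst c₀ hcR hcoef
  have hBQ : IsBrauerPairOf p M B Q f :=
    (isBrauerPairOf_iff_of_le hM B hB ⟨Q, f⟩ ⟨P, e⟩ hle).mp hmax.1
  have hBR : IsBrauerPairOf p M B (Q ⊔ Dt) g :=
    (isBrauerPairOf_iff_of_normal hM hnorm B hB).mpr hBQ
  obtain ⟨y, hy⟩ := exists_conj_le_of_maximal hM hmax hBR
  have hnorm' : NormalSubpairRel p M
      ⟨Q.map (MulAut.conj y).toMonoidHom, conjBlock Q y f⟩
      ⟨(Q ⊔ Dt).map (MulAut.conj y).toMonoidHom, conjBlock (Q ⊔ Dt) y g⟩ :=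
    isNormalSubpair_conj (M := M) y hnorm
  have hley : SubpairLE p M (Q.map (MulAut.conj y).toMonoidHom) (conjBlock Q y f) P e :=
    Relation.ReflTransGen.head hnorm' hy
  have h1 := hbig y hley
  have hRyP : (Q ⊔ Dt).map (MulAut.conj y).toMonoidHom ≤ P :=
    le_of_subpairLE (p := p) (M := M) ⟨_, _⟩ ⟨P, e⟩ hy
  have h2 : Dt.map (MulAut.conj y).toMonoidHom ≤ P ⊓ Subgroup.centralizer
      ((Q.map (MulAut.conj y).toMonoidHom : Subgroup G) : Set G) := by
    apply le_inf
    · exact (cj_mono le_sup_right).trans hRyP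
    · rw [centralizer_cj]
      exact cj_mono hDtC
  have hcard : Nat.card D ≤ Nat.card ((P ⊓ Subgroup.centralizer (Q : Set G)).subgroupOf
      (Subgroup.centralizer (Q : Set G))) := by
    calc Nat.card D = Nat.card Dt := by
          rw [hDt]
          exact (Subgroup.card_map_of_injective (Subgroup.subtype_injective _)).symm
      _ = Nat.card (Dt.map (MulAut.conj y).toMonoidHom) := (card_cj y Dt).symm
      _ ≤ Nat.card (P ⊓ Subgroup.centralizer
          ((Q.map (MulAut.conj y).toMonoidHom : Subgroup G) : Set G) : Subgroup G) :=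
        Subgroup.card_le_of_le h2
      _ ≤ Nat.card (P ⊓ Subgroup.centralizer (Q : Set G) : Subgroup G) := h1
      _ = Nat.card ((P ⊓ Subgroup.centralizer (Q : Set G)).subgroupOf
          (Subgroup.centralizer (Q : Set G))) :=
        (Nat.card_congr (Subgroup.subgroupOfEquivOfLe inf_le_right).toEquiv).symm
  rw [Subgroup.eq_of_le_of_card_ge hD₀ hcard]
  exact hD

/-- Some conjugate of `(Q, f)` below the maximal pair `(P, e)` has `C_P` of the subgroup as a
defect group of its block. -/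
theorem exists_conj_isDefectGroup [Finite G] {p : ℕ} [Fact p.Prime] (hM : IsPModular p M)
    {B : Set (IrrCharacter G)} {P : Subgroup G}
    {e : Set (IrrCharacter (Subgroup.centralizer (P : Set G)))}
    (hmax : IsMaximalBrauerPair p M B P e) {Q : Subgroup G}
    {f : Set (IrrCharacter (Subgroup.centralizer (Q : Set G)))} (hf : IsPBlock M f)
    (hle : SubpairLE p M Q f P e) :
    ∃ x : G, SubpairLE p M (Q.map (MulAut.conj x).toMonoidHom) (conjBlock Q x f) P e ∧
      IsDefectGroup p M (conjBlock Q x f)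
        ((P ⊓ Subgroup.centralizer ((Q.map (MulAut.conj x).toMonoidHom : Subgroup G) : Set G)
          ).subgroupOf
          (Subgroup.centralizer ((Q.map (MulAut.conj x).toMonoidHom : Subgroup G) : Set G))) := by
  have hMp := isPrime_of_isPModular hM
  have h1 : (1 : G) ∈ {x : G | SubpairLE p M (Q.map (MulAut.conj x).toMonoidHom)
      (conjBlock Q x f) P e} := by
    show Relation.ReflTransGen (NormalSubpairRel p M) (cjp 1 ⟨Q, f⟩) ⟨P, e⟩
    rw [cjp_one hMp ⟨Q, f⟩ hf]
    exact hle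
  obtain ⟨x, hx, hxmax⟩ := Set.exists_max_image
    {x : G | SubpairLE p M (Q.map (MulAut.conj x).toMonoidHom) (conjBlock Q x f) P e}
    (fun x => Nat.card (P ⊓ Subgroup.centralizer
      ((Q.map (MulAut.conj x).toMonoidHom : Subgroup G) : Set G) : Subgroup G))
    (Set.toFinite _) ⟨1, h1⟩
  refine ⟨x, hx, isDefectGroup_of_max hM hmax hx (fun y hy => ?_)⟩
  have hyx : y * x ∈ {x : G | SubpairLE p M (Q.map (MulAut.conj x).toMonoidHom)
      (conjBlock Q x f) P e} := by
    show Relation.ReflTransGen (NormalSubpairRel p M) (cjp (y * x) ⟨Q, f⟩) ⟨P, e⟩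
    rw [← cjp_mul hMp x y ⟨Q, f⟩ hf]
    exact hy
  have h2 := hxmax (y * x) hyx
  rw [cj_cj]
  exact h2

end Cfsg.Agent.Lib.Helper77.BPCent
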