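import Cfsg.Agent.Lib.Helper77.BPSub
import Cfsg.Agent.S4669

/-!
# Fusion of subpairs for abelian defect groups; rank lemmas

* `exists_mul_of_conj`: if `(P, e)` is a maximal Brauer pair with `P` abelian, `(Q, f)` and
  `(Q', f')` lie below `(P, e)` and `x` conjugates `(Q, f)` to `(Q', f')`, then `x = c * y` with
  `c ∈ C_G(Q')` and `y ∈ N_G(P, e)`.
* `blockRank_pull`: the `p`-regular rank is invariant under transport along a group isomorphism.
* `blockRank_pos`: a nonempty set of irreducible characters has positive `p`-regular rank.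
* `transport`: moving a set of characters along an equality of subgroups.
-/

set_option autoImplicit false

namespace Cfsg.Agent.Lib.Helper77.BPFus

open Cfsg Cfsg.Agent.Lib.Helper77.LocalRing Cfsg.Agent.Lib.Helper77.CentralChar
  Cfsg.Agent.Lib.Helper77.ClassSum Cfsg.Agent.Lib.Helper77.BlockIdem
  Cfsg.Agent.Lib.Helper77.OsimaVanish Cfsg.Agent.Lib.Helper77.IdemIn
  Cfsg.Agent.Lib.Helper77.BPBasic Cfsg.Agent.Lib.Helper77.BPBrauer
  Cfsg.Agent.Lib.Helper77.BPPairs Cfsg.Agent.Lib.Helper77.BPConj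
  Cfsg.Agent.Lib.Helper77.BPNormal Cfsg.Agent.Lib.Helper77.BPSubpair
  Cfsg.Agent.Lib.Helper77.BPIdem Cfsg.Agent.Lib.Helper77.BPMax
  Cfsg.Agent.Lib.Helper77.BPMax2 Cfsg.Agent.Lib.Helper77.BPEquiv
  Cfsg.Agent.Lib.Helper77.BPEquiv2
  Cfsg.Agent.Lib.Helper77.BPTransport Cfsg.Agent.Lib.Helper77.BPConjMax
  Cfsg.Agent.Lib.Helper77.BPCent Cfsg.Agent.Lib.Helper77.BPStab
  Cfsg.Agent.Lib.Helper77.BPNorm Cfsg.Agent.Lib.Helper77.BPFix
  Cfsg.Agent.Lib.Helper77.BPSub
  Cfsg.Agent.Lib.CT.Wedderburn Cfsg.Agent.Lib.Helper16.ZR Cfsg.Agent.Lib.Helper33.Conj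
  Cfsg.Agent.Lib.Helper16.MinMax

universe u
variable {G : Type u} [Group G] {M : Ideal AlgInt}

/-- **Abelian defect groups: fusion of subpairs.**  If `(P, e)` is a maximal Brauer pair with
`P` abelian, `(Q, f) ≤ (P, e)`, `(Q', f') ≤ (P, e)` and `x` conjugates `(Q, f)` to `(Q', f')`,
then `x` is a product of an element of `C_G(Q')` and an element of `N_G(P, e)`. -/
theorem exists_mul_of_conj [Finite G] {p : ℕ} [Fact p.Prime] (hM : IsPModular p M)
    {B : Set (IrrCharacter G)} {P : Subgroup G}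
    {e : Set (IrrCharacter (Subgroup.centralizer (P : Set G)))}
    (hmax : IsMaximalBrauerPair p M B P e) (hab : ∀ x ∈ P, ∀ y ∈ P, x * y = y * x)
    {Q Q' : Subgroup G} {f : Set (IrrCharacter (Subgroup.centralizer (Q : Set G)))}
    {f' : Set (IrrCharacter (Subgroup.centralizer (Q' : Set G)))}
    (hf : IsPBlock M f) (hf' : IsPBlock M f')
    (hle : SubpairLE p M Q f P e) (hle' : SubpairLE p M Q' f' P e) (x : G)
    (hx : cjp x ⟨Q, f⟩ = (⟨Q', f'⟩ : BrauerPairIdx G)) :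
    ∃ c ∈ Subgroup.centralizer (Q' : Set G), ∃ y ∈ Subgroup.normalizer (P : Set G),
      StabilizesBlock (Subgroup.centralizer (P : Set G)) e y ∧ x = c * y := by
  classical
  have hMp := isPrime_of_isPModular hM
  have hPe := hmax.1.1
  have hQP : Q' ≤ P := le_of_subpairLE (p := p) (M := M) ⟨Q', f'⟩ ⟨P, e⟩ hle'
  have hPC : P ≤ Subgroup.centralizer (Q' : Set G) := by
    intro u hu
    rw [Subgroup.mem_centralizer_iff]
    intro q hq
    exact hab q (hQP hq) u hu
  have hle₂ : Relation.ReflTransGen (NormalSubpairRel p M) ⟨Q', f'⟩ (cjp x ⟨P, e⟩) := by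
    have h1 := subpairLE_conj (M := M) x hle
    rwa [hx] at h1
  have hPe₂ : IsBrauerPair p M (P.map (MulAut.conj x).toMonoidHom) (conjBlock P x e) :=
    isBrauerPair_conj P x hPe
  have hPxC : P.map (MulAut.conj x).toMonoidHom ≤ Subgroup.centralizer (Q' : Set G) := by
    intro u hu
    rw [Subgroup.mem_centralizer_iff]
    intro q hq
    have hq' : q ∈ P.map (MulAut.conj x).toMonoidHom :=
      le_of_subpairLE (p := p) (M := M) ⟨Q', f'⟩ (cjp x ⟨P, e⟩) hle₂ hq
    obtain ⟨u₀, hu₀, rfl⟩ := hu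
    obtain ⟨q₀, hq₀, rfl⟩ := hq'
    have h1 := hab q₀ hq₀ u₀ hu₀
    show x * q₀ * x⁻¹ * (x * u₀ * x⁻¹) = x * u₀ * x⁻¹ * (x * q₀ * x⁻¹)
    calc x * q₀ * x⁻¹ * (x * u₀ * x⁻¹) = x * (q₀ * u₀) * x⁻¹ := by group
      _ = x * (u₀ * q₀) * x⁻¹ := by rw [h1]
      _ = x * u₀ * x⁻¹ * (x * q₀ * x⁻¹) := by group
  have hD₁ := isDefectGroup_of_le_centralizer hM hmax hle' hPC
  obtain ⟨D₂, hD₂, hD₂le⟩ := exists_defectGroup_ge_centralizer hM hPe₂ hle₂
  obtain ⟨c₁, hc₁⟩ := defectGroup_conj hM f' hf' hD₁ hD₂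
  have hsub : P.map (MulAut.conj x).toMonoidHom ≤ P.map (MulAut.conj (c₁ : G)).toMonoidHom := by
    intro u hu
    have h1 : (⟨u, hPxC hu⟩ : Subgroup.centralizer (Q' : Set G)) ∈ D₂ :=
      hD₂le (Subgroup.mem_subgroupOf.mpr ⟨hu, hPxC hu⟩)
    rw [hc₁, mem_cj] at h1
    rw [mem_cj]
    exact Subgroup.mem_subgroupOf.mp h1
  have heq : P.map (MulAut.conj x).toMonoidHom = P.map (MulAut.conj (c₁ : G)).toMonoidHom :=
    Subgroup.eq_of_le_of_card_ge hsub (by rw [card_cj, card_cj])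
  obtain ⟨y₁, hy₁⟩ : ∃ y₁ : G, y₁ = (c₁ : G)⁻¹ * x := ⟨_, rfl⟩
  have hy₁N : y₁ ∈ Subgroup.normalizer (P : Set G) := by
    rw [mem_normalizer_iff_cj_eq, hy₁, ← cj_cj, heq, cj_inv_cj]
  have hfix₁ : cjp y₁ ⟨Q, f⟩ = (⟨Q', f'⟩ : BrauerPairIdx G) := by
    rw [hy₁, ← cjp_mul hMp x (c₁ : G)⁻¹ ⟨Q, f⟩ hf, hx]
    exact cjp_eq_self (Subgroup.centralizer_le_normalizer _ (inv_mem c₁.2))
      (stabilizes_of_mem_centralizer Q' f' (inv_mem c₁.2))
  have hle₃ : Relation.ReflTransGen (NormalSubpairRel p M) ⟨Q', f'⟩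
      ⟨P, conjB (Subgroup.centralizer (P : Set G)) y₁
        (normalizer_le_normalizer_centralizer P hy₁N) e⟩ := by
    have h1 := subpairLE_conj (M := M) y₁ hle
    rwa [hfix₁, cjp_eq_conjB hy₁N] at h1
  have hPe₃ : IsBrauerPair p M P (conjB (Subgroup.centralizer (P : Set G)) y₁
      (normalizer_le_normalizer_centralizer P hy₁N) e) :=
    ⟨hPe.1, isPBlock_conjB _ _ _ hPe.2⟩
  have hnorm₃ := isNormalSubpair_of_le hM hPe₃ hle₃
    (hPC.trans (Subgroup.centralizer_le_normalizer _))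
  obtain ⟨n, hnC, hnN, hn⟩ := exists_conj_of_normal hM hmax hle' hPC _ hnorm₃
  rw [← conjA_ext_blockIdem] at hn
  refine ⟨(c₁ : G) * n, mul_mem c₁.2 hnC, n⁻¹ * y₁, mul_mem (inv_mem hnN) hy₁N, ?_, ?_⟩
  · rw [stabilizesBlock_iff_conjA _ _ (normalizer_le_normalizer_centralizer P
      (mul_mem (inv_mem hnN) hy₁N)), conjA_mul, hn, conjA_inv_cancel]
  · rw [hy₁]
    group

/-! ### The `p`-regular rank -/

theorem pRegularPart_pull {H K : Type*} [Group H] [Group K] (p : ℕ) (φ : H ≃* K)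
    (χ : IrrCharacter K) :
    pRegularPart p (pull φ χ : H → ℂ) = fun h => pRegularPart p (χ : K → ℂ) (φ h) := by
  funext h
  have hord : orderOf (φ h) = orderOf h := MulEquiv.orderOf_eq φ h
  unfold pRegularPart
  by_cases h1 : IsPRegular p h
  · have h2 : IsPRegular p (φ h) := by
      unfold IsPRegular at h1 ⊢
      rwa [hord]
    rw [if_pos h1, if_pos h2, pull_apply]
  · have h2 : ¬ IsPRegular p (φ h) := by
      unfold IsPRegular at h1 ⊢
      rwa [hord]
    rw [if_neg h1, if_neg h2]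

/-- The `p`-regular rank is invariant under transport along a group isomorphism. -/
theorem blockRank_pull {H K : Type*} [Group H] [Group K] (p : ℕ) (φ : H ≃* K)
    (b : Set (IrrCharacter K)) : blockRank p (pull φ '' b) = blockRank p b := by
  unfold blockRank
  obtain ⟨L, hL⟩ : ∃ L : (K → ℂ) ≃ₗ[ℂ] (H → ℂ), ∀ F : K → ℂ, L F = fun h => F (φ h) :=
    ⟨LinearEquiv.funCongrLeft ℂ ℂ φ.toEquiv, fun F => rfl⟩
  have himg : (fun χ : IrrCharacter H => pRegularPart p (χ : H → ℂ)) '' (pull φ '' b) =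
      L '' ((fun χ : IrrCharacter K => pRegularPart p (χ : K → ℂ)) '' b) := by
    rw [Set.image_image, Set.image_image]
    apply Set.image_congr
    intro χ _
    rw [pRegularPart_pull, hL]
  rw [himg]
  have hspan : Submodule.span ℂ (L '' ((fun χ : IrrCharacter K => pRegularPart p (χ : K → ℂ)) '' b)) =
      (Submodule.span ℂ ((fun χ : IrrCharacter K => pRegularPart p (χ : K → ℂ)) '' b)).map
        (L : (K → ℂ) →ₗ[ℂ] (H → ℂ)) := by
    rw [Submodule.map_span]
    rfl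
  rw [hspan]
  exact LinearEquiv.finrank_map_eq L _

/-- A nonempty set of irreducible characters of a finite group has positive `p`-regular rank. -/
theorem blockRank_pos {H : Type*} [Group H] [Finite H] (p : ℕ) [Fact p.Prime]
    {b : Set (IrrCharacter H)} {ψ : IrrCharacter H} (hψ : ψ ∈ b) : 1 ≤ blockRank p b := by
  have h1 := Cfsg.Agent.S4669.blockRank_singleton p ψ
  rw [← h1]
  unfold blockRank
  apply Submodule.finrank_mono
  apply Submodule.span_mono
  apply Set.image_mono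
  exact Set.singleton_subset_iff.mpr hψ

/-- Transport of a set of irreducible characters along an equality of subgroups. -/
theorem transport {p : ℕ} (B : Set (IrrCharacter G)) {K K' : Subgroup G} (h : K = K')
    (b : Set (IrrCharacter K)) :
    ∃ b' : Set (IrrCharacter K'), HEq b b' ∧
      (IsInducedBlock M K b B → IsInducedBlock M K' b' B) ∧
      (∀ D : Subgroup G, IsDefectGroup p M b (D.subgroupOf K) →
        IsDefectGroup p M b' (D.subgroupOf K')) ∧
      blockRank p b' = blockRank p b := by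
  subst h
  exact ⟨b, HEq.rfl, id, fun _ => id, rfl⟩

end Cfsg.Agent.Lib.Helper77.BPFus
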