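import Mathlib
import Cfsg.Prelude.Def_BlockFusion
import Cfsg.Agent.Lib.Helper77.BPCent

/-!
# The fusion system of a block: fully centralized and centric subgroups
-/

set_option autoImplicit false

namespace Cfsg.Agent.Lib.Helper77.BPFusion

open Cfsg Cfsg.Agent.Lib.Helper77.LocalRing Cfsg.Agent.Lib.Helper77.CentralChar
  Cfsg.Agent.Lib.Helper77.ClassSum Cfsg.Agent.Lib.Helper77.BlockIdem
  Cfsg.Agent.Lib.Helper77.BPBasic Cfsg.Agent.Lib.Helper77.BPBrauer
  Cfsg.Agent.Lib.Helper77.BPPairs Cfsg.Agent.Lib.Helper77.BPConj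
  Cfsg.Agent.Lib.Helper77.BPNormal Cfsg.Agent.Lib.Helper77.BPSubpair
  Cfsg.Agent.Lib.Helper77.BPEquiv
  Cfsg.Agent.Lib.Helper77.BPEquiv2
  Cfsg.Agent.Lib.Helper77.BPTransport Cfsg.Agent.Lib.Helper77.BPConjMax
  Cfsg.Agent.Lib.Helper77.BPCent
  Cfsg.Agent.Lib.CT.Wedderburn Cfsg.Agent.Lib.Helper16.ZR Cfsg.Agent.Lib.Helper33.Conj
  Cfsg.Agent.Lib.Helper16.MinMax

universe u
variable {G : Type u} [Group G] {M : Ideal AlgInt}

theorem range_conj_eq {Q : Subgroup G} (φ : Q →* G) (g : G)
    (hg : ∀ u : Q, φ u = g * (u : G) * g⁻¹) : φ.range = Q.map (MulAut.conj g).toMonoidHom := by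
  ext y
  rw [MonoidHom.mem_range, mem_cj]
  constructor
  · rintro ⟨u, rfl⟩
    rw [hg]
    have h1 : g⁻¹ * (g * (u : G) * g⁻¹) * g = u := by group
    rw [h1]
    exact u.2
  · intro hy
    refine ⟨⟨g⁻¹ * y * g, hy⟩, ?_⟩
    rw [hg]
    group

/-- Conjugacy in the fusion system of a block. -/
theorem isConj_iff [Finite G] {p : ℕ} [Fact p.Prime] (hM : IsPModular p M)
    {B : Set (IrrCharacter G)} {P : Subgroup G}
    {e : Set (IrrCharacter (Subgroup.centralizer (P : Set G)))} (F : FusionSystem P)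
    (hF : IsBlockFusionSystemOn p M B P e F) {Q : Subgroup G}
    {f : Set (IrrCharacter (Subgroup.centralizer (Q : Set G)))} (hQP : Q ≤ P)
    (hle : SubpairLE p M Q f P e) (Q₂ : Subgroup G) :
    F.IsConj Q Q₂ ↔ ∃ g : G, Q₂ = Q.map (MulAut.conj g).toMonoidHom ∧
      SubpairLE p M (Q.map (MulAut.conj g).toMonoidHom) (conjBlock Q g f) P e := by
  constructor
  · rintro ⟨φ, hφ, hrange⟩
    rw [hF.2 Q φ] at hφ
    obtain ⟨-, g, hg, -, f₁, hf₁, hf₁g⟩ := hφ
    have hff : f₁ = f := subpair_unique hM _ P rfl e Q f₁ f hF.1.1.1 hf₁ hle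
    rw [hff] at hf₁g
    exact ⟨g, by rw [← hrange]; exact range_conj_eq φ g hg, hf₁g⟩
  · rintro ⟨g, rfl, hg⟩
    refine ⟨conjHom Q g, ?_, range_conj_eq _ g (fun _ => rfl)⟩
    rw [hF.2 Q]
    exact ⟨hQP, g, fun _ => rfl, le_of_subpairLE (p := p) (M := M) ⟨_, _⟩ ⟨P, e⟩ hg, f, hle, hg⟩

theorem card_subgroupOf_inf (P C : Subgroup G) :
    Nat.card ((P ⊓ C).subgroupOf C) = Nat.card (P ⊓ C : Subgroup G) :=
  Nat.card_congr (Subgroup.subgroupOfEquivOfLe inf_le_right).toEquiv

/-- **Fully centralized subgroups** of the fusion system of a block. -/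
theorem isFullyCentralized_iff [Finite G] {p : ℕ} [Fact p.Prime] (hM : IsPModular p M)
    {B : Set (IrrCharacter G)} {P : Subgroup G}
    {e : Set (IrrCharacter (Subgroup.centralizer (P : Set G)))}
    (hmax : IsMaximalBrauerPair p M B P e) (F : FusionSystem P)
    (hF : IsBlockFusionSystemOn p M B P e F) {Q : Subgroup G}
    {f : Set (IrrCharacter (Subgroup.centralizer (Q : Set G)))} (hQP : Q ≤ P)
    (hf : IsPBlock M f) (hle : SubpairLE p M Q f P e) :
    F.IsFullyCentralized Q ↔ IsDefectGroup p M f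
      ((P ⊓ Subgroup.centralizer (Q : Set G)).subgroupOf (Subgroup.centralizer (Q : Set G))) := by
  constructor
  · rintro ⟨-, hfc⟩
    apply isDefectGroup_of_max hM hmax hle
    intro y hy
    exact hfc _ ((isConj_iff hM F hF hQP hle _).mpr ⟨y, rfl, hy⟩)
  · intro hD
    refine ⟨hQP, fun Q₂ hconj => ?_⟩
    obtain ⟨g, rfl, hg⟩ := (isConj_iff hM F hF hQP hle _).mp hconj
    obtain ⟨D₂, hD₂, hle₂⟩ := exists_defectGroup_ge_centralizer hM hmax.1.1 hg
    have hcard : Nat.card D₂ = Nat.card ((P ⊓ Subgroup.centralizer (Q : Set G)).subgroupOf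
        (Subgroup.centralizer (Q : Set G))) :=
      card_defectGroup_pull hM (cIso Q g).symm hf hD (D' := D₂)
        (by rw [← conjBlock_eq]; exact hD₂)
    calc Nat.card (FusionSystem.centralizerIn P (Q.map (MulAut.conj g).toMonoidHom))
        = Nat.card ((P ⊓ Subgroup.centralizer
            ((Q.map (MulAut.conj g).toMonoidHom : Subgroup G) : Set G)).subgroupOf
            (Subgroup.centralizer ((Q.map (MulAut.conj g).toMonoidHom : Subgroup G) : Set G))) :=
          (card_subgroupOf_inf _ _).symm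
      _ ≤ Nat.card D₂ := Subgroup.card_le_of_le hle₂
      _ = Nat.card ((P ⊓ Subgroup.centralizer (Q : Set G)).subgroupOf
            (Subgroup.centralizer (Q : Set G))) := hcard
      _ = Nat.card (FusionSystem.centralizerIn P Q) := card_subgroupOf_inf _ _

/-- **Centric subgroups** of the fusion system of a block. -/
theorem isCentric_iff [Finite G] {p : ℕ} [Fact p.Prime] (hM : IsPModular p M)
    {B : Set (IrrCharacter G)} {P : Subgroup G}
    {e : Set (IrrCharacter (Subgroup.centralizer (P : Set G)))}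
    (hmax : IsMaximalBrauerPair p M B P e) (F : FusionSystem P)
    (hF : IsBlockFusionSystemOn p M B P e F) {Q : Subgroup G}
    {f : Set (IrrCharacter (Subgroup.centralizer (Q : Set G)))} (hQP : Q ≤ P)
    (hf : IsPBlock M f) (hle : SubpairLE p M Q f P e) :
    F.IsCentric Q ↔ IsDefectGroup p M f
      ((Q ⊓ Subgroup.centralizer (Q : Set G)).subgroupOf (Subgroup.centralizer (Q : Set G))) := by
  have hMp := isPrime_of_isPModular hM
  have hZ : ∀ g : G, Nat.card (Q.map (MulAut.conj g).toMonoidHom ⊓ Subgroup.centralizer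
      ((Q.map (MulAut.conj g).toMonoidHom : Subgroup G) : Set G) : Subgroup G) =
      Nat.card (Q ⊓ Subgroup.centralizer (Q : Set G) : Subgroup G) := by
    intro g
    rw [centralizer_cj, ← cj_inf, card_cj]
  have hself : F.IsConj Q Q := by
    rw [isConj_iff hM F hF hQP hle]
    refine ⟨1, (cj_one Q).symm, ?_⟩
    show Relation.ReflTransGen (NormalSubpairRel p M) (cjp 1 ⟨Q, f⟩) ⟨P, e⟩
    rw [cjp_one hMp ⟨Q, f⟩ hf]
    exact hle
  constructor
  · rintro ⟨-, hcen⟩
    have hfc : F.IsFullyCentralized Q := by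
      refine ⟨hQP, fun Q₂ hconj => ?_⟩
      have h1 := hcen Q₂ hconj
      have h2 := hcen Q hself
      obtain ⟨g, rfl, hg⟩ := (isConj_iff hM F hF hQP hle _).mp hconj
      have h3 : FusionSystem.centralizerIn P (Q.map (MulAut.conj g).toMonoidHom) ≤
          Q.map (MulAut.conj g).toMonoidHom ⊓ Subgroup.centralizer
            ((Q.map (MulAut.conj g).toMonoidHom : Subgroup G) : Set G) :=
        le_inf h1 inf_le_right
      have h4 : Q ⊓ Subgroup.centralizer (Q : Set G) ≤ FusionSystem.centralizerIn P Q :=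
        le_inf (inf_le_left.trans hQP) inf_le_right
      calc Nat.card (FusionSystem.centralizerIn P (Q.map (MulAut.conj g).toMonoidHom))
          ≤ Nat.card (Q.map (MulAut.conj g).toMonoidHom ⊓ Subgroup.centralizer
            ((Q.map (MulAut.conj g).toMonoidHom : Subgroup G) : Set G) : Subgroup G) :=
            Subgroup.card_le_of_le h3
        _ = Nat.card (Q ⊓ Subgroup.centralizer (Q : Set G) : Subgroup G) := hZ g
        _ ≤ Nat.card (FusionSystem.centralizerIn P Q) := Subgroup.card_le_of_le h4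
    have hD := (isFullyCentralized_iff hM hmax F hF hQP hf hle).mp hfc
    have heq : Q ⊓ Subgroup.centralizer (Q : Set G) = P ⊓ Subgroup.centralizer (Q : Set G) :=
      le_antisymm (le_inf (inf_le_left.trans hQP) inf_le_right)
        (le_inf (hcen Q hself) inf_le_right)
    rw [heq]
    exact hD
  · intro hD
    refine ⟨hQP, fun Q₂ hconj => ?_⟩
    obtain ⟨g, rfl, hg⟩ := (isConj_iff hM F hF hQP hle _).mp hconj
    obtain ⟨D₂, hD₂, hle₂⟩ := exists_defectGroup_ge_centralizer hM hmax.1.1 hg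
    have hcard : Nat.card D₂ = Nat.card ((Q ⊓ Subgroup.centralizer (Q : Set G)).subgroupOf
        (Subgroup.centralizer (Q : Set G))) :=
      card_defectGroup_pull hM (cIso Q g).symm hf hD (D' := D₂)
        (by rw [← conjBlock_eq]; exact hD₂)
    have hQgP : Q.map (MulAut.conj g).toMonoidHom ≤ P :=
      le_of_subpairLE (p := p) (M := M) ⟨_, _⟩ ⟨P, e⟩ hg
    have h5 : Q.map (MulAut.conj g).toMonoidHom ⊓ Subgroup.centralizer
        ((Q.map (MulAut.conj g).toMonoidHom : Subgroup G) : Set G) ≤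
        FusionSystem.centralizerIn P (Q.map (MulAut.conj g).toMonoidHom) :=
      le_inf (inf_le_left.trans hQgP) inf_le_right
    have h6 : Nat.card (FusionSystem.centralizerIn P (Q.map (MulAut.conj g).toMonoidHom)) ≤
        Nat.card (Q.map (MulAut.conj g).toMonoidHom ⊓ Subgroup.centralizer
          ((Q.map (MulAut.conj g).toMonoidHom : Subgroup G) : Set G) : Subgroup G) := by
      calc Nat.card (FusionSystem.centralizerIn P (Q.map (MulAut.conj g).toMonoidHom))
          = Nat.card ((P ⊓ Subgroup.centralizer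
              ((Q.map (MulAut.conj g).toMonoidHom : Subgroup G) : Set G)).subgroupOf
              (Subgroup.centralizer ((Q.map (MulAut.conj g).toMonoidHom : Subgroup G) : Set G))) :=
            (card_subgroupOf_inf _ _).symm
        _ ≤ Nat.card D₂ := Subgroup.card_le_of_le hle₂
        _ = Nat.card ((Q ⊓ Subgroup.centralizer (Q : Set G)).subgroupOf
              (Subgroup.centralizer (Q : Set G))) := hcard
        _ = Nat.card (Q ⊓ Subgroup.centralizer (Q : Set G) : Subgroup G) :=
            card_subgroupOf_inf _ _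
        _ = _ := (hZ g).symm
    have h7 := Subgroup.eq_of_le_of_card_ge h5 h6
    rw [← h7]
    exact inf_le_left

end Cfsg.Agent.Lib.Helper77.BPFusion
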