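import Cfsg.Agent.Lib.Helper77.BPAb

/-!
# Klein four defect groups: the inertial quotient

For a maximal Brauer pair `(P, c)` of a 2-block with `P` a Klein four group and `T = N_G(P, c)`:
the index `|T : C_G(P)|` is `1` or `3`, an element of `T` fixing a non-identity element of `P`
centralizes `P`, and if the index is not `1` then `T` is transitive on `P ∖ 1`.
-/

set_option autoImplicit false

namespace Cfsg.Agent.Lib.Helper77.BPKlein1

open Cfsg Cfsg.Agent.Lib.Helper77.LocalRing Cfsg.Agent.Lib.Helper77.BPFix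

universe u
variable {G : Type u} [Group G] {M : Ideal AlgInt}

theorem klein_elems {P : Subgroup G} (hV : IsKleinFour P) :
    (∀ v ∈ P, v * v = 1) ∧ (∀ v ∈ P, ∀ w ∈ P, v * w = w * v) ∧ (∃ x ∈ P, x ≠ 1) ∧
    ∀ x ∈ P, x ≠ 1 → ∃ y ∈ P, y ≠ 1 ∧ y ≠ x ∧ ∀ v ∈ P, v = 1 ∨ v = x ∨ v = y ∨ v = x * y := by
  classical
  haveI := hV
  have hsq : ∀ v ∈ P, v * v = 1 := by
    intro v hv
    have h1 := IsKleinFour.mul_self (⟨v, hv⟩ : P)
    exact congrArg Subtype.val h1
  have hcomm : ∀ v ∈ P, ∀ w ∈ P, v * w = w * v := by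
    intro v hv w hw
    have h1 := hsq (v * w) (mul_mem hv hw)
    have h2 := hsq v hv
    have h3 := hsq w hw
    calc v * w = (v * w)⁻¹ := (inv_eq_of_mul_eq_one_left h1).symm
      _ = w⁻¹ * v⁻¹ := mul_inv_rev v w
      _ = w * v := by rw [inv_eq_of_mul_eq_one_left h3, inv_eq_of_mul_eq_one_left h2]
  haveI : Finite P := Nat.finite_of_card_ne_zero (by rw [IsKleinFour.card_four]; norm_num)
  haveI : Fintype P := Fintype.ofFinite P
  have hcard : Fintype.card P = 4 := by
    rw [← Nat.card_eq_fintype_card]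
    exact IsKleinFour.card_four
  refine ⟨hsq, hcomm, ?_, ?_⟩
  · obtain ⟨b, hb⟩ := Fintype.exists_ne_of_one_lt_card (by rw [hcard]; norm_num) (1 : P)
    exact ⟨b, b.2, fun h => hb (Subtype.ext h)⟩
  intro x hx hx1
  obtain ⟨y, hy⟩ : ∃ y : P, y ∉ ({1, ⟨x, hx⟩} : Finset P) := by
    by_contra hcon
    push Not at hcon
    have h1 : (Finset.univ : Finset P) ⊆ {1, ⟨x, hx⟩} := fun y _ => hcon y
    have h2 := Finset.card_le_card h1
    rw [Finset.card_univ, hcard] at h2
    have h3 := Finset.card_le_two (a := (1 : P)) (b := ⟨x, hx⟩)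
    omega
  rw [Finset.mem_insert, Finset.mem_singleton, not_or] at hy
  have hx1' : (⟨x, hx⟩ : P) ≠ 1 := fun h => hx1 (congrArg Subtype.val h)
  have huniv := IsKleinFour.eq_finset_univ hx1' hy.1 (Ne.symm hy.2)
  refine ⟨y, y.2, fun h => hy.1 (Subtype.ext h), fun h => hy.2 (Subtype.ext h), ?_⟩
  intro v hv
  have h1 : (⟨v, hv⟩ : P) ∈ (Finset.univ : Finset P) := Finset.mem_univ _
  rw [← huniv] at h1
  simp only [Finset.mem_insert, Finset.mem_singleton] at h1
  rcases h1 with h | h | h | h
  · right; right; right; exact congrArg Subtype.val h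
  · right; left; exact congrArg Subtype.val h
  · right; right; left; exact congrArg Subtype.val h
  · left; exact congrArg Subtype.val h

/-- The inertial quotient of a block with Klein four defect group. -/
theorem inertial [Finite G] (hM : IsPModular 2 M) {B : Set (IrrCharacter G)} {P : Subgroup G}
    {c : Set (IrrCharacter (Subgroup.centralizer (P : Set G)))}
    (hmax : IsMaximalBrauerPair 2 M B P c) (hV : IsKleinFour P) (T : Subgroup G)
    (hT : ∀ g : G, g ∈ T ↔ (g ∈ Subgroup.normalizer (P : Set G) ∧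
      StabilizesBlock (Subgroup.centralizer (P : Set G)) c g)) :
    ((Subgroup.centralizer (P : Set G)).relIndex T = 1 ∨
      (Subgroup.centralizer (P : Set G)).relIndex T = 3) ∧
    (∀ t ∈ T, ∀ x ∈ P, x ≠ 1 → t * x * t⁻¹ = x → t ∈ Subgroup.centralizer (P : Set G)) ∧
    ((Subgroup.centralizer (P : Set G)).relIndex T ≠ 1 →
      ∀ u ∈ P, u ≠ 1 → ∀ v ∈ P, v ≠ 1 → ∃ t ∈ T, t * v * t⁻¹ = u) := by
  classical
  haveI : Fact (Nat.Prime 2) := ⟨Nat.prime_two⟩
  obtain ⟨hsq, hcomm, ⟨x₀, hx₀, hx₀1⟩, helems⟩ := klein_elems hV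
  have hPC : P ≤ Subgroup.centralizer (P : Set G) := by
    intro u hu
    rw [Subgroup.mem_centralizer_iff]
    intro q hq
    exact hcomm q hq u hu
  have hTN : ∀ t ∈ T, ∀ v ∈ P, t * v * t⁻¹ ∈ P := by
    intro t ht v hv
    exact (Subgroup.mem_normalizer_iff.mp ((hT t).mp ht).1 v).mp hv
  -- 2-elements of `T` centralize `P`
  have h2elt : ∀ t ∈ T, ∀ k : ℕ, t ^ (2 ^ k) = 1 → t ∈ Subgroup.centralizer (P : Set G) := by
    intro t ht k hk
    obtain ⟨u, hu, huc⟩ := mem_mul_of_maximal hM hmax t ((hT t).mp ht).1 ((hT t).mp ht).2 k hk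
    have h1 : t = u * (u⁻¹ * t) := by group
    rw [h1]
    exact mul_mem (hPC hu) huc
  -- an element of `T` whose square centralizes `P` centralizes `P`
  have hsqC : ∀ t ∈ T, t * t ∈ Subgroup.centralizer (P : Set G) →
      t ∈ Subgroup.centralizer (P : Set G) := by
    intro t ht htt
    have hn : orderOf t ≠ 0 := (orderOf_pos t).ne'
    obtain ⟨k, m, hm, hkm⟩ := Nat.exists_eq_two_pow_mul_odd hn
    have h1 : (t ^ m) ^ (2 ^ k) = 1 := by
      rw [← pow_mul, mul_comm, ← hkm, pow_orderOf_eq_one]
    have h2 := h2elt (t ^ m) (pow_mem ht m) k h1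
    obtain ⟨j, hj⟩ := hm
    have h3 : t = ((t * t) ^ j)⁻¹ * t ^ m := by
      rw [hj, pow_succ, pow_mul, pow_two]
      group
    rw [h3]
    exact mul_mem (inv_mem (pow_mem htt j)) h2
  -- freeness
  have hfree : ∀ t ∈ T, ∀ x ∈ P, x ≠ 1 → t * x * t⁻¹ = x →
      t ∈ Subgroup.centralizer (P : Set G) := by
    intro t ht x hx hx1 htx
    obtain ⟨y, hy, hy1, hyx, hall⟩ := helems x hx hx1
    have hcx : t * x = x * t := by
      calc t * x = t * x * t⁻¹ * t := by group
        _ = x * t := by rw [htx]
    apply hsqC t ht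
    rw [Subgroup.mem_centralizer_iff]
    have hcy : y * (t * t) = (t * t) * y := by
      rcases hall (t * y * t⁻¹) (hTN t ht y hy) with h | h | h | h
      · exfalso
        apply hy1
        have h5 : y = t⁻¹ * (t * y * t⁻¹) * t := by group
        rw [h5, h]
        group
      · exfalso
        apply hyx
        calc y = t⁻¹ * (t * y * t⁻¹) * t := by group
          _ = t⁻¹ * (t * x * t⁻¹) * t := by rw [h, htx]
          _ = x := by group
      · have h1 : t * y = y * t := by
          calc t * y = t * y * t⁻¹ * t := by group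
            _ = y * t := by rw [h]
        calc y * (t * t) = (y * t) * t := by group
          _ = (t * y) * t := by rw [h1]
          _ = t * (y * t) := by group
          _ = t * (t * y) := by rw [h1]
          _ = t * t * y := by group
      · have h1 : t * y = x * y * t := by
          calc t * y = t * y * t⁻¹ * t := by group
            _ = x * y * t := by rw [h]
        have hxx := hsq x hx
        calc y * (t * t) = (x * x) * y * t * t := by rw [hxx]; group
          _ = x * (x * y * t) * t := by group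
          _ = x * (t * y) * t := by rw [h1]
          _ = (x * t) * y * t := by group
          _ = (t * x) * y * t := by rw [hcx]
          _ = t * (x * y * t) := by group
          _ = t * (t * y) := by rw [h1]
          _ = t * t * y := by group
    have hcxx : x * (t * t) = (t * t) * x := by
      calc x * (t * t) = (x * t) * t := by group
        _ = (t * x) * t := by rw [hcx]
        _ = t * (x * t) := by group
        _ = t * (t * x) := by rw [hcx]
        _ = t * t * x := by group
    intro v hv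
    rcases hall v hv with h | h | h | h
    · rw [h]
      group
    · rw [h]
      exact hcxx
    · rw [h]
      exact hcy
    · rw [h]
      calc x * y * (t * t) = x * (y * (t * t)) := by group
        _ = x * ((t * t) * y) := by rw [hcy]
        _ = (x * (t * t)) * y := by group
        _ = ((t * t) * x) * y := by rw [hcxx]
        _ = t * t * (x * y) := by group
  -- the index is not `0`
  have he0 : (Subgroup.centralizer (P : Set G)).relIndex T ≠ 0 :=
    Subgroup.index_ne_zero_of_finite
  -- the index is not `2`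
  have he2 : (Subgroup.centralizer (P : Set G)).relIndex T ≠ 2 := by
    intro h2
    have h1 : T ≤ Subgroup.centralizer (P : Set G) := by
      intro t ht
      apply hsqC t ht
      have h3 := Subgroup.mul_self_mem_of_index_two
        (H := (Subgroup.centralizer (P : Set G)).subgroupOf T) h2 ⟨t, ht⟩
      exact Subgroup.mem_subgroupOf.mp h3
    rw [Subgroup.relIndex_eq_one.mpr h1] at h2
    exact absurd h2 (by norm_num)
  -- the index is at most `3`
  have he3 : (Subgroup.centralizer (P : Set G)).relIndex T ≤ 3 := by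
    have hwd : ∀ a b : T,
        QuotientGroup.leftRel ((Subgroup.centralizer (P : Set G)).subgroupOf T) a b →
        (⟨(a : G) * x₀ * (a : G)⁻¹, hTN a a.2 x₀ hx₀⟩ : P) =
          ⟨(b : G) * x₀ * (b : G)⁻¹, hTN b b.2 x₀ hx₀⟩ := by
      intro a b hab
      rw [QuotientGroup.leftRel_apply] at hab
      have h1 : ((a⁻¹ * b : T) : G) ∈ Subgroup.centralizer (P : Set G) :=
        Subgroup.mem_subgroupOf.mp hab
      have h2 := Subgroup.mem_centralizer_iff.mp h1 x₀ hx₀
      rw [Subgroup.coe_mul, Subgroup.coe_inv] at h2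
      apply Subtype.ext
      show (a : G) * x₀ * (a : G)⁻¹ = (b : G) * x₀ * (b : G)⁻¹
      calc (a : G) * x₀ * (a : G)⁻¹ = (a : G) * (x₀ * ((a : G)⁻¹ * b)) * (b : G)⁻¹ := by group
        _ = (a : G) * (((a : G)⁻¹ * b) * x₀) * (b : G)⁻¹ := by rw [h2]
        _ = (b : G) * x₀ * (b : G)⁻¹ := by group
    obtain ⟨F, hF⟩ : ∃ F : T ⧸ (Subgroup.centralizer (P : Set G)).subgroupOf T → P,
        ∀ a : T, F (QuotientGroup.mk a) = ⟨(a : G) * x₀ * (a : G)⁻¹, hTN a a.2 x₀ hx₀⟩ :=
      ⟨fun q => Quotient.liftOn' q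
        (fun a : T => (⟨(a : G) * x₀ * (a : G)⁻¹, hTN a a.2 x₀ hx₀⟩ : P)) hwd, fun a => rfl⟩
    have hinj : Function.Injective F := by
      intro q q'
      refine QuotientGroup.induction_on q (fun a => ?_)
      refine QuotientGroup.induction_on q' (fun b => ?_)
      intro h
      rw [hF, hF] at h
      have h1 : (a : G) * x₀ * (a : G)⁻¹ = (b : G) * x₀ * (b : G)⁻¹ := congrArg Subtype.val h
      apply QuotientGroup.eq.mpr
      rw [Subgroup.mem_subgroupOf, Subgroup.coe_mul, Subgroup.coe_inv]
      apply hfree _ (mul_mem (inv_mem a.2) b.2) x₀ hx₀ hx₀1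
      calc (a : G)⁻¹ * (b : G) * x₀ * ((a : G)⁻¹ * (b : G))⁻¹
          = (a : G)⁻¹ * ((b : G) * x₀ * (b : G)⁻¹) * (a : G) := by group
        _ = (a : G)⁻¹ * ((a : G) * x₀ * (a : G)⁻¹) * (a : G) := by rw [h1]
        _ = x₀ := by group
    have hns : ¬ Function.Surjective F := by
      intro hs
      obtain ⟨q, hq⟩ := hs 1
      revert hq
      refine QuotientGroup.induction_on q (fun a => ?_)
      intro hq
      rw [hF] at hq
      have h1 : (a : G) * x₀ * (a : G)⁻¹ = 1 := congrArg Subtype.val hq
      apply hx₀1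
      calc x₀ = (a : G)⁻¹ * ((a : G) * x₀ * (a : G)⁻¹) * a := by group
        _ = 1 := by rw [h1]; group
    haveI := Fintype.ofFinite (T ⧸ (Subgroup.centralizer (P : Set G)).subgroupOf T)
    haveI := Fintype.ofFinite P
    have hlt := Fintype.card_lt_of_injective_not_surjective F hinj hns
    have hcard : Fintype.card P = 4 := by
      rw [← Nat.card_eq_fintype_card]
      exact hV.card_four
    have hidx : (Subgroup.centralizer (P : Set G)).relIndex T =
        Fintype.card (T ⧸ (Subgroup.centralizer (P : Set G)).subgroupOf T) := by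
      rw [← Nat.card_eq_fintype_card]
      exact Subgroup.index_eq_card _
    rw [hidx]
    omega
  -- transitivity
  have htrans : (Subgroup.centralizer (P : Set G)).relIndex T ≠ 1 →
      ∀ u ∈ P, u ≠ 1 → ∀ v ∈ P, v ≠ 1 → ∃ t ∈ T, t * v * t⁻¹ = u := by
    intro hne
    have hnot : ¬ T ≤ Subgroup.centralizer (P : Set G) :=
      fun h => hne (Subgroup.relIndex_eq_one.mpr h)
    obtain ⟨t, htT, htC⟩ := SetLike.not_le_iff_exists.mp hnot
    intro u hu hu1 v hv hv1
    obtain ⟨y, hy, hy1, hyv, hall⟩ := helems v hv hv1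
    have ha := hall (t * v * t⁻¹) (hTN t htT v hv)
    have hb := hall (t⁻¹ * v * t⁻¹⁻¹) (hTN t⁻¹ (inv_mem htT) v hv)
    have ha1 : t * v * t⁻¹ ≠ 1 := by
      intro h
      apply hv1
      calc v = t⁻¹ * (t * v * t⁻¹) * t := by group
        _ = 1 := by rw [h]; group
    have hb1 : t⁻¹ * v * t⁻¹⁻¹ ≠ 1 := by
      intro h
      apply hv1
      calc v = t * (t⁻¹ * v * t⁻¹⁻¹) * t⁻¹ := by group
        _ = 1 := by rw [h]; group
    have hav : t * v * t⁻¹ ≠ v := fun h => htC (hfree t htT v hv hv1 h)
    have hbv : t⁻¹ * v * t⁻¹⁻¹ ≠ v := by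
      intro h
      apply hav
      calc t * v * t⁻¹ = t * (t⁻¹ * v * t⁻¹⁻¹) * t⁻¹ := by rw [h]
        _ = v := by group
    have hab : t * v * t⁻¹ ≠ t⁻¹ * v * t⁻¹⁻¹ := by
      intro h
      apply htC
      apply hsqC t htT
      apply hfree (t * t) (mul_mem htT htT) v hv hv1
      calc t * t * v * (t * t)⁻¹ = t * (t * v * t⁻¹) * t⁻¹ := by group
        _ = t * (t⁻¹ * v * t⁻¹⁻¹) * t⁻¹ := by rw [h]
        _ = v := by group
    rcases hall u hu with h | h | h | h
    · exact absurd h hu1
    · exact ⟨1, one_mem T, by rw [h]; group⟩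
    · rcases ha with h' | h' | h' | h'
      · exact absurd h' ha1
      · exact absurd h' hav
      · exact ⟨t, htT, by rw [h', h]⟩
      · rcases hb with h'' | h'' | h'' | h''
        · exact absurd h'' hb1
        · exact absurd h'' hbv
        · exact ⟨t⁻¹, inv_mem htT, by rw [h'', h]⟩
        · exact absurd (h'.trans h''.symm) hab
    · rcases ha with h' | h' | h' | h'
      · exact absurd h' ha1
      · exact absurd h' hav
      · rcases hb with h'' | h'' | h'' | h''
        · exact absurd h'' hb1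
        · exact absurd h'' hbv
        · exact absurd (h'.trans h''.symm) hab
        · exact ⟨t⁻¹, inv_mem htT, by rw [h'', h]⟩
      · exact ⟨t, htT, by rw [h', h]⟩
  refine ⟨?_, hfree, htrans⟩
  omega

end Cfsg.Agent.Lib.Helper77.BPKlein1
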