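import Cfsg.Agent.Lib.Helper77.BPKlein1
import Cfsg.Agent.S4675

/-!
# Subsections of a block with abelian defect group: local blocks and counting

* `induced_heq`: if every conjugate of `u ∈ P` lying in `P` is conjugate to `u` under the
  inertial group `N_G(P, c)`, then the only block of `C_G(u)` inducing `B` is the block below
  the maximal pair `(P, c)`.
* `local_block`: if the stabilizer of `u` in the inertial group is `C_G(P)` (`P` abelian), the
  block of `C_G(u)` below `(P, c)` has one Brauer character, `|P|` characters, and its characters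
  agree on `p`-regular elements.
* `count_two`: if the inertial group is transitive on `P ∖ 1`, then `k(B) = l(B) + l(b_u)`.
-/

set_option autoImplicit false

namespace Cfsg.Agent.Lib.Helper77.BPKlein2

open Cfsg Cfsg.Agent.Lib.Helper77.LocalRing Cfsg.Agent.Lib.Helper77.BPNormal
  Cfsg.Agent.Lib.Helper77.BPEquiv Cfsg.Agent.Lib.Helper77.BPEquiv2
  Cfsg.Agent.Lib.Helper77.BPConjMax Cfsg.Agent.Lib.Helper77.BPFix
  Cfsg.Agent.Lib.Helper77.BPSub Cfsg.Agent.Lib.Helper77.BPSubpair
  Cfsg.Agent.Lib.Helper77.BPUp Cfsg.Agent.Lib.Helper77.BPInd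
  Cfsg.Agent.Lib.Helper77.BPFus Cfsg.Agent.Lib.Helper77.BPMax2
  Cfsg.Agent.Lib.Helper77.BPTransport Cfsg.Agent.Lib.Helper77.BPCyc
  Cfsg.Agent.Lib.Helper77.BPStab Cfsg.Agent.Lib.Helper77.BPAb
  Cfsg.Agent.Lib.Helper77.CentralChar
  Cfsg.Agent.Lib.Helper33.Conj Cfsg.Agent.Lib.Helper16.ZR Cfsg.Agent.Lib.Helper16.BPLocal
  Cfsg.Agent.Lib.Helper16.Defect Cfsg.Agent.Lib.CT.Wedderburn

universe u
variable {G : Type u} [Group G] {M : Ideal AlgInt}

/-- Transfer of a property along an equality of subgroups. -/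
theorem heq_transfer {K K' : Subgroup G} (h : K = K') (b : Set (IrrCharacter K))
    (b' : Set (IrrCharacter K')) (hb : HEq b b')
    (Φ : ∀ K : Subgroup G, Set (IrrCharacter K) → Prop) (hΦ : Φ K b) : Φ K' b' := by
  subst h
  rw [← eq_of_heq hb]
  exact hΦ

/-- A block of `C_G(x)` inducing `B` gives a Brauer pair of `B` at `⟨x⟩`; a conjugate of it lies
below the maximal pair `(P, c)`. -/
theorem exists_conj_mem [Finite G] {p : ℕ} [Fact p.Prime] (hM : IsPModular p M)
    {B : Set (IrrCharacter G)} {P : Subgroup G}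
    {c : Set (IrrCharacter (Subgroup.centralizer (P : Set G)))}
    (hmax : IsMaximalBrauerPair p M B P c) {x : G} (hx : ∃ k : ℕ, orderOf x = p ^ k)
    (b : Set (IrrCharacter (Subgroup.centralizer ({x} : Set G))))
    (hb : IsInducedBlock M (Subgroup.centralizer ({x} : Set G)) b B) :
    ∃ (b' : Set (IrrCharacter (Subgroup.centralizer ((Subgroup.zpowers x : Subgroup G) : Set G))))
      (g : G), HEq b b' ∧ IsPBlock M b' ∧
      Relation.ReflTransGen (NormalSubpairRel p M) (cjp g ⟨Subgroup.zpowers x, b'⟩) ⟨P, c⟩ ∧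
      g * x * g⁻¹ ∈ P := by
  obtain ⟨k, hk⟩ := hx
  have hxk : x ^ (p ^ k) = 1 := by
    rw [← hk]
    exact pow_orderOf_eq_one x
  have hzp : IsPGroup p (Subgroup.zpowers x) := isPGroup_zpowers hxk
  obtain ⟨b', hheq, hb'1, -, -⟩ := transport (p := p) (M := M) B (centralizer_zpowers_eq x).symm b
  have hpair : IsBrauerPairOf p M B (Subgroup.zpowers x) b' :=
    (isBrauerPairOf_iff_isInducedBlock hM _ hzp b' B).mpr (hb'1 hb)
  obtain ⟨g, hg⟩ := exists_conj_le_of_maximal hM hmax hpair
  refine ⟨b', g, hheq, hpair.1.2, hg, ?_⟩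
  have h1 := le_of_subpairLE (p := p) (M := M)
    ⟨(Subgroup.zpowers x).map (MulAut.conj g).toMonoidHom, conjBlock (Subgroup.zpowers x) g b'⟩
    ⟨P, c⟩ hg
  apply h1
  exact ⟨x, Subgroup.mem_zpowers x, by simp [MulAut.conj_apply]⟩

/-- **Uniqueness of the subsection block.** -/
theorem induced_heq [Finite G] {p : ℕ} [Fact p.Prime] (hM : IsPModular p M)
    {B : Set (IrrCharacter G)} {P : Subgroup G}
    {c : Set (IrrCharacter (Subgroup.centralizer (P : Set G)))}
    (hmax : IsMaximalBrauerPair p M B P c) {u : G} (hu : u ∈ P)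
    (hH : ∀ g : G, g * u * g⁻¹ ∈ P → ∃ t ∈ Subgroup.normalizer (P : Set G),
      StabilizesBlock (Subgroup.centralizer (P : Set G)) c t ∧ t * (g * u * g⁻¹) * t⁻¹ = u)
    (f : Set (IrrCharacter (Subgroup.centralizer ((Subgroup.zpowers u : Subgroup G) : Set G))))
    (hle : SubpairLE p M (Subgroup.zpowers u) f P c)
    (b : Set (IrrCharacter (Subgroup.centralizer ({u} : Set G))))
    (hb : IsInducedBlock M (Subgroup.centralizer ({u} : Set G)) b B) : HEq b f := by
  have hMp := isPrime_of_isPModular hM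
  have hPe : IsBrauerPair p M P c := hmax.1.1
  have hup : ∃ k : ℕ, orderOf u = p ^ k := by
    obtain ⟨k, hk⟩ := (IsPGroup.iff_orderOf.mp hPe.1) ⟨u, hu⟩
    exact ⟨k, by rw [← hk, Subgroup.orderOf_mk]⟩
  obtain ⟨b', g, hheq, hb'b, hg, hgu⟩ := exists_conj_mem hM hmax hup b hb
  obtain ⟨t, htN, hts, htu⟩ := hH g hgu
  have h2 := subpairLE_conj (M := M) t hg
  rw [cjp_eq_self htN hts, cjp_mul hMp g t ⟨Subgroup.zpowers u, b'⟩ hb'b] at h2
  have hs : t * g ∈ Subgroup.centralizer ((Subgroup.zpowers u : Subgroup G) : Set G) := by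
    rw [centralizer_zpowers_eq, Subgroup.mem_centralizer_iff]
    intro y hy
    rw [Set.mem_singleton_iff] at hy
    rw [hy]
    calc u * (t * g) = (t * (g * u * g⁻¹) * t⁻¹) * (t * g) := by rw [htu]
      _ = t * g * u := by group
  rw [cjp_eq_self (Subgroup.centralizer_le_normalizer _ hs)
    (stabilizes_of_mem_centralizer _ b' hs)] at h2
  have h6 := subpair_unique hM _ P rfl c (Subgroup.zpowers u) b' f hPe h2 hle
  rw [← h6]
  exact hheq

/-- A block with one Brauer character and as many characters as its defect group has elements: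
its characters agree on `p`-regular elements. -/
theorem agree_of_card [Finite G] {p : ℕ} [Fact p.Prime] (hM : IsPModular p M)
    (B : Set (IrrCharacter G)) (hB : IsPBlock M B) (P : Subgroup G) (hP : IsDefectGroup p M B P)
    (hl : blockRank p B = 1) (hk : Nat.card B = Nat.card P) :
    ∀ ψ ∈ B, ∀ ψ' ∈ B, ∀ y : G, ¬ p ∣ orderOf y → (ψ : G → ℂ) y = (ψ' : G → ℂ) y := by
  classical
  haveI : Fintype G := Fintype.ofFinite G
  obtain ⟨φ, d, -, hd, hsum⟩ := Cfsg.Agent.S4675.result p M hM B hB P hP hl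
  haveI := finite_irrCharacter G
  have hBfin : B.Finite := Set.toFinite B
  have hd1 : ∀ χ ∈ B, 1 ≤ d χ ^ 2 := by
    intro χ hχ
    have hreg : IsPRegular p (1 : G) := by
      unfold IsPRegular
      rw [orderOf_one]
      exact (Fact.out : p.Prime).not_dvd_one
    have h1 := hd χ hχ 1 hreg
    have h0 : d χ ≠ 0 := by
      intro h0
      rw [h0, Nat.cast_zero, zero_mul] at h1
      exact irr_one_ne_zero χ.2 h1
    exact Nat.one_le_pow _ _ (Nat.pos_of_ne_zero h0)
  rw [finsum_mem_eq_finite_toFinset_sum _ hBfin] at hsum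
  have hcard : Nat.card B = hBfin.toFinset.card := by
    rw [Nat.card_coe_set_eq, Set.ncard_eq_toFinset_card B hBfin]
  have hsum1 : ∑ _χ ∈ hBfin.toFinset, 1 = ∑ χ ∈ hBfin.toFinset, d χ ^ 2 := by
    rw [hsum, ← hk, hcard, Finset.sum_const, smul_eq_mul, mul_one]
  have hall := (Finset.sum_eq_sum_iff_of_le
    (fun χ hχ => hd1 χ ((Set.Finite.mem_toFinset _).mp hχ))).mp hsum1
  have hone : ∀ χ ∈ B, d χ = 1 := by
    intro χ hχ
    have h1 := hall χ ((Set.Finite.mem_toFinset _).mpr hχ)
    exact (Nat.pow_eq_one.mp h1.symm).resolve_right (by norm_num)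
  intro ψ hψ ψ' hψ' y hy
  rw [hd ψ hψ y hy, hd ψ' hψ' y hy, hone ψ hψ, hone ψ' hψ']

/-- **The local block at `u`.**  If `P` is abelian and the stabilizer of `u ∈ P` in the inertial
group `N_G(P, c)` is `C_G(P)`, then the block of `C_G(u)` below `(P, c)` has one Brauer
character and `|P|` characters, all agreeing on `p`-regular elements. -/
theorem local_block [Finite G] {p : ℕ} [Fact p.Prime] (hM : IsPModular p M)
    {B : Set (IrrCharacter G)} {P : Subgroup G}
    {c : Set (IrrCharacter (Subgroup.centralizer (P : Set G)))}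
    (hmax : IsMaximalBrauerPair p M B P c) (hab : ∀ x ∈ P, ∀ y ∈ P, x * y = y * x)
    {u : G} (hu : u ∈ P)
    (hfree : ∀ t ∈ Subgroup.normalizer (P : Set G),
      StabilizesBlock (Subgroup.centralizer (P : Set G)) c t → t * u = u * t →
        t ∈ Subgroup.centralizer (P : Set G))
    (f : Set (IrrCharacter (Subgroup.centralizer ((Subgroup.zpowers u : Subgroup G) : Set G))))
    (hle : SubpairLE p M (Subgroup.zpowers u) f P c) :
    blockRank p f = 1 ∧ Nat.card f = Nat.card P ∧
      ∀ ψ ∈ f, ∀ ψ' ∈ f,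
        ∀ y : Subgroup.centralizer ((Subgroup.zpowers u : Subgroup G) : Set G),
          ¬ p ∣ orderOf y →
          (ψ : Subgroup.centralizer ((Subgroup.zpowers u : Subgroup G) : Set G) → ℂ) y =
            (ψ' : Subgroup.centralizer ((Subgroup.zpowers u : Subgroup G) : Set G) → ℂ) y := by
  classical
  have hMp := isPrime_of_isPModular hM
  have hPe : IsBrauerPair p M P c := hmax.1.1
  have hPC : P ≤ Subgroup.centralizer (P : Set G) := by
    intro v hv
    rw [Subgroup.mem_centralizer_iff]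
    intro q hq
    exact hab q hq v hv
  have hQP : Subgroup.zpowers u ≤ P := Subgroup.zpowers_le.mpr hu
  have hPCQ : P ≤ Subgroup.centralizer ((Subgroup.zpowers u : Subgroup G) : Set G) :=
    hPC.trans (Subgroup.centralizer_le hQP)
  have hCPQ : Subgroup.centralizer (P : Set G) ≤
      Subgroup.centralizer ((Subgroup.zpowers u : Subgroup G) : Set G) :=
    Subgroup.centralizer_le hQP
  have hfb : IsPBlock M f :=
    (isBrauerPair_of_le ⟨Subgroup.zpowers u, f⟩ ⟨P, c⟩ hle hPe).2
  have hns : IsNormalSubpair p M (Subgroup.zpowers u) f P c :=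
    isNormalSubpair_of_le hM hPe hle (hPCQ.trans (Subgroup.centralizer_le_normalizer _))
  obtain ⟨a, ha⟩ : ∃ a, a = down (Subgroup.centralizer
      ((Subgroup.zpowers u : Subgroup G) : Set G)) P hPCQ hCPQ c := ⟨_, rfl⟩
  have hup : up (Subgroup.centralizer ((Subgroup.zpowers u : Subgroup G) : Set G)) a =
      ⟨P, c⟩ := by
    rw [ha]
    exact up_down _ P hPCQ hCPQ c
  have hapair : IsBrauerPairOf p M f a.1 a.2 := by
    rw [ha]
    exact (isBrauerPairOf_down_iff hQP hPCQ f hfb c hPe).mpr hns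
  have ha1 : a.1 = P.subgroupOf
      (Subgroup.centralizer ((Subgroup.zpowers u : Subgroup G) : Set G)) := by
    rw [ha]
    rfl
  have hD : IsDefectGroup p M f a.1 := by
    rw [ha1]
    exact isDefectGroup_of_le_centralizer hM hmax hle hPCQ
  have hamax : IsMaximalBrauerPair p M f a.1 a.2 :=
    isMaximal_of_isDefectGroup hM hapair hD
  have haab : ∀ x ∈ a.1, ∀ y ∈ a.1, x * y = y * x := by
    rw [ha1]
    intro x hx y hy
    apply Subtype.ext
    exact hab _ (Subgroup.mem_subgroupOf.mp hx) _ (Subgroup.mem_subgroupOf.mp hy)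
  have hC : Subgroup.centralizer ((a.1.map (Subgroup.centralizer
      ((Subgroup.zpowers u : Subgroup G) : Set G)).subtype : Subgroup G) : Set G) ≤
      Subgroup.centralizer ((Subgroup.zpowers u : Subgroup G) : Set G) := by
    have h1 : a.1.map (Subgroup.centralizer
        ((Subgroup.zpowers u : Subgroup G) : Set G)).subtype = P :=
      congrArg Sigma.fst hup
    rw [h1]
    exact hCPQ
  have hstab : ∀ t : Subgroup.centralizer ((Subgroup.zpowers u : Subgroup G) : Set G),
      (t ∈ Subgroup.normalizer (a.1 : Set (Subgroup.centralizer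
          ((Subgroup.zpowers u : Subgroup G) : Set G))) ∧
        StabilizesBlock (Subgroup.centralizer (a.1 : Set (Subgroup.centralizer
          ((Subgroup.zpowers u : Subgroup G) : Set G)))) a.2 t) ↔
      ((t : G) ∈ Subgroup.normalizer (P : Set G) ∧
        StabilizesBlock (Subgroup.centralizer (P : Set G)) c (t : G)) := by
    intro t
    exact (stab_up_iff _ a hC t).trans (stab_congr' hup (t : G))
  have hnil' : ∀ x ∈ Subgroup.normalizer (a.1 : Set (Subgroup.centralizer
        ((Subgroup.zpowers u : Subgroup G) : Set G))),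
      StabilizesBlock (Subgroup.centralizer (a.1 : Set (Subgroup.centralizer
        ((Subgroup.zpowers u : Subgroup G) : Set G)))) a.2 x →
      x ∈ Subgroup.centralizer (a.1 : Set (Subgroup.centralizer
        ((Subgroup.zpowers u : Subgroup G) : Set G))) := by
    intro x hxN hxs
    have hx2 := (hstab x).mp ⟨hxN, hxs⟩
    have hxu : (x : G) * u = u * (x : G) :=
      (Subgroup.mem_centralizer_iff.mp x.2 u (Subgroup.mem_zpowers u)).symm
    have h2 := hfree (x : G) hx2.1 hx2.2 hxu
    rw [Subgroup.mem_centralizer_iff]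
    intro y hy
    have hyP : (y : G) ∈ P := by
      rw [ha1] at hy
      exact Subgroup.mem_subgroupOf.mp hy
    apply Subtype.ext
    exact Subgroup.mem_centralizer_iff.mp h2 _ hyP
  obtain ⟨hl, hk⟩ := abelian_nilpotent hM hamax haab hnil'
  have hcardP : Nat.card a.1 = Nat.card P := by
    rw [ha1]
    exact Nat.card_congr (Subgroup.subgroupOfEquivOfLe hPCQ).toEquiv
  exact ⟨hl, hk.trans hcardP, agree_of_card hM f hfb a.1 hD hl hk⟩

/-- **Counting by subsections with a transitive inertial group.**  If the inertial group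
`N_G(P, c)` is transitive on `P ∖ 1` and `u ∈ P ∖ 1`, then there is exactly one block `β` of
`C_G(u)` inducing `B`, and `k(B) = l(B) + l(β)`. -/
theorem count_two [Finite G] {p : ℕ} [Fact p.Prime] (hM : IsPModular p M)
    {B : Set (IrrCharacter G)} {P : Subgroup G}
    {c : Set (IrrCharacter (Subgroup.centralizer (P : Set G)))}
    (hmax : IsMaximalBrauerPair p M B P c) {u : G} (hu : u ∈ P) (hu1 : u ≠ 1)
    (htrans : ∀ v ∈ P, v ≠ 1 → ∃ t ∈ Subgroup.normalizer (P : Set G),
      StabilizesBlock (Subgroup.centralizer (P : Set G)) c t ∧ t * v * t⁻¹ = u)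
    (f : Set (IrrCharacter (Subgroup.centralizer ((Subgroup.zpowers u : Subgroup G) : Set G))))
    (hle : SubpairLE p M (Subgroup.zpowers u) f P c) :
    ∃ β : Set (IrrCharacter (Subgroup.centralizer ({u} : Set G))), HEq f β ∧
      IsInducedBlock M (Subgroup.centralizer ({u} : Set G)) β B ∧
      (∀ b, IsInducedBlock M (Subgroup.centralizer ({u} : Set G)) b B → b = β) ∧
      Nat.card B = blockRank p B + blockRank p β := by
  classical
  have hMp := isPrime_of_isPModular hM
  have hp : p.Prime := Fact.out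
  have hB : IsPBlock M B := hmax.1.2.1
  have hPe : IsBrauerPair p M P c := hmax.1.1
  have hPp : IsPGroup p P := hPe.1
  have hpelt : ∀ v ∈ P, ∃ k : ℕ, orderOf v = p ^ k := by
    intro v hv
    obtain ⟨k, hk⟩ := (IsPGroup.iff_orderOf.mp hPp) ⟨v, hv⟩
    exact ⟨k, by rw [← hk, Subgroup.orderOf_mk]⟩
  -- the block at `u`
  have hpairB : IsBrauerPairOf p M B (Subgroup.zpowers u) f :=
    (isBrauerPairOf_iff_of_le hM B hB ⟨Subgroup.zpowers u, f⟩ ⟨P, c⟩ hle).mp hmax.1
  have hind := (isBrauerPairOf_iff_isInducedBlock hM _ hpairB.1.1 _ B).mp hpairB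
  obtain ⟨β, hfβ, hβ1, -, hβ3⟩ := transport (p := p) (M := M) B (centralizer_zpowers_eq u) f
  have hβind := hβ1 hind
  have hHu : ∀ g : G, g * u * g⁻¹ ∈ P → ∃ t ∈ Subgroup.normalizer (P : Set G),
      StabilizesBlock (Subgroup.centralizer (P : Set G)) c t ∧
        t * (g * u * g⁻¹) * t⁻¹ = u := by
    intro g hg
    apply htrans _ hg
    intro h
    apply hu1
    calc u = g⁻¹ * (g * u * g⁻¹) * g := by group
      _ = 1 := by rw [h]; group
  have huniq : ∀ b, IsInducedBlock M (Subgroup.centralizer ({u} : Set G)) b B → b = β := by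
    intro b hb
    exact eq_of_heq ((induced_heq hM hmax hu hHu f hle b hb).trans hfβ)
  -- the block at `1`
  obtain ⟨f₁, hle₁⟩ := exists_subpair hM P c hPe (Subgroup.zpowers (1 : G))
    (Subgroup.zpowers_le.mpr (one_mem P))
  have hH1 : ∀ g : G, g * 1 * g⁻¹ ∈ P → ∃ t ∈ Subgroup.normalizer (P : Set G),
      StabilizesBlock (Subgroup.centralizer (P : Set G)) c t ∧
        t * (g * 1 * g⁻¹) * t⁻¹ = 1 := by
    intro g _
    exact ⟨1, one_mem _, stabilizes_of_mem_centralizer P c (one_mem _), by group⟩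
  have huniq1 : ∀ b b' : Set (IrrCharacter (Subgroup.centralizer ({(1 : G)} : Set G))),
      IsInducedBlock M (Subgroup.centralizer ({(1 : G)} : Set G)) b B →
      IsInducedBlock M (Subgroup.centralizer ({(1 : G)} : Set G)) b' B → b = b' := by
    intro b b' hb hb'
    exact eq_of_heq ((induced_heq hM hmax (one_mem P) hH1 f₁ hle₁ b hb).trans
      (induced_heq hM hmax (one_mem P) hH1 f₁ hle₁ b' hb').symm)
  -- class representatives
  haveI : Fintype G := Fintype.ofFinite G
  obtain ⟨rep, hrep⟩ : ∃ rep : G → G, ∀ g, rep g =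
      if IsConj g u then u else Quotient.out (ConjClasses.mk g) := ⟨_, fun _ => rfl⟩
  have hrepconj : ∀ g, IsConj g (rep g) := by
    intro g
    rw [hrep]
    by_cases h : IsConj g u
    · rw [if_pos h]
      exact h
    · rw [if_neg h]
      apply ConjClasses.mk_eq_mk_iff_isConj.mp
      exact (Quotient.out_eq (ConjClasses.mk g)).symm
  have hrepeq : ∀ g g', IsConj g g' → rep g = rep g' := by
    intro g g' h
    rw [hrep, hrep, ConjClasses.mk_eq_mk_iff_isConj.mpr h]
    by_cases h1 : IsConj g u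
    · rw [if_pos h1, if_pos (h.symm.trans h1)]
    · rw [if_neg h1, if_neg (fun h2 => h1 (h.trans h2))]
  have hord : ∀ g g' : G, IsConj g g' → orderOf g = orderOf g' := by
    intro g g' h
    obtain ⟨x, rfl⟩ := isConj_iff.mp h
    exact (orderOf_injective (MulAut.conj x).toMonoidHom (MulAut.conj x).injective g).symm
  obtain ⟨X, hXdef⟩ : ∃ X : Finset G, ∀ x, x ∈ X ↔ (∃ k : ℕ, orderOf x = p ^ k) ∧ rep x = x :=
    ⟨Finset.univ.filter (fun x => (∃ k : ℕ, orderOf x = p ^ k) ∧ rep x = x), fun x => by simp⟩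
  have hX : ∀ x ∈ X, ∃ k : ℕ, orderOf x = p ^ k := fun x hx => ((hXdef x).mp hx).1
  have hXrep : ∀ g : G, (∃ k : ℕ, orderOf g = p ^ k) → ∃! x, x ∈ X ∧ IsConj g x := by
    intro g hg
    refine ⟨rep g, ⟨(hXdef _).mpr ⟨?_, ?_⟩, hrepconj g⟩, ?_⟩
    · obtain ⟨k, hk⟩ := hg
      exact ⟨k, by rw [← hord g (rep g) (hrepconj g), hk]⟩
    · exact hrepeq _ _ (hrepconj g).symm
    · rintro y ⟨hyX, hgy⟩
      rw [← ((hXdef y).mp hyX).2]
      exact hrepeq _ _ hgy.symm
  have hcount := Cfsg.Agent.S4511.result p M hM B hB X hX hXrep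
  obtain ⟨t, ht⟩ : ∃ t : G → ℕ, ∀ x, t x =
      ∑ᶠ b ∈ {b : Set (IrrCharacter (Subgroup.centralizer ({x} : Set G))) |
        IsInducedBlock M (Subgroup.centralizer ({x} : Set G)) b B}, blockRank p b :=
    ⟨_, fun _ => rfl⟩
  have hcount' : Nat.card B = ∑ x ∈ X, t x := by
    rw [hcount]
    exact Finset.sum_congr rfl (fun x _ => (ht x).symm)
  have h1X : (1 : G) ∈ X := by
    refine (hXdef 1).mpr ⟨⟨0, by simp⟩, ?_⟩
    exact (isConj_one_right.mp (hrepconj 1))
  have huX : u ∈ X := by
    refine (hXdef u).mpr ⟨hpelt u hu, ?_⟩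
    rw [hrep, if_pos (IsConj.refl u)]
  -- the terms
  have ht1 : t 1 = blockRank p B := by
    have hK : Subgroup.centralizer (((⊥ : Subgroup G) : Set G)) =
        Subgroup.centralizer ({1} : Set G) := by
      rw [Subgroup.coe_bot]
    have hbot := isBrauerPairOf_bot hM B hB
    have hindb := (isBrauerPairOf_iff_isInducedBlock hM ⊥ hbot.1.1 _ B).mp hbot
    obtain ⟨b₁, -, hb1, -, hb3⟩ := transport (p := p) (M := M) B hK (pull (botIso G) '' B)
    rw [blockRank_pull] at hb3
    have hset : {b : Set (IrrCharacter (Subgroup.centralizer ({(1 : G)} : Set G))) |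
        IsInducedBlock M (Subgroup.centralizer ({(1 : G)} : Set G)) b B} = {b₁} := by
      ext b
      rw [Set.mem_setOf_eq, Set.mem_singleton_iff]
      exact ⟨fun hb => huniq1 b b₁ hb (hb1 hindb), fun hb => by rw [hb]; exact hb1 hindb⟩
    rw [ht 1, hset, finsum_mem_singleton, hb3]
  have htu : t u = blockRank p β := by
    have hset : {b : Set (IrrCharacter (Subgroup.centralizer ({u} : Set G))) |
        IsInducedBlock M (Subgroup.centralizer ({u} : Set G)) b B} = {β} := by
      ext b
      rw [Set.mem_setOf_eq, Set.mem_singleton_iff]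
      exact ⟨huniq b, fun hb => by rw [hb]; exact hβind⟩
    rw [ht u, hset, finsum_mem_singleton]
  have htx : ∀ x ∈ X, x ≠ 1 ∧ x ≠ u → t x = 0 := by
    intro x hxX hx
    have hset : {b : Set (IrrCharacter (Subgroup.centralizer ({x} : Set G))) |
        IsInducedBlock M (Subgroup.centralizer ({x} : Set G)) b B} = ∅ := by
      ext b
      rw [Set.mem_setOf_eq, Set.mem_empty_iff_false, iff_false]
      intro hb
      obtain ⟨b', g, -, -, -, hgx⟩ := exists_conj_mem hM hmax ((hXdef x).mp hxX).1 b hb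
      by_cases h1 : g * x * g⁻¹ = 1
      · apply hx.1
        calc x = g⁻¹ * (g * x * g⁻¹) * g := by group
          _ = 1 := by rw [h1]; group
      · obtain ⟨s, -, -, hs⟩ := htrans _ hgx h1
        apply hx.2
        have hconj : IsConj x u := by
          rw [isConj_iff]
          refine ⟨s * g, ?_⟩
          rw [← hs]
          group
        have h2 : rep x = u := by rw [hrep, if_pos hconj]
        exact ((hXdef x).mp hxX).2.symm.trans h2
    rw [ht x, hset, finsum_mem_empty]
  refine ⟨β, hfβ, hβind, huniq, ?_⟩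
  rw [hcount', Finset.sum_eq_add_of_mem 1 u h1X huX (Ne.symm hu1) htx, ht1, htu]

end Cfsg.Agent.Lib.Helper77.BPKlein2
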