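import Cfsg.Agent.Lib.Helper77.BPKlein2
import Cfsg.Agent.Lib.Helper77.BPKlein3
import Cfsg.Agent.Lib.Helper16.Transfer

/-!
# Subsections of a block with Klein four defect group

* `local_block'`: the block of `C_G(Q)` below the maximal pair `(P, c)` (for `Q ≤ P` abelian with
  trivial stabilizer of `Q` in the inertial quotient) has one Brauer character, `|P|` characters
  agreeing on `p`-regular elements, and defect group `P`.
* `block_props`: every block of `C_G(u)` (`u ≠ 1` a `2`-element) inducing a block `B` with Klein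
  four defect group has four characters agreeing on `2`-regular elements, and `u` is an
  involution.
* `subsection_numbers`: the generalized decomposition numbers of such a subsection are
  integers `D χ` (times `1/4` for each character of the local block) with `∑ D χ ^ 2 = 4`.
-/

set_option autoImplicit false

namespace Cfsg.Agent.Lib.Helper77.BPKlein5

open Cfsg Cfsg.Agent.Lib.Helper77.LocalRing Cfsg.Agent.Lib.Helper77.BPNormal
  Cfsg.Agent.Lib.Helper77.BPEquiv Cfsg.Agent.Lib.Helper77.BPEquiv2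
  Cfsg.Agent.Lib.Helper77.BPConjMax Cfsg.Agent.Lib.Helper77.BPFix
  Cfsg.Agent.Lib.Helper77.BPSub Cfsg.Agent.Lib.Helper77.BPSubpair
  Cfsg.Agent.Lib.Helper77.BPUp Cfsg.Agent.Lib.Helper77.BPInd
  Cfsg.Agent.Lib.Helper77.BPFus Cfsg.Agent.Lib.Helper77.BPMax2
  Cfsg.Agent.Lib.Helper77.BPTransport Cfsg.Agent.Lib.Helper77.BPCyc
  Cfsg.Agent.Lib.Helper77.BPStab Cfsg.Agent.Lib.Helper77.BPAb
  Cfsg.Agent.Lib.Helper77.BPKlein1 Cfsg.Agent.Lib.Helper77.BPKlein2
  Cfsg.Agent.Lib.Helper77.CentralChar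
  Cfsg.Agent.Lib.Helper33.Conj Cfsg.Agent.Lib.Helper16.ZR Cfsg.Agent.Lib.Helper16.BPLocal
  Cfsg.Agent.Lib.Helper16.Defect Cfsg.Agent.Lib.CT.Wedderburn
  Cfsg.Agent.Lib.Helper75.Section Cfsg.Agent.Lib.Helper75.Section2
  Cfsg.Agent.Lib.Helper75.Section3 Cfsg.Agent.Lib.Helper75.BlockRank
  Cfsg.Agent.Lib.Helper75.DefOne
open scoped ComplexConjugate

universe u
variable {G : Type u} [Group G] {M : Ideal AlgInt}

/-- **The local block at `Q ≤ P`.** -/
theorem local_block' [Finite G] {p : ℕ} [Fact p.Prime] (hM : IsPModular p M)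
    {B : Set (IrrCharacter G)} {P : Subgroup G}
    {c : Set (IrrCharacter (Subgroup.centralizer (P : Set G)))}
    (hmax : IsMaximalBrauerPair p M B P c) (hab : ∀ x ∈ P, ∀ y ∈ P, x * y = y * x)
    {Q : Subgroup G} (hQP : Q ≤ P)
    (hfree : ∀ t ∈ Subgroup.normalizer (P : Set G),
      StabilizesBlock (Subgroup.centralizer (P : Set G)) c t →
        t ∈ Subgroup.centralizer (Q : Set G) → t ∈ Subgroup.centralizer (P : Set G))
    (f : Set (IrrCharacter (Subgroup.centralizer (Q : Set G))))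
    (hle : SubpairLE p M Q f P c) :
    blockRank p f = 1 ∧ Nat.card f = Nat.card P ∧
      (∀ ψ ∈ f, ∀ ψ' ∈ f, ∀ y : Subgroup.centralizer (Q : Set G), ¬ p ∣ orderOf y →
          (ψ : Subgroup.centralizer (Q : Set G) → ℂ) y =
            (ψ' : Subgroup.centralizer (Q : Set G) → ℂ) y) ∧
      IsDefectGroup p M f (P.subgroupOf (Subgroup.centralizer (Q : Set G))) := by
  classical
  have hMp := isPrime_of_isPModular hM
  have hPe : IsBrauerPair p M P c := hmax.1.1
  have hPC : P ≤ Subgroup.centralizer (P : Set G) := by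
    intro v hv
    rw [Subgroup.mem_centralizer_iff]
    intro q hq
    exact hab q hq v hv
  have hPCQ : P ≤ Subgroup.centralizer (Q : Set G) :=
    hPC.trans (Subgroup.centralizer_le hQP)
  have hCPQ : Subgroup.centralizer (P : Set G) ≤ Subgroup.centralizer (Q : Set G) :=
    Subgroup.centralizer_le hQP
  have hfb : IsPBlock M f :=
    (isBrauerPair_of_le ⟨Q, f⟩ ⟨P, c⟩ hle hPe).2
  have hns : IsNormalSubpair p M Q f P c :=
    isNormalSubpair_of_le hM hPe hle (hPCQ.trans (Subgroup.centralizer_le_normalizer _))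
  obtain ⟨a, ha⟩ : ∃ a, a = down (Subgroup.centralizer (Q : Set G)) P hPCQ hCPQ c := ⟨_, rfl⟩
  have hup : up (Subgroup.centralizer (Q : Set G)) a = ⟨P, c⟩ := by
    rw [ha]
    exact up_down _ P hPCQ hCPQ c
  have hapair : IsBrauerPairOf p M f a.1 a.2 := by
    rw [ha]
    exact (isBrauerPairOf_down_iff hQP hPCQ f hfb c hPe).mpr hns
  have ha1 : a.1 = P.subgroupOf (Subgroup.centralizer (Q : Set G)) := by
    rw [ha]
    rfl
  have hD : IsDefectGroup p M f a.1 := by
    rw [ha1]
    exact isDefectGroup_of_le_centralizer hM hmax hle hPCQ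
  have hamax : IsMaximalBrauerPair p M f a.1 a.2 :=
    isMaximal_of_isDefectGroup hM hapair hD
  have haab : ∀ x ∈ a.1, ∀ y ∈ a.1, x * y = y * x := by
    rw [ha1]
    intro x hx y hy
    apply Subtype.ext
    exact hab _ (Subgroup.mem_subgroupOf.mp hx) _ (Subgroup.mem_subgroupOf.mp hy)
  have hC : Subgroup.centralizer ((a.1.map (Subgroup.centralizer (Q : Set G)).subtype :
      Subgroup G) : Set G) ≤ Subgroup.centralizer (Q : Set G) := by
    have h1 : a.1.map (Subgroup.centralizer (Q : Set G)).subtype = P :=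
      congrArg Sigma.fst hup
    rw [h1]
    exact hCPQ
  have hstab : ∀ t : Subgroup.centralizer (Q : Set G),
      (t ∈ Subgroup.normalizer (a.1 : Set (Subgroup.centralizer (Q : Set G))) ∧
        StabilizesBlock (Subgroup.centralizer (a.1 : Set (Subgroup.centralizer (Q : Set G))))
          a.2 t) ↔
      ((t : G) ∈ Subgroup.normalizer (P : Set G) ∧
        StabilizesBlock (Subgroup.centralizer (P : Set G)) c (t : G)) := by
    intro t
    exact (stab_up_iff _ a hC t).trans (stab_congr' hup (t : G))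
  have hnil' : ∀ x ∈ Subgroup.normalizer (a.1 : Set (Subgroup.centralizer (Q : Set G))),
      StabilizesBlock (Subgroup.centralizer (a.1 : Set (Subgroup.centralizer (Q : Set G))))
        a.2 x →
      x ∈ Subgroup.centralizer (a.1 : Set (Subgroup.centralizer (Q : Set G))) := by
    intro x hxN hxs
    have hx2 := (hstab x).mp ⟨hxN, hxs⟩
    have h2 := hfree (x : G) hx2.1 hx2.2 x.2
    rw [Subgroup.mem_centralizer_iff]
    intro y hy
    have hyP : (y : G) ∈ P := by
      rw [ha1] at hy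
      exact Subgroup.mem_subgroupOf.mp hy
    apply Subtype.ext
    exact Subgroup.mem_centralizer_iff.mp h2 _ hyP
  obtain ⟨hl, hk⟩ := abelian_nilpotent hM hamax haab hnil'
  have hcardP : Nat.card a.1 = Nat.card P := by
    rw [ha1]
    exact Nat.card_congr (Subgroup.subgroupOfEquivOfLe hPCQ).toEquiv
  refine ⟨hl, hk.trans hcardP, agree_of_card hM f hfb a.1 hD hl hk, ?_⟩
  rw [← ha1]
  exact hD

/-- **Blocks of centralizers of 2-elements inducing a block with Klein four defect group.** -/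
theorem block_props [Finite G] (hM : IsPModular 2 M) {B : Set (IrrCharacter G)} {P : Subgroup G}
    {c : Set (IrrCharacter (Subgroup.centralizer (P : Set G)))}
    (hmax : IsMaximalBrauerPair 2 M B P c) (hV : IsKleinFour P) {u : G}
    (hu : ∃ k : ℕ, orderOf u = 2 ^ k) (hu1 : u ≠ 1)
    (β : Set (IrrCharacter (Subgroup.centralizer ({u} : Set G))))
    (hβ : IsInducedBlock M (Subgroup.centralizer ({u} : Set G)) β B) :
    orderOf u = 2 ∧ IsPBlock M β ∧ blockRank 2 β = 1 ∧ Nat.card β = 4 ∧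
      (∀ ψ ∈ β, ∀ ψ' ∈ β, ∀ y : Subgroup.centralizer ({u} : Set G), ¬ 2 ∣ orderOf y →
        (ψ : Subgroup.centralizer ({u} : Set G) → ℂ) y =
          (ψ' : Subgroup.centralizer ({u} : Set G) → ℂ) y) ∧
      ∃ D : Subgroup (Subgroup.centralizer ({u} : Set G)),
        IsDefectGroup 2 M β D ∧ Nat.card D = 4 := by
  classical
  haveI : Fact (Nat.Prime 2) := ⟨Nat.prime_two⟩
  have hMp := isPrime_of_isPModular hM
  obtain ⟨hsq, hcomm, -, -⟩ := klein_elems hV
  have hcardP : Nat.card P = 4 := hV.card_four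
  obtain ⟨-, hfree, -⟩ := inertial hM hmax hV (stab P c) (fun g => Iff.rfl)
  obtain ⟨b', g, hheq, hb'b, hg, hgu⟩ := exists_conj_mem hM hmax hu β hβ
  have hgu1 : g * u * g⁻¹ ≠ 1 := by
    intro h
    apply hu1
    calc u = g⁻¹ * (g * u * g⁻¹) * g := by group
      _ = 1 := by rw [h]; group
  have hu2 : orderOf u = 2 := by
    apply orderOf_eq_prime _ hu1
    have h1 := hsq _ hgu
    calc u ^ 2 = u * u := pow_two u
      _ = g⁻¹ * ((g * u * g⁻¹) * (g * u * g⁻¹)) * g := by group
      _ = 1 := by rw [h1]; group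
  have hle : SubpairLE 2 M ((Subgroup.zpowers u).map (MulAut.conj g).toMonoidHom)
      (conjBlock (Subgroup.zpowers u) g b') P c := hg
  have hQP : (Subgroup.zpowers u).map (MulAut.conj g).toMonoidHom ≤ P :=
    le_of_subpairLE (p := 2) (M := M)
      ⟨(Subgroup.zpowers u).map (MulAut.conj g).toMonoidHom,
        conjBlock (Subgroup.zpowers u) g b'⟩ ⟨P, c⟩ hg
  have hmemQ : g * u * g⁻¹ ∈ (Subgroup.zpowers u).map (MulAut.conj g).toMonoidHom :=
    ⟨u, Subgroup.mem_zpowers u, by simp [MulAut.conj_apply]⟩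
  have hPC : P ≤ Subgroup.centralizer
      (((Subgroup.zpowers u).map (MulAut.conj g).toMonoidHom : Subgroup G) : Set G) := by
    intro v hv
    rw [Subgroup.mem_centralizer_iff]
    intro q hq
    exact hcomm q (hQP hq) v hv
  obtain ⟨hl, hk, hreg, hD⟩ := local_block' hM hmax hcomm hQP (by
    intro t htN hts htQ
    apply hfree t ⟨htN, hts⟩ (g * u * g⁻¹) hgu hgu1
    have h1 := Subgroup.mem_centralizer_iff.mp htQ _ hmemQ
    rw [← h1, mul_inv_cancel_right]) (conjBlock (Subgroup.zpowers u) g b') hle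
  rw [conjBlock_eq] at hl hk hreg hD
  rw [blockRank_pull] at hl
  rw [Nat.card_image_of_injective (pull_injective _), hcardP] at hk
  have hreg' : ∀ ψ ∈ b', ∀ ψ' ∈ b',
      ∀ y : Subgroup.centralizer ((Subgroup.zpowers u : Subgroup G) : Set G), ¬ 2 ∣ orderOf y →
        (ψ : Subgroup.centralizer ((Subgroup.zpowers u : Subgroup G) : Set G) → ℂ) y =
          (ψ' : Subgroup.centralizer ((Subgroup.zpowers u : Subgroup G) : Set G) → ℂ) y := by
    intro ψ hψ ψ' hψ' y hy
    have h1 := hreg (pull (cIso (Subgroup.zpowers u) g).symm ψ) ⟨ψ, hψ, rfl⟩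
      (pull (cIso (Subgroup.zpowers u) g).symm ψ') ⟨ψ', hψ', rfl⟩
      (cIso (Subgroup.zpowers u) g y) (by rw [MulEquiv.orderOf_eq]; exact hy)
    rwa [pull_apply, pull_apply, MulEquiv.symm_apply_apply] at h1
  have hD' := isDefectGroup_pull (cIso (Subgroup.zpowers u) g) hD
  rw [Cfsg.Agent.Lib.Helper16.Transfer.pull_image_pull_symm_image] at hD'
  have hcardD : Nat.card ((P.subgroupOf (Subgroup.centralizer
      (((Subgroup.zpowers u).map (MulAut.conj g).toMonoidHom : Subgroup G) : Set G))).map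
        (cIso (Subgroup.zpowers u) g).symm.toMonoidHom) = 4 := by
    rw [Subgroup.card_map_of_injective (cIso (Subgroup.zpowers u) g).symm.injective,
      ← hcardP]
    exact Nat.card_congr (Subgroup.subgroupOfEquivOfLe hPC).toEquiv
  obtain ⟨h1, h2, h3, h4, h5⟩ := heq_transfer (centralizer_zpowers_eq u) b' β hheq.symm
    (fun K b => IsPBlock M b ∧ blockRank 2 b = 1 ∧ Nat.card b = 4 ∧
      (∀ ψ ∈ b, ∀ ψ' ∈ b, ∀ y : K, ¬ 2 ∣ orderOf y → (ψ : K → ℂ) y = (ψ' : K → ℂ) y) ∧
      ∃ D : Subgroup K, IsDefectGroup 2 M b D ∧ Nat.card D = 4)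
    ⟨hb'b, hl, hk, hreg', _, hD', hcardD⟩
  exact ⟨hu2, h1, h2, h3, h4, h5⟩

/-- **Generalized decomposition numbers of a subsection with a local block of type `(4, 1)`.** -/
theorem subsection_numbers [Finite G] (M : Ideal AlgInt) (hM : IsPModular 2 M)
    (B : Set (IrrCharacter G)) (u : G) (hu : orderOf u = 2)
    [Fintype (Subgroup.centralizer ({u} : Set G))]
    (β : Set (IrrCharacter (Subgroup.centralizer ({u} : Set G)))) (hβb : IsPBlock M β)
    (hβ : IsInducedBlock M (Subgroup.centralizer ({u} : Set G)) β B)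
    (hcard : Nat.card β = 4) (hrank : blockRank 2 β = 1)
    (hreg : ∀ ψ ∈ β, ∀ ψ' ∈ β, ∀ y : Subgroup.centralizer ({u} : Set G), ¬ 2 ∣ orderOf y →
      (ψ : Subgroup.centralizer ({u} : Set G) → ℂ) y =
        (ψ' : Subgroup.centralizer ({u} : Set G) → ℂ) y) :
    ∃ D : IrrCharacter G → ℤ,
      (∀ χ : IrrCharacter G, ∀ ψ ∈ β,
        4 * classInner (secRes 2 u (χ : G → ℂ))
          (ψ : Subgroup.centralizer ({u} : Set G) → ℂ) = (D χ : ℂ)) ∧
      ∑ᶠ χ ∈ B, (D χ) ^ 2 = 4 ∧ ∀ χ, χ ∉ B → D χ = 0 := by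
  classical
  haveI : Fact (Nat.Prime 2) := ⟨Nat.prime_two⟩
  have hMp := isPrime_of_isPModular hM
  haveI := Fintype.ofFinite G
  haveI := finite_irrCharacter G
  haveI := Fintype.ofFinite (IrrCharacter G)
  haveI := finite_irrCharacter (Subgroup.centralizer ({u} : Set G))
  haveI := Fintype.ofFinite (IrrCharacter (Subgroup.centralizer ({u} : Set G)))
  have htp : ∃ k : ℕ, orderOf u = 2 ^ k := ⟨1, by rw [hu]; rfl⟩
  -- the central involution
  have huC : u ∈ Subgroup.centralizer ({u} : Set G) := by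
    rw [Subgroup.mem_centralizer_iff]
    intro h hh
    rw [Set.mem_singleton_iff] at hh
    rw [hh]
  obtain ⟨z, hz⟩ : ∃ z : Subgroup.centralizer ({u} : Set G), (z : G) = u := ⟨⟨u, huC⟩, rfl⟩
  have hz2 : orderOf z = 2 := by rw [← Subgroup.orderOf_coe, hz, hu]
  have hzc : ∀ c : Subgroup.centralizer ({u} : Set G), z * c = c * z := by
    intro c
    apply Subtype.ext
    rw [Subgroup.coe_mul, Subgroup.coe_mul, hz]
    exact Subgroup.mem_centralizer_iff.mp c.2 u rfl
  obtain ⟨η₀, hη₀⟩ := isPBlock_nonempty hMp hβb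
  -- signs
  have hsign : ∀ ψ : IrrCharacter (Subgroup.centralizer ({u} : Set G)), ∃ s : ℤ,
      ∀ c, (ψ : Subgroup.centralizer ({u} : Set G) → ℂ) (z * c) =
        (s : ℂ) * (ψ : Subgroup.centralizer ({u} : Set G) → ℂ) c := by
    intro ψ
    obtain ⟨s, hs, hsc⟩ := exists_sign z hz2 hzc ψ
    rcases hs with rfl | rfl
    · exact ⟨1, fun c => by rw [hsc c]; push_cast; ring⟩
    · exact ⟨-1, fun c => by rw [hsc c]; push_cast; ring⟩
  choose ε hε using hsign
  -- restriction multiplicities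
  have hres : ∀ χ : IrrCharacter G,
      ∃ m : IrrCharacter (Subgroup.centralizer ({u} : Set G)) → ℕ,
      ∀ c : Subgroup.centralizer ({u} : Set G), (χ : G → ℂ) (c : G) =
        ∑ ψ : IrrCharacter (Subgroup.centralizer ({u} : Set G)),
          (m ψ : ℂ) * (ψ : Subgroup.centralizer ({u} : Set G) → ℂ) c := by
    intro χ
    obtain ⟨m, -, hm⟩ := Cfsg.Agent.Lib.Helper16.FR2.char_expand_nat _
      (Cfsg.Agent.Lib.CT.Ops.isCharacter_restrict (Subgroup.centralizer ({u} : Set G))
        (isCharacter_of_irr χ.2))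
    exact ⟨m, hm⟩
  choose m hm using hres
  obtain ⟨D, hD⟩ : ∃ D : IrrCharacter G → ℤ, ∀ χ, D χ =
      ∑ ψ : IrrCharacter (Subgroup.centralizer ({u} : Set G)),
        if ψ ∈ β then (m χ ψ : ℤ) * ε ψ else 0 := ⟨_, fun _ => rfl⟩
  obtain ⟨q, hq⟩ : ∃ q : ℂ, q =
      classInner (pRegularPart 2 (η₀ : Subgroup.centralizer ({u} : Set G) → ℂ))
        (η₀ : Subgroup.centralizer ({u} : Set G) → ℂ) := ⟨_, rfl⟩
  have hpreg : ∀ ψ ∈ β, pRegularPart 2 (ψ : Subgroup.centralizer ({u} : Set G) → ℂ) =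
      pRegularPart 2 (η₀ : Subgroup.centralizer ({u} : Set G) → ℂ) := by
    intro ψ hψ
    exact pRegularPart_congr 2 (fun y hy => hreg ψ hψ η₀ hη₀ y hy)
  have hinner : ∀ ψ' ψ : IrrCharacter (Subgroup.centralizer ({u} : Set G)), ψ ∈ β →
      classInner (pRegularPart 2 (ψ' : Subgroup.centralizer ({u} : Set G) → ℂ))
        (ψ : Subgroup.centralizer ({u} : Set G) → ℂ) = if ψ' ∈ β then q else 0 := by
    intro ψ' ψ hψ
    by_cases hψ' : ψ' ∈ β
    · rw [if_pos hψ', hpreg ψ' hψ', ← classInner_pRegularPart_right, hpreg ψ hψ,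
        classInner_pRegularPart_right, hq]
    · rw [if_neg hψ']
      apply classInner_pRegularPart_eq_zero 2 M hM
        (blockOf M (ψ' : Subgroup.centralizer ({u} : Set G) → ℂ)) (isPBlock_blockOf ψ') ψ' ψ
        (mem_blockOf_self hMp ψ')
      intro h
      apply hψ'
      have h1 := blockOf_eq_of_mem hMp h
      have h2 := isPBlock_eq_blockOf hMp hβb hψ
      rw [h2, h1]
      exact mem_blockOf_self hMp ψ'
  have hcardβ : (Finset.univ.filter
      (fun ψ : IrrCharacter (Subgroup.centralizer ({u} : Set G)) => ψ ∈ β)).card = 4 := by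
    haveI := Fintype.ofFinite β
    rw [← hcard, Nat.card_eq_fintype_card, Fintype.card_of_subtype (Finset.univ.filter
      (fun ψ : IrrCharacter (Subgroup.centralizer ({u} : Set G)) => ψ ∈ β)) (by simp)]
  have hq4 : 4 * q = 1 := by
    have h1 := blockRank_eq_sum 2 M hM β hβb
    rw [hrank] at h1
    have h2 : ∀ ψ : IrrCharacter (Subgroup.centralizer ({u} : Set G)),
        (if ψ ∈ β then classInner (pRegularPart 2 (ψ : Subgroup.centralizer ({u} : Set G) → ℂ))
          (ψ : Subgroup.centralizer ({u} : Set G) → ℂ) else 0) = if ψ ∈ β then q else 0 := by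
      intro ψ
      by_cases hψ : ψ ∈ β
      · rw [if_pos hψ, if_pos hψ, hinner ψ ψ hψ, if_pos hψ]
      · rw [if_neg hψ, if_neg hψ]
    rw [Finset.sum_congr rfl (fun ψ _ => h2 ψ), ← Finset.sum_filter, Finset.sum_const,
      nsmul_eq_mul, hcardβ] at h1
    push_cast at h1
    exact h1.symm
  -- the section restriction
  have hsec : ∀ χ : IrrCharacter G, ∀ ψ ∈ β,
      classInner (secRes 2 u (χ : G → ℂ)) (ψ : Subgroup.centralizer ({u} : Set G) → ℂ) =
        q * (D χ : ℂ) := by
    intro χ ψ hψ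
    have h1 : secRes 2 u (χ : G → ℂ) =
        ∑ ψ' : IrrCharacter (Subgroup.centralizer ({u} : Set G)),
          ((m χ ψ' : ℂ) * (ε ψ' : ℂ)) •
            pRegularPart 2 (ψ' : Subgroup.centralizer ({u} : Set G) → ℂ) := by
      funext c
      rw [Finset.sum_apply]
      by_cases hc : 2 ∣ orderOf c
      · rw [secRes_of_singular 2 u _ hc]
        symm
        apply Finset.sum_eq_zero
        intro ψ' _
        rw [Pi.smul_apply, pRegularPart_of_singular 2 _ hc, smul_zero]
      · rw [secRes_of_regular 2 u _ hc]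
        have h2 : u * (c : G) = ((z * c : Subgroup.centralizer ({u} : Set G)) : G) := by
          rw [Subgroup.coe_mul, hz]
        rw [h2, hm χ (z * c)]
        apply Finset.sum_congr rfl
        intro ψ' _
        rw [Pi.smul_apply, pRegularPart_of_regular 2 _ hc, hε ψ' c, smul_eq_mul]
        ring
    have h3 : classInner (secRes 2 u (χ : G → ℂ))
        (ψ : Subgroup.centralizer ({u} : Set G) → ℂ) =
        ∑ ψ' : IrrCharacter (Subgroup.centralizer ({u} : Set G)),
          ((m χ ψ' : ℂ) * (ε ψ' : ℂ)) *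
            classInner (pRegularPart 2 (ψ' : Subgroup.centralizer ({u} : Set G) → ℂ))
              (ψ : Subgroup.centralizer ({u} : Set G) → ℂ) := by
      rw [h1, ← innerL_apply, map_sum]
      apply Finset.sum_congr rfl
      intro ψ' _
      rw [map_smul, innerL_apply, smul_eq_mul]
    rw [h3, hD χ, Int.cast_sum, Finset.mul_sum]
    apply Finset.sum_congr rfl
    intro ψ' _
    rw [hinner ψ' ψ hψ]
    by_cases hψ' : ψ' ∈ β
    · rw [if_pos hψ', if_pos hψ']
      push_cast
      ring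
    · rw [if_neg hψ', if_neg hψ']
      push_cast
      ring
  have hq0 : q ≠ 0 := by
    intro h0
    rw [h0, mul_zero] at hq4
    exact zero_ne_one hq4
  have hqval : q = 1 / 4 := by
    rw [eq_div_iff (by norm_num : (4 : ℂ) ≠ 0), mul_comm]
    exact hq4
  have hη₀T : η₀ ∈ secT M u B := by
    show IsInducedBlock M (Subgroup.centralizer ({u} : Set G))
      (blockOf M (η₀ : Subgroup.centralizer ({u} : Set G) → ℂ)) B
    rw [← isPBlock_eq_blockOf hMp hβb hη₀]
    exact hβ
  have hDzero : ∀ χ, χ ∉ B → D χ = 0 := by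
    intro χ hχ
    have h1 := coeff_zero_right 2 M hM u htp B χ hχ η₀ hη₀T
    rw [hsec χ η₀ hη₀] at h1
    have h2 := (mul_eq_zero.mp h1).resolve_left hq0
    exact_mod_cast h2
  have hsumall : ∑ χ : IrrCharacter G, (D χ) ^ 2 = 4 := by
    have h1 := sum_sq_classInner_secRes (p := 2) Nat.prime_two htp η₀
    rw [← hq] at h1
    have h2 : ∀ χ : IrrCharacter G,
        classInner (secRes 2 u (χ : G → ℂ)) (η₀ : Subgroup.centralizer ({u} : Set G) → ℂ) *
          conj (classInner (secRes 2 u (χ : G → ℂ))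
            (η₀ : Subgroup.centralizer ({u} : Set G) → ℂ)) =
        (1 / 16 : ℂ) * (D χ : ℂ) ^ 2 := by
      intro χ
      rw [hsec χ η₀ hη₀, hqval, map_mul, map_intCast]
      have h3 : conj (1 / 4 : ℂ) = 1 / 4 := by
        rw [map_div₀, map_one]
        congr 1
        exact Complex.conj_ofNat 4
      rw [h3]
      ring
    rw [Finset.sum_congr rfl (fun χ _ => h2 χ), ← Finset.mul_sum, hqval] at h1
    have h4 : ((∑ χ : IrrCharacter G, (D χ) ^ 2 : ℤ) : ℂ) = ((4 : ℤ) : ℂ) := by
      rw [Int.cast_sum]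
      push_cast
      linear_combination 16 * h1
    exact_mod_cast h4
  refine ⟨D, ?_, ?_, hDzero⟩
  · intro χ ψ hψ
    rw [hsec χ ψ hψ, ← mul_assoc, hq4, one_mul]
  · have hBfin : B.Finite := Set.toFinite B
    rw [finsum_mem_eq_finite_toFinset_sum _ hBfin, ← hsumall]
    apply Finset.sum_subset (Finset.subset_univ _)
    intro χ _ hχ
    rw [hDzero χ (fun h => hχ ((Set.Finite.mem_toFinset hBfin).mpr h))]
    norm_num

end Cfsg.Agent.Lib.Helper77.BPKlein5
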