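import Cfsg.Agent.Lib.Helper77.BPKlein4
import Cfsg.Agent.Lib.Helper77.BPKlein5
import Cfsg.Agent.Lib.Helper80.Integrality
import Cfsg.Agent.S4637

/-!
# Character values of a block with Klein four defect group

`klein_structure`: for a 2-block `B` with Klein four defect group there are signs `D χ` such
that, with `a χ x = D χ * χ x`:
* in the nilpotent case (`D = 1`): the `a χ` agree on 2-regular elements, sum to zero at
  2-singular elements, and their differences at 2-singular elements are divisible by `2` and,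
  after doubling, by `|C_G(x)|`;
* otherwise: the `a χ` agree on 2-singular elements, sum to zero at 2-regular elements, and
  their differences at 2-regular elements are divisible by `|C_G(x)|`.
-/

set_option autoImplicit false

namespace Cfsg.Agent.Lib.Helper77.BPKlein6

open Cfsg Cfsg.Agent.Lib.Helper77.LocalRing Cfsg.Agent.Lib.Helper77.BPNormal
  Cfsg.Agent.Lib.Helper77.BPEquiv Cfsg.Agent.Lib.Helper77.BPEquiv2
  Cfsg.Agent.Lib.Helper77.BPConjMax Cfsg.Agent.Lib.Helper77.BPFix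
  Cfsg.Agent.Lib.Helper77.BPSub Cfsg.Agent.Lib.Helper77.BPSubpair
  Cfsg.Agent.Lib.Helper77.BPUp Cfsg.Agent.Lib.Helper77.BPInd
  Cfsg.Agent.Lib.Helper77.BPFus Cfsg.Agent.Lib.Helper77.BPMax2
  Cfsg.Agent.Lib.Helper77.BPTransport Cfsg.Agent.Lib.Helper77.BPCyc
  Cfsg.Agent.Lib.Helper77.BPStab Cfsg.Agent.Lib.Helper77.BPAb
  Cfsg.Agent.Lib.Helper77.BPKlein1 Cfsg.Agent.Lib.Helper77.BPKlein2
  Cfsg.Agent.Lib.Helper77.BPKlein4 Cfsg.Agent.Lib.Helper77.BPKlein5
  Cfsg.Agent.Lib.Helper77.CentralChar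
  Cfsg.Agent.Lib.Helper33.Conj Cfsg.Agent.Lib.Helper16.ZR Cfsg.Agent.Lib.Helper16.BPLocal
  Cfsg.Agent.Lib.Helper16.Defect Cfsg.Agent.Lib.CT.Wedderburn
  Cfsg.Agent.Lib.Helper75.Section Cfsg.Agent.Lib.Helper75.Section2
  Cfsg.Agent.Lib.Helper75.Section3 Cfsg.Agent.Lib.Helper75.BlockRank
  Cfsg.Agent.Lib.Helper75.BlockOrth Cfsg.Agent.Lib.Helper75.DefOne
  Cfsg.Agent.Lib.CT.SectionOrth
open scoped ComplexConjugate

universe u
variable {G : Type u} [Group G] {M : Ideal AlgInt}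

/-- The generalized decomposition numbers of a subsection with local block of type `(4, 1)`
of a block with four characters are signs. -/
theorem subsection_signs [Finite G] (M : Ideal AlgInt) (hM : IsPModular 2 M)
    (B : Set (IrrCharacter G)) (hB4 : Nat.card B = 4) (u : G) (hu : orderOf u = 2)
    [Fintype (Subgroup.centralizer ({u} : Set G))]
    (β : Set (IrrCharacter (Subgroup.centralizer ({u} : Set G)))) (hβb : IsPBlock M β)
    (hβ : IsInducedBlock M (Subgroup.centralizer ({u} : Set G)) β B)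
    (hcard : Nat.card β = 4) (hrank : blockRank 2 β = 1)
    (hreg : ∀ ψ ∈ β, ∀ ψ' ∈ β, ∀ y : Subgroup.centralizer ({u} : Set G), ¬ 2 ∣ orderOf y →
      (ψ : Subgroup.centralizer ({u} : Set G) → ℂ) y =
        (ψ' : Subgroup.centralizer ({u} : Set G) → ℂ) y) :
    ∃ D : IrrCharacter G → ℤ,
      (∀ χ : IrrCharacter G, ∀ ψ ∈ β,
        4 * classInner (secRes 2 u (χ : G → ℂ))
          (ψ : Subgroup.centralizer ({u} : Set G) → ℂ) = (D χ : ℂ)) ∧
      ∀ χ ∈ B, D χ = 1 ∨ D χ = -1 := by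
  classical
  haveI : Fact (Nat.Prime 2) := ⟨Nat.prime_two⟩
  have hMp := isPrime_of_isPModular hM
  haveI := Fintype.ofFinite G
  haveI := finite_irrCharacter G
  haveI := Fintype.ofFinite (IrrCharacter G)
  have htp : ∃ k : ℕ, orderOf u = 2 ^ k := ⟨1, by rw [hu]; rfl⟩
  have hu1 : u ≠ 1 := by
    rintro rfl
    rw [orderOf_one] at hu
    omega
  obtain ⟨D, hD4, hsum, hzero⟩ := subsection_numbers M hM B u hu β hβb hβ hcard hrank hreg
  obtain ⟨η₀, hη₀⟩ := isPBlock_nonempty hMp hβb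
  refine ⟨D, hD4, ?_⟩
  have hBfin : B.Finite := Set.toFinite B
  have hcf : IsClassFunction G (secInd 2 u (η₀ : Subgroup.centralizer ({u} : Set G) → ℂ)) :=
    secInd_isClassFunction 2 u _
  have h1 := Cfsg.Agent.Lib.CT.Orth.classFunction_expand_sum _ hcf 1
  have hpp1 : IsPPart 2 (1 : G) 1 :=
    ⟨1, one_mul 1, Commute.one_left 1, ⟨0, by rw [orderOf_one, pow_zero]⟩, by
      rw [orderOf_one]; norm_num⟩
  rw [secInd_eq_zero Nat.prime_two htp _ hpp1 (fun h => hu1 (isConj_one_right.mp h))] at h1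
  have h2 : ∀ χ : IrrCharacter G,
      classInner (secInd 2 u (η₀ : Subgroup.centralizer ({u} : Set G) → ℂ)) (χ : G → ℂ) *
        (χ : G → ℂ) 1 = (1 / 4 : ℂ) * (((charDegree (χ : G → ℂ) : ℤ) * D χ : ℤ) : ℂ) := by
    intro χ
    have h3 := classInner_secRes_irr 2 u (χ : G → ℂ)
      (Cfsg.Agent.Lib.CT.Orth.irr_isClassFunction χ)
      (η₀ : Subgroup.centralizer ({u} : Set G) → ℂ)
    have h4 : classInner (secInd 2 u (η₀ : Subgroup.centralizer ({u} : Set G) → ℂ))
        (χ : G → ℂ) = conj (classInner (secRes 2 u (χ : G → ℂ))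
          (η₀ : Subgroup.centralizer ({u} : Set G) → ℂ)) := by
      rw [h3, Complex.conj_conj]
    have h5 : classInner (secRes 2 u (χ : G → ℂ))
        (η₀ : Subgroup.centralizer ({u} : Set G) → ℂ) = (1 / 4 : ℂ) * (D χ : ℂ) := by
      rw [← hD4 χ η₀ hη₀]
      ring
    have h6 : conj (1 / 4 : ℂ) = 1 / 4 := by
      rw [map_div₀, map_one]
      congr 1
      exact Complex.conj_ofNat 4
    rw [h4, h5, map_mul, map_intCast, ← char_natCast_charDegree (isCharacter_of_irr χ.2), h6]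
    push_cast
    ring
  rw [Finset.sum_congr rfl (fun χ _ => h2 χ), ← Finset.mul_sum] at h1
  have h7 : ∑ χ : IrrCharacter G, (charDegree (χ : G → ℂ) : ℤ) * D χ = 0 := by
    have h8 := (mul_eq_zero.mp h1.symm).resolve_left (by norm_num)
    exact_mod_cast h8
  have h9 : ∑ χ ∈ hBfin.toFinset, (charDegree (χ : G → ℂ) : ℤ) * D χ = 0 := by
    rw [← h7]
    apply Finset.sum_subset (Finset.subset_univ _)
    intro χ _ hχ
    rw [hzero χ (fun h => hχ ((Set.Finite.mem_toFinset hBfin).mpr h)), mul_zero]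
  have h10 : ∑ χ ∈ hBfin.toFinset, D χ ^ 2 = 4 := by
    rw [← finsum_mem_eq_finite_toFinset_sum _ hBfin]
    exact hsum
  have hcardS : hBfin.toFinset.card = 4 := by
    rw [← hB4, Nat.card_coe_set_eq, Set.ncard_eq_toFinset_card B hBfin]
  have h11 := sq_eq_one_of_card hBfin.toFinset D (fun χ => (charDegree (χ : G → ℂ) : ℤ))
    (fun χ _ => by exact_mod_cast irr_charDegree_pos χ.2) h10 h9 hcardS
  intro χ hχ
  exact h11 χ ((Set.Finite.mem_toFinset hBfin).mpr hχ)

/-- **The nilpotent case.** -/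
theorem typeB [Finite G] (hM : IsPModular 2 M) {B : Set (IrrCharacter G)} {P : Subgroup G}
    {c : Set (IrrCharacter (Subgroup.centralizer (P : Set G)))}
    (hmax : IsMaximalBrauerPair 2 M B P c) (hV : IsKleinFour P)
    (hnil : ∀ t ∈ Subgroup.normalizer (P : Set G),
      StabilizesBlock (Subgroup.centralizer (P : Set G)) c t →
        t ∈ Subgroup.centralizer (P : Set G)) :
    Nat.card B = 4 ∧
    (∀ χ ∈ B, ∀ χ' ∈ B, ∀ x : G, ¬ 2 ∣ orderOf x → (χ : G → ℂ) x = (χ' : G → ℂ) x) ∧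
    (∀ x : G, 2 ∣ orderOf x → ∑ᶠ χ ∈ B, (χ : G → ℂ) x = 0) ∧
    (∀ χ ∈ B, ∀ χ' ∈ B, ∀ x : G, 2 ∣ orderOf x →
      MemLocalRing M (((χ : G → ℂ) x - (χ' : G → ℂ) x) / 2) ∧
      MemLocalRing M (2 * ((χ : G → ℂ) x - (χ' : G → ℂ) x) /
        (Nat.card (Subgroup.centralizer ({x} : Set G)) : ℂ))) := by
  classical
  haveI : Fact (Nat.Prime 2) := ⟨Nat.prime_two⟩
  have hMp := isPrime_of_isPModular hM
  have hB : IsPBlock M B := hmax.1.2.1
  obtain ⟨hsq, hcomm, -, -⟩ := klein_elems hV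
  have hcardP : Nat.card P = 4 := hV.card_four
  have hPD : IsDefectGroup 2 M B P := isDefectGroup_of_maximal hM hmax
  obtain ⟨hl, hk⟩ := abelian_nilpotent hM hmax hcomm hnil
  have hk4 : Nat.card B = 4 := by rw [hk, hcardP]
  have hagree := agree_of_card hM B hB P hPD hl hk
  haveI := finite_irrCharacter G
  have hBfin : B.Finite := Set.toFinite B
  obtain ⟨χ₀, hχ₀⟩ := isPBlock_nonempty hMp hB
  have hreg1 : ¬ 2 ∣ orderOf (1 : G) := by
    rw [orderOf_one]
    norm_num
  refine ⟨hk4, hagree, ?_, ?_⟩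
  · intro x hx
    have h1 := weak_block_orthogonality 2 M hM B hB 1 x hreg1 hx
    have h2 : ∑ᶠ χ ∈ B, (χ : G → ℂ) 1 * conj ((χ : G → ℂ) x) =
        (χ₀ : G → ℂ) 1 * conj (∑ᶠ χ ∈ B, (χ : G → ℂ) x) := by
      rw [finsum_mem_eq_finite_toFinset_sum _ hBfin, finsum_mem_eq_finite_toFinset_sum _ hBfin,
        map_sum, Finset.mul_sum]
      apply Finset.sum_congr rfl
      intro χ hχ
      rw [hagree χ ((Set.Finite.mem_toFinset hBfin).mp hχ) χ₀ hχ₀ 1 hreg1]
    rw [h2] at h1
    have h3 := (mul_eq_zero.mp h1).resolve_left (irr_one_ne_zero χ₀.2)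
    exact (map_eq_zero _).mp h3
  · intro χ hχ χ' hχ' x hx
    obtain ⟨u, hupart⟩ := exists_isPPart 2 Nat.prime_two x
    obtain ⟨y, hxy, hcomm_uy, hupow, hyreg⟩ := hupart
    have hu1 : u ≠ 1 := by
      rintro rfl
      rw [one_mul] at hxy
      rw [hxy] at hyreg
      exact hyreg hx
    haveI : Fintype (Subgroup.centralizer ({u} : Set G)) := Fintype.ofFinite _
    haveI := finite_irrCharacter (Subgroup.centralizer ({u} : Set G))
    haveI : Fintype (IrrCharacter (Subgroup.centralizer ({u} : Set G))) := Fintype.ofFinite _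
    have hyC : y ∈ Subgroup.centralizer ({u} : Set G) := by
      rw [Subgroup.mem_centralizer_iff]
      intro h hh
      rw [Set.mem_singleton_iff] at hh
      rw [hh]
      exact hcomm_uy.eq
    obtain ⟨yC, hyC'⟩ : ∃ yC : Subgroup.centralizer ({u} : Set G), (yC : G) = y :=
      ⟨⟨y, hyC⟩, rfl⟩
    have hyCreg : ¬ 2 ∣ orderOf yC := by
      rw [← Subgroup.orderOf_coe, hyC']
      exact hyreg
    have hexp : ∀ χ ∈ B, (χ : G → ℂ) x =
        ∑ ψ : IrrCharacter (Subgroup.centralizer ({u} : Set G)),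
          if ψ ∈ secT M u B then classInner (secRes 2 u (χ : G → ℂ))
            (ψ : Subgroup.centralizer ({u} : Set G) → ℂ) *
              (ψ : Subgroup.centralizer ({u} : Set G) → ℂ) yC else 0 := by
      intro χ hχ
      have h1 := secRes_eq_sum 2 M hM u hupow B hB χ hχ yC
      rw [secRes_of_regular 2 u _ hyCreg, hyC', hxy] at h1
      exact h1
    obtain ⟨n, hn⟩ : ∃ n : ℂ, n = (Nat.card (Subgroup.centralizer ({x} : Set G)) : ℂ) :=
      ⟨_, rfl⟩
    obtain ⟨F, hF⟩ : ∃ F : IrrCharacter (Subgroup.centralizer ({u} : Set G)) → ℂ, ∀ ψ, F ψ =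
        (classInner (secRes 2 u (χ : G → ℂ)) (ψ : Subgroup.centralizer ({u} : Set G) → ℂ) -
          classInner (secRes 2 u (χ' : G → ℂ))
            (ψ : Subgroup.centralizer ({u} : Set G) → ℂ)) *
          (ψ : Subgroup.centralizer ({u} : Set G) → ℂ) yC := ⟨_, fun _ => rfl⟩
    obtain ⟨S, hS⟩ : ∃ S : Finset (IrrCharacter (Subgroup.centralizer ({u} : Set G))),
        ∀ ψ, ψ ∈ S ↔ ψ ∈ secT M u B :=
      ⟨Finset.univ.filter (fun ψ => ψ ∈ secT M u B), fun ψ => by simp⟩
    have hdiff : (χ : G → ℂ) x - (χ' : G → ℂ) x = ∑ ψ ∈ S, F ψ := by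
      have hSeq : S = Finset.univ.filter (fun ψ => ψ ∈ secT M u B) := by
        ext ψ
        rw [hS ψ]
        simp
      rw [hexp χ hχ, hexp χ' hχ', ← Finset.sum_sub_distrib, hSeq, Finset.sum_filter]
      apply Finset.sum_congr rfl
      intro ψ _
      by_cases hψ : ψ ∈ secT M u B
      · rw [if_pos hψ, if_pos hψ, if_pos hψ, hF ψ]
        ring
      · rw [if_neg hψ, if_neg hψ, if_neg hψ, sub_zero]
    -- the package for each block of the section
    have hpack : ∀ ψ ∈ secT M u B,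
        (∃ T : Finset (IrrCharacter (Subgroup.centralizer ({u} : Set G))), T.card = 4 ∧
          ∀ ψ', ψ' ∈ T ↔ ψ' ∈ blockOf M (ψ : Subgroup.centralizer ({u} : Set G) → ℂ)) ∧
        (∀ ψ' ∈ blockOf M (ψ : Subgroup.centralizer ({u} : Set G) → ℂ), F ψ' = F ψ) ∧
        (∃ k : ℤ, F ψ = (k : ℂ) / 2 * (ψ : Subgroup.centralizer ({u} : Set G) → ℂ) yC) ∧
        MemLocalRing M (4 * (ψ : Subgroup.centralizer ({u} : Set G) → ℂ) yC / n) := by
      intro ψ hψ
      obtain ⟨hu2, hβb, hβl, hβk, hβreg, Dg, hDg, hDgcard⟩ :=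
        block_props hM hmax hV hupow hu1
          (blockOf M (ψ : Subgroup.centralizer ({u} : Set G) → ℂ)) hψ
      obtain ⟨D, hD4, hDpm⟩ := subsection_signs M hM B hk4 u hu2
        (blockOf M (ψ : Subgroup.centralizer ({u} : Set G) → ℂ)) hβb hψ hβk hβl hβreg
      have hψself := mem_blockOf_self hMp ψ
      have hFval : ∀ ψ' ∈ blockOf M (ψ : Subgroup.centralizer ({u} : Set G) → ℂ), F ψ' =
          ((D χ : ℂ) - (D χ' : ℂ)) / 4 *
            (ψ : Subgroup.centralizer ({u} : Set G) → ℂ) yC := by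
        intro ψ' hψ'
        rw [hF ψ', ← hD4 χ ψ' hψ', ← hD4 χ' ψ' hψ', hβreg ψ' hψ' ψ hψself yC hyCreg]
        ring
      refine ⟨?_, ?_, ?_, ?_⟩
      · refine ⟨Finset.univ.filter
          (fun ψ' => ψ' ∈ blockOf M (ψ : Subgroup.centralizer ({u} : Set G) → ℂ)), ?_,
          fun ψ' => by simp⟩
        haveI := Fintype.ofFinite (blockOf M (ψ : Subgroup.centralizer ({u} : Set G) → ℂ))
        rw [← hβk, Nat.card_eq_fintype_card, Fintype.card_of_subtype (Finset.univ.filter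
          (fun ψ' => ψ' ∈ blockOf M (ψ : Subgroup.centralizer ({u} : Set G) → ℂ)))
          (by simp)]
      · intro ψ' hψ'
        rw [hFval ψ' hψ', hFval ψ hψself]
      · have hk : ∃ k : ℤ, D χ - D χ' = 2 * k := by
          rcases hDpm χ hχ with h1 | h1 <;> rcases hDpm χ' hχ' with h2 | h2
          · exact ⟨0, by rw [h1, h2]; norm_num⟩
          · exact ⟨1, by rw [h1, h2]; norm_num⟩
          · exact ⟨-1, by rw [h1, h2]; norm_num⟩
          · exact ⟨0, by rw [h1, h2]; norm_num⟩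
        obtain ⟨k, hk⟩ := hk
        refine ⟨k, ?_⟩
        rw [hFval ψ hψself]
        have hk' : (D χ : ℂ) - (D χ' : ℂ) = 2 * (k : ℂ) := by exact_mod_cast hk
        rw [hk']
        ring
      · have h1 := defect_bound hM (blockOf M (ψ : Subgroup.centralizer ({u} : Set G) → ℂ))
          hβb Dg hDg ψ hψself yC
        rw [hDgcard, card_centralizer_mul Nat.prime_two hupow yC hyCreg, hyC', hxy, ← hn] at h1
        exact_mod_cast h1
    have hSpack : ∀ ψ ∈ S, ∃ T : Finset (IrrCharacter (Subgroup.centralizer ({u} : Set G))),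
        T.card = 4 ∧ ∀ ψ', ψ' ∈ T ↔ (ψ' ∈ S ∧
          blockOf M (ψ' : Subgroup.centralizer ({u} : Set G) → ℂ) =
            blockOf M (ψ : Subgroup.centralizer ({u} : Set G) → ℂ)) := by
      intro ψ hψ
      have hψT := (hS ψ).mp hψ
      obtain ⟨⟨T, hT4, hT⟩, -, -, -⟩ := hpack ψ hψT
      refine ⟨T, hT4, fun ψ' => ?_⟩
      rw [hT ψ']
      constructor
      · intro h
        have heq := blockOf_eq_of_mem hMp h
        refine ⟨(hS ψ').mpr ?_, heq⟩
        show IsInducedBlock M _ (blockOf M (ψ' : Subgroup.centralizer ({u} : Set G) → ℂ)) B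
        rw [heq]
        exact hψT
      · rintro ⟨-, heq⟩
        rw [← heq]
        exact mem_blockOf_self hMp ψ'
    have hgroup : ∀ κ : ℂ, (∀ ψ ∈ S, MemLocalRing M (κ * F ψ)) →
        MemLocalRing M ((∑ ψ ∈ S, κ * F ψ) / 4) := by
      intro κ hκ
      apply memLocalRing_sum_div_four hMp S
        (fun ψ => blockOf M (ψ : Subgroup.centralizer ({u} : Set G) → ℂ))
        (fun ψ => κ * F ψ) hSpack _ hκ
      intro ψ hψ ψ' hψ' heq
      have h1 : ψ' ∈ blockOf M (ψ : Subgroup.centralizer ({u} : Set G) → ℂ) := by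
        rw [← heq]
        exact mem_blockOf_self hMp ψ'
      show κ * F ψ' = κ * F ψ
      rw [(hpack ψ ((hS ψ).mp hψ)).2.1 ψ' h1]
    constructor
    · have h1 := hgroup 2 (by
        intro ψ hψ
        obtain ⟨-, -, ⟨k, hk⟩, -⟩ := hpack ψ ((hS ψ).mp hψ)
        rw [hk]
        have h2 : (2 : ℂ) * ((k : ℂ) / 2 * (ψ : Subgroup.centralizer ({u} : Set G) → ℂ) yC) =
            (k : ℂ) * (ψ : Subgroup.centralizer ({u} : Set G) → ℂ) yC := by ring
        rw [h2]
        exact memLocalRing_mul hMp (memLocalRing_intCast hMp k)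
          (memLocalRing_of_isIntegral hMp
            (Cfsg.Agent.Lib.Helper80.Integrality.isIntegral_irrCharacter ψ yC)))
      rw [← Finset.mul_sum, ← hdiff] at h1
      have h3 : ((χ : G → ℂ) x - (χ' : G → ℂ) x) / 2 =
          2 * ((χ : G → ℂ) x - (χ' : G → ℂ) x) / 4 := by ring
      rw [h3]
      exact h1
    · have h1 := hgroup (8 / n) (by
        intro ψ hψ
        obtain ⟨-, -, ⟨k, hk⟩, h4⟩ := hpack ψ ((hS ψ).mp hψ)
        rw [hk]
        have h2 : (8 / n : ℂ) * ((k : ℂ) / 2 * (ψ : Subgroup.centralizer ({u} : Set G) → ℂ) yC) =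
            (k : ℂ) * (4 * (ψ : Subgroup.centralizer ({u} : Set G) → ℂ) yC / n) := by ring
        rw [h2]
        exact memLocalRing_mul hMp (memLocalRing_intCast hMp k) h4)
      rw [← Finset.mul_sum, ← hdiff] at h1
      have h3 : 2 * ((χ : G → ℂ) x - (χ' : G → ℂ) x) / n =
          8 / n * ((χ : G → ℂ) x - (χ' : G → ℂ) x) / 4 := by ring
      rw [← hn, h3]
      exact h1

end Cfsg.Agent.Lib.Helper77.BPKlein6
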