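import Cfsg.Agent.Lib.Helper77.BPKlein6

/-!
# Character values of a block with Klein four defect group, non-nilpotent case, and the
uniform statement `klein_structure`.
-/

set_option autoImplicit false

namespace Cfsg.Agent.Lib.Helper77.BPKlein7

open Cfsg Cfsg.Agent.Lib.Helper77.LocalRing Cfsg.Agent.Lib.Helper77.BPNormal
  Cfsg.Agent.Lib.Helper77.BPEquiv Cfsg.Agent.Lib.Helper77.BPEquiv2
  Cfsg.Agent.Lib.Helper77.BPConjMax Cfsg.Agent.Lib.Helper77.BPFix
  Cfsg.Agent.Lib.Helper77.BPSub Cfsg.Agent.Lib.Helper77.BPSubpair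
  Cfsg.Agent.Lib.Helper77.BPUp Cfsg.Agent.Lib.Helper77.BPInd
  Cfsg.Agent.Lib.Helper77.BPFus Cfsg.Agent.Lib.Helper77.BPMax2
  Cfsg.Agent.Lib.Helper77.BPTransport Cfsg.Agent.Lib.Helper77.BPCyc
  Cfsg.Agent.Lib.Helper77.BPStab Cfsg.Agent.Lib.Helper77.BPAb
  Cfsg.Agent.Lib.Helper77.BPKlein1 Cfsg.Agent.Lib.Helper77.BPKlein2
  Cfsg.Agent.Lib.Helper77.BPKlein4 Cfsg.Agent.Lib.Helper77.BPKlein5
  Cfsg.Agent.Lib.Helper77.BPKlein6
  Cfsg.Agent.Lib.Helper77.CentralChar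
  Cfsg.Agent.Lib.Helper33.Conj Cfsg.Agent.Lib.Helper16.ZR Cfsg.Agent.Lib.Helper16.BPLocal
  Cfsg.Agent.Lib.Helper16.Defect Cfsg.Agent.Lib.CT.Wedderburn
  Cfsg.Agent.Lib.Helper75.Section Cfsg.Agent.Lib.Helper75.Section2
  Cfsg.Agent.Lib.Helper75.Section3 Cfsg.Agent.Lib.Helper75.BlockRank
  Cfsg.Agent.Lib.Helper75.BlockOrth Cfsg.Agent.Lib.Helper75.DefOne
  Cfsg.Agent.Lib.CT.SectionOrth
open scoped ComplexConjugate

universe u
variable {G : Type u} [Group G] {M : Ideal AlgInt}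

/-- **The non-nilpotent case.** -/
theorem typeA [Finite G] (hM : IsPModular 2 M) {B : Set (IrrCharacter G)} {P : Subgroup G}
    {c : Set (IrrCharacter (Subgroup.centralizer (P : Set G)))}
    (hmax : IsMaximalBrauerPair 2 M B P c) (hV : IsKleinFour P)
    (hnn : ¬ ∀ t ∈ Subgroup.normalizer (P : Set G),
      StabilizesBlock (Subgroup.centralizer (P : Set G)) c t →
        t ∈ Subgroup.centralizer (P : Set G)) :
    Nat.card B = 4 ∧ ∃ D : IrrCharacter G → ℤ, (∀ χ ∈ B, D χ = 1 ∨ D χ = -1) ∧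
      (∀ χ ∈ B, ∀ χ' ∈ B, ∀ x : G, 2 ∣ orderOf x →
        (D χ : ℂ) * (χ : G → ℂ) x = (D χ' : ℂ) * (χ' : G → ℂ) x) ∧
      (∀ x : G, ¬ 2 ∣ orderOf x → ∑ᶠ χ ∈ B, (D χ : ℂ) * (χ : G → ℂ) x = 0) ∧
      (∀ χ ∈ B, ∀ χ' ∈ B, ∀ x : G, ¬ 2 ∣ orderOf x →
        MemLocalRing M (((D χ : ℂ) * (χ : G → ℂ) x - (D χ' : ℂ) * (χ' : G → ℂ) x) /
          (Nat.card (Subgroup.centralizer ({x} : Set G)) : ℂ))) := by
  classical
  haveI : Fact (Nat.Prime 2) := ⟨Nat.prime_two⟩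
  have hMp := isPrime_of_isPModular hM
  have hB : IsPBlock M B := hmax.1.2.1
  have hPe : IsBrauerPair 2 M P c := hmax.1.1
  obtain ⟨hsq, hcomm, ⟨u₀, hu₀, hu₀1⟩, helems⟩ := klein_elems hV
  have hcardP : Nat.card P = 4 := hV.card_four
  have hPD : IsDefectGroup 2 M B P := isDefectGroup_of_maximal hM hmax
  have hind : IsInducedBlock M (Subgroup.centralizer (P : Set G)) c B :=
    (isBrauerPairOf_iff_isInducedBlock hM P hPe.1 c B).mp hmax.1
  obtain ⟨he13, hfree, htrans⟩ := inertial hM hmax hV (stab P c) (fun g => Iff.rfl)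
  have hne : (Subgroup.centralizer (P : Set G)).relIndex (stab P c) ≠ 1 := by
    intro h1
    apply hnn
    intro t htN hts
    exact (Subgroup.relIndex_eq_one.mp h1) ⟨htN, hts⟩
  have htr := htrans hne
  have hk4 : Nat.card B = 4 :=
    (Cfsg.Agent.S4637.result M hM B hB P hPD hV c hind (stab P c) (fun g => Iff.rfl) _ rfl).2.1
  haveI := finite_irrCharacter G
  have hBfin : B.Finite := Set.toFinite B
  -- the local block at `u₀`
  have hQP : Subgroup.zpowers u₀ ≤ P := Subgroup.zpowers_le.mpr hu₀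
  obtain ⟨f, hle⟩ := exists_subpair hM P c hPe (Subgroup.zpowers u₀) hQP
  have hfb : IsPBlock M f :=
    (isBrauerPair_of_le ⟨Subgroup.zpowers u₀, f⟩ ⟨P, c⟩ hle hPe).2
  obtain ⟨hfl, hfk, hfreg⟩ := local_block hM hmax hcomm hu₀ (by
    intro t htN hts htu
    apply hfree t ⟨htN, hts⟩ u₀ hu₀ hu₀1
    rw [htu, mul_inv_cancel_right]) f hle
  obtain ⟨β, hfβ, hβind, huniq, -⟩ := count_two hM hmax hu₀ hu₀1 (by
    intro v hv hv1
    obtain ⟨t, ht, htv⟩ := htr u₀ hu₀ hu₀1 v hv hv1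
    exact ⟨t, ht.1, ht.2, htv⟩) f hle
  obtain ⟨hβb, hβl, hβk, hβreg⟩ := heq_transfer (centralizer_zpowers_eq u₀) f β hfβ
    (fun K b => IsPBlock M b ∧ blockRank 2 b = 1 ∧ Nat.card b = 4 ∧
      ∀ ψ ∈ b, ∀ ψ' ∈ b, ∀ y : K, ¬ 2 ∣ orderOf y → (ψ : K → ℂ) y = (ψ' : K → ℂ) y)
    ⟨hfb, hfl, by rw [hfk, hcardP], hfreg⟩
  have hu2 : orderOf u₀ = 2 := orderOf_eq_prime (by rw [pow_two]; exact hsq u₀ hu₀) hu₀1
  have htp : ∃ k : ℕ, orderOf u₀ = 2 ^ k := ⟨1, by rw [hu2]; rfl⟩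
  haveI : Fintype (Subgroup.centralizer ({u₀} : Set G)) := Fintype.ofFinite _
  haveI := finite_irrCharacter (Subgroup.centralizer ({u₀} : Set G))
  haveI : Fintype (IrrCharacter (Subgroup.centralizer ({u₀} : Set G))) := Fintype.ofFinite _
  have hsecT : secT M u₀ B = β := by
    ext ψ
    constructor
    · intro h
      rw [← huniq _ h]
      exact mem_blockOf_self hMp ψ
    · intro hψ
      show IsInducedBlock M _ (blockOf M (ψ : Subgroup.centralizer ({u₀} : Set G) → ℂ)) B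
      rw [← isPBlock_eq_blockOf hMp hβb hψ]
      exact hβind
  obtain ⟨D, hD4, hDpm⟩ := subsection_signs M hM B hk4 u₀ hu2 β hβb hβind hβk hβl hβreg
  obtain ⟨η₀, hη₀⟩ := isPBlock_nonempty hMp hβb
  have hcardβ : (Finset.univ.filter
      (fun ψ : IrrCharacter (Subgroup.centralizer ({u₀} : Set G)) => ψ ∈ β)).card = 4 := by
    haveI := Fintype.ofFinite β
    rw [← hβk, Nat.card_eq_fintype_card, Fintype.card_of_subtype (Finset.univ.filter
      (fun ψ : IrrCharacter (Subgroup.centralizer ({u₀} : Set G)) => ψ ∈ β)) (by simp)]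
  -- values on the section of `u₀`
  have hA : ∀ χ ∈ B, ∀ y : Subgroup.centralizer ({u₀} : Set G), ¬ 2 ∣ orderOf y →
      (χ : G → ℂ) (u₀ * (y : G)) =
        (D χ : ℂ) * (η₀ : Subgroup.centralizer ({u₀} : Set G) → ℂ) y := by
    intro χ hχ y hy
    have h1 := secRes_eq_sum 2 M hM u₀ htp B hB χ hχ y
    rw [secRes_of_regular 2 u₀ _ hy] at h1
    rw [h1]
    have h2 : ∀ ψ : IrrCharacter (Subgroup.centralizer ({u₀} : Set G)),
        (if ψ ∈ secT M u₀ B then classInner (secRes 2 u₀ (χ : G → ℂ))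
            (ψ : Subgroup.centralizer ({u₀} : Set G) → ℂ) *
          (ψ : Subgroup.centralizer ({u₀} : Set G) → ℂ) y else 0) =
        if ψ ∈ β then (1 / 4 : ℂ) *
          ((D χ : ℂ) * (η₀ : Subgroup.centralizer ({u₀} : Set G) → ℂ) y) else 0 := by
      intro ψ
      rw [hsecT]
      by_cases hψ : ψ ∈ β
      · rw [if_pos hψ, if_pos hψ, ← hD4 χ ψ hψ, hβreg ψ hψ η₀ hη₀ y hy]
        ring
      · rw [if_neg hψ, if_neg hψ]
    rw [Finset.sum_congr rfl (fun ψ _ => h2 ψ), ← Finset.sum_filter, Finset.sum_const,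
      nsmul_eq_mul, hcardβ]
    push_cast
    ring
  have hreg1C : ¬ 2 ∣ orderOf (1 : Subgroup.centralizer ({u₀} : Set G)) := by
    rw [orderOf_one]
    norm_num
  have hη1 : (η₀ : Subgroup.centralizer ({u₀} : Set G) → ℂ) 1 ≠ 0 := irr_one_ne_zero η₀.2
  have hB1 : ∀ χ ∈ B, (χ : G → ℂ) u₀ =
      (D χ : ℂ) * (η₀ : Subgroup.centralizer ({u₀} : Set G) → ℂ) 1 := by
    intro χ hχ
    have h1 := hA χ hχ 1 hreg1C
    rwa [OneMemClass.coe_one, mul_one] at h1
  have hDsq : ∀ χ ∈ B, (D χ : ℂ) * (D χ : ℂ) = 1 := by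
    intro χ hχ
    rcases hDpm χ hχ with h | h <;> rw [h] <;> norm_num
  -- values at singular elements
  have hsing : ∀ x : G, 2 ∣ orderOf x → ∃ v : ℂ, ∀ χ ∈ B, (χ : G → ℂ) x = (D χ : ℂ) * v := by
    intro x hx
    obtain ⟨u, hupart⟩ := exists_isPPart 2 Nat.prime_two x
    obtain ⟨y, hxy, hcomm_uy, hupow, hyreg⟩ := hupart
    have hu1 : u ≠ 1 := by
      rintro rfl
      rw [one_mul] at hxy
      rw [hxy] at hyreg
      exact hyreg hx
    haveI : Fintype (Subgroup.centralizer ({u} : Set G)) := Fintype.ofFinite _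
    haveI := finite_irrCharacter (Subgroup.centralizer ({u} : Set G))
    haveI : Fintype (IrrCharacter (Subgroup.centralizer ({u} : Set G))) := Fintype.ofFinite _
    by_cases hemp : ∃ ψ, ψ ∈ secT M u B
    · obtain ⟨ψ, hψ⟩ := hemp
      obtain ⟨b', g, -, -, -, hgu⟩ := exists_conj_mem hM hmax hupow
        (blockOf M (ψ : Subgroup.centralizer ({u} : Set G) → ℂ)) hψ
      have hgu1 : g * u * g⁻¹ ≠ 1 := by
        intro h
        apply hu1
        calc u = g⁻¹ * (g * u * g⁻¹) * g := by group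
          _ = 1 := by rw [h]; group
      obtain ⟨t, ht, htv⟩ := htr u₀ hu₀ hu₀1 _ hgu hgu1
      obtain ⟨s, hs⟩ : ∃ s : G, s = t * g := ⟨_, rfl⟩
      have hsu : s * u * s⁻¹ = u₀ := by
        rw [← htv, hs]
        group
      have hy'C : s * y * s⁻¹ ∈ Subgroup.centralizer ({u₀} : Set G) := by
        rw [Subgroup.mem_centralizer_iff]
        intro h hh
        rw [Set.mem_singleton_iff] at hh
        rw [hh, ← hsu]
        have h1 := hcomm_uy.eq
        calc s * u * s⁻¹ * (s * y * s⁻¹) = s * (u * y) * s⁻¹ := by group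
          _ = s * (y * u) * s⁻¹ := by rw [h1]
          _ = s * y * s⁻¹ * (s * u * s⁻¹) := by group
      have hreg' : ¬ 2 ∣ orderOf (⟨s * y * s⁻¹, hy'C⟩ : Subgroup.centralizer ({u₀} : Set G)) := by
        rw [Subgroup.orderOf_mk]
        have ho : orderOf (s * y * s⁻¹) = orderOf y :=
          orderOf_injective (MulAut.conj s).toMonoidHom (MulAut.conj s).injective y
        rw [ho]
        exact hyreg
      refine ⟨(η₀ : Subgroup.centralizer ({u₀} : Set G) → ℂ) ⟨s * y * s⁻¹, hy'C⟩, ?_⟩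
      intro χ hχ
      rw [← hA χ hχ ⟨s * y * s⁻¹, hy'C⟩ hreg']
      have h2 : u₀ * (s * y * s⁻¹) = s * x * s⁻¹ := by
        rw [← hsu, ← hxy]
        group
      show (χ : G → ℂ) x = (χ : G → ℂ) (u₀ * (s * y * s⁻¹))
      rw [h2]
      exact (Cfsg.Agent.Lib.CT.Orth.irr_isClassFunction χ x s).symm
    · refine ⟨0, ?_⟩
      intro χ hχ
      rw [mul_zero]
      have hyC : y ∈ Subgroup.centralizer ({u} : Set G) := by
        rw [Subgroup.mem_centralizer_iff]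
        intro h hh
        rw [Set.mem_singleton_iff] at hh
        rw [hh]
        exact hcomm_uy.eq
      obtain ⟨yC, hyC'⟩ : ∃ yC : Subgroup.centralizer ({u} : Set G), (yC : G) = y :=
        ⟨⟨y, hyC⟩, rfl⟩
      have hyCreg : ¬ 2 ∣ orderOf yC := by
        rw [← Subgroup.orderOf_coe, hyC']
        exact hyreg
      have h1 := secRes_eq_sum 2 M hM u hupow B hB χ hχ yC
      rw [secRes_of_regular 2 u _ hyCreg, hyC', hxy] at h1
      rw [h1]
      apply Finset.sum_eq_zero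
      intro ψ _
      rw [if_neg (fun h => hemp ⟨ψ, h⟩)]
  have hA1 : ∀ χ ∈ B, ∀ χ' ∈ B, ∀ x : G, 2 ∣ orderOf x →
      (D χ : ℂ) * (χ : G → ℂ) x = (D χ' : ℂ) * (χ' : G → ℂ) x := by
    intro χ hχ χ' hχ' x hx
    obtain ⟨v, hv⟩ := hsing x hx
    rw [hv χ hχ, hv χ' hχ', ← mul_assoc, ← mul_assoc, hDsq χ hχ, hDsq χ' hχ']
  refine ⟨hk4, D, hDpm, hA1, ?_, ?_⟩
  · intro x hx
    have hu₀sing : 2 ∣ orderOf u₀ := by rw [hu2]
    have h1 := weak_block_orthogonality 2 M hM B hB x u₀ hx hu₀sing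
    have h2 : ∑ᶠ χ ∈ B, (χ : G → ℂ) x * conj ((χ : G → ℂ) u₀) =
        conj ((η₀ : Subgroup.centralizer ({u₀} : Set G) → ℂ) 1) *
          ∑ᶠ χ ∈ B, (D χ : ℂ) * (χ : G → ℂ) x := by
      rw [finsum_mem_eq_finite_toFinset_sum _ hBfin, finsum_mem_eq_finite_toFinset_sum _ hBfin,
        Finset.mul_sum]
      apply Finset.sum_congr rfl
      intro χ hχ
      rw [hB1 χ ((Set.Finite.mem_toFinset hBfin).mp hχ), map_mul, map_intCast]
      ring
    rw [h2] at h1
    exact (mul_eq_zero.mp h1).resolve_left ((map_ne_zero _).mpr hη1)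
  · intro χ hχ χ' hχ' x hx
    exact vanish_dvd hM (isCharacter_of_irr χ.2) (isCharacter_of_irr χ'.2) (D χ) (D χ')
      (fun g hg => hA1 χ hχ χ' hχ' g hg) x hx

/-- **Uniform description of the values of the characters of a block with Klein four defect
group.** -/
theorem klein_structure [Finite G] (hM : IsPModular 2 M) {B : Set (IrrCharacter G)}
    {P : Subgroup G} {c : Set (IrrCharacter (Subgroup.centralizer (P : Set G)))}
    (hmax : IsMaximalBrauerPair 2 M B P c) (hV : IsKleinFour P) (nil : Prop)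
    (hnil : nil ↔ ∀ t ∈ Subgroup.normalizer (P : Set G),
      StabilizesBlock (Subgroup.centralizer (P : Set G)) c t →
        t ∈ Subgroup.centralizer (P : Set G))
    (lam : ℂ) (hlam : (nil ∧ lam = 2) ∨ (¬ nil ∧ lam = 1)) :
    Nat.card B = 4 ∧ ∃ D : IrrCharacter G → ℤ, (∀ χ ∈ B, D χ = 1 ∨ D χ = -1) ∧ ∀ x : G,
      (∀ χ ∈ B, MemLocalRing M (4 * ((D χ : ℂ) * (χ : G → ℂ) x) /
        (Nat.card (Subgroup.centralizer ({x} : Set G)) : ℂ))) ∧
      (¬ (nil ↔ 2 ∣ orderOf x) → ∀ χ ∈ B, ∀ χ' ∈ B,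
        (D χ : ℂ) * (χ : G → ℂ) x = (D χ' : ℂ) * (χ' : G → ℂ) x) ∧
      ((nil ↔ 2 ∣ orderOf x) → ∑ᶠ χ ∈ B, (D χ : ℂ) * (χ : G → ℂ) x = 0) ∧
      ((nil ↔ 2 ∣ orderOf x) → ∀ χ ∈ B, ∀ χ' ∈ B,
        MemLocalRing M (((D χ : ℂ) * (χ : G → ℂ) x - (D χ' : ℂ) * (χ' : G → ℂ) x) / lam) ∧
        MemLocalRing M (lam * ((D χ : ℂ) * (χ : G → ℂ) x - (D χ' : ℂ) * (χ' : G → ℂ) x) /
          (Nat.card (Subgroup.centralizer ({x} : Set G)) : ℂ))) := by
  classical
  haveI : Fact (Nat.Prime 2) := ⟨Nat.prime_two⟩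
  have hMp := isPrime_of_isPModular hM
  have hB : IsPBlock M B := hmax.1.2.1
  have hcardP : Nat.card P = 4 := hV.card_four
  have hPD : IsDefectGroup 2 M B P := isDefectGroup_of_maximal hM hmax
  have hdef : ∀ χ ∈ B, ∀ x : G, MemLocalRing M (4 * (χ : G → ℂ) x /
      (Nat.card (Subgroup.centralizer ({x} : Set G)) : ℂ)) := by
    intro χ hχ x
    have h1 := defect_bound hM B hB P hPD χ hχ x
    rw [hcardP] at h1
    exact_mod_cast h1
  rcases hlam with ⟨hn, rfl⟩ | ⟨hn, rfl⟩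
  · obtain ⟨hk4, hagree, hzero, hdiv⟩ := typeB hM hmax hV (hnil.mp hn)
    refine ⟨hk4, fun _ => 1, fun _ _ => Or.inl rfl, fun x => ⟨?_, ?_, ?_, ?_⟩⟩
    · intro χ hχ
      rw [Int.cast_one, one_mul]
      exact hdef χ hχ x
    · intro hx χ hχ χ' hχ'
      have hx' : ¬ 2 ∣ orderOf x := fun h => hx ⟨fun _ => h, fun _ => hn⟩
      rw [Int.cast_one, one_mul, one_mul]
      exact hagree χ hχ χ' hχ' x hx'
    · intro hx
      have hx' : 2 ∣ orderOf x := hx.mp hn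
      simp only [Int.cast_one, one_mul]
      exact hzero x hx'
    · intro hx χ hχ χ' hχ'
      have hx' : 2 ∣ orderOf x := hx.mp hn
      simp only [Int.cast_one, one_mul]
      exact hdiv χ hχ χ' hχ' x hx'
  · obtain ⟨hk4, D, hDpm, hA1, hA2, hA3⟩ := typeA hM hmax hV (fun h => hn (hnil.mpr h))
    refine ⟨hk4, D, hDpm, fun x => ⟨?_, ?_, ?_, ?_⟩⟩
    · intro χ hχ
      have h1 := memLocalRing_mul hMp (memLocalRing_intCast hMp (D χ)) (hdef χ hχ x)
      have h2 : 4 * ((D χ : ℂ) * (χ : G → ℂ) x) /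
          (Nat.card (Subgroup.centralizer ({x} : Set G)) : ℂ) =
          (D χ : ℂ) * (4 * (χ : G → ℂ) x /
            (Nat.card (Subgroup.centralizer ({x} : Set G)) : ℂ)) := by ring
      rw [h2]
      exact h1
    · intro hx χ hχ χ' hχ'
      have hx' : 2 ∣ orderOf x := by
        by_contra h
        exact hx ⟨fun h' => absurd h' hn, fun h' => absurd h' h⟩
      exact hA1 χ hχ χ' hχ' x hx'
    · intro hx
      have hx' : ¬ 2 ∣ orderOf x := fun h => hn (hx.mpr h)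
      exact hA2 x hx'
    · intro hx χ hχ χ' hχ'
      have hx' : ¬ 2 ∣ orderOf x := fun h => hn (hx.mpr h)
      constructor
      · rw [div_one]
        have hint : ∀ χ : IrrCharacter G, MemLocalRing M ((D χ : ℂ) * (χ : G → ℂ) x) :=
          fun χ => memLocalRing_mul hMp (memLocalRing_intCast hMp (D χ))
            (memLocalRing_of_isIntegral hMp
              (Cfsg.Agent.Lib.Helper80.Integrality.isIntegral_irrCharacter χ x))
        exact memLocalRing_sub hMp (hint χ) (hint χ')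
      · rw [one_mul]
        exact hA3 χ hχ χ' hχ' x hx'

end Cfsg.Agent.Lib.Helper77.BPKlein7
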