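import Cfsg.Agent.Lib.Helper77.BPKlein2
import Cfsg.Agent.Lib.Helper16.Transfer

/-!
# The Brauer correspondent has the same root and the same inertial group

`root_transfer`: let `B` be a block of `G` with defect group `P`, `N ≤ G` a subgroup containing
`N_G(P)`, and `c` a block of `N` with defect group `P` inducing `B`.  Then a maximal Brauer pair
`(P, c₁)` of `c` in `N` gives a maximal Brauer pair `(P, c₀)` of `B` in `G`, and the inertial
group of one is trivial if and only if the inertial group of the other is.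
-/

set_option autoImplicit false

namespace Cfsg.Agent.Lib.Helper77.BPKlein8

open Cfsg Cfsg.Agent.Lib.Helper77.LocalRing Cfsg.Agent.Lib.Helper77.BPNormal
  Cfsg.Agent.Lib.Helper77.BPSub Cfsg.Agent.Lib.Helper77.BPSubpair
  Cfsg.Agent.Lib.Helper77.BPUp Cfsg.Agent.Lib.Helper77.BPInd
  Cfsg.Agent.Lib.Helper77.BPFus Cfsg.Agent.Lib.Helper77.BPMax2
  Cfsg.Agent.Lib.Helper77.BPTransport Cfsg.Agent.Lib.Helper77.BPAb
  Cfsg.Agent.Lib.Helper16.ZR Cfsg.Agent.Lib.Helper16.BPLocal
  Cfsg.Agent.Lib.Helper16.Transfer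

universe u
variable {G : Type u} [Group G] {M : Ideal AlgInt}

theorem pull_symm_image_heq {N K' : Type u} [Group N] [Group K'] {K₁ K₂ : Subgroup N}
    (h : K₁ = K₂) (b₁ : Set (IrrCharacter K₁)) (b₂ : Set (IrrCharacter K₂)) (hb : HEq b₁ b₂)
    (φ₁ : K₁ ≃* K') (φ₂ : K₂ ≃* K')
    (hφ : ∀ (x₁ : K₁) (x₂ : K₂), (x₁ : N) = (x₂ : N) → φ₁ x₁ = φ₂ x₂) :
    pull φ₁.symm '' b₁ = pull φ₂.symm '' b₂ := by
  subst h
  have hb' := eq_of_heq hb
  subst hb'
  have h1 : φ₁ = φ₂ := by
    apply MulEquiv.ext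
    intro x
    exact hφ x x rfl
  rw [h1]

theorem root_transfer [Finite G] {p : ℕ} [Fact p.Prime] (hM : IsPModular p M)
    {B : Set (IrrCharacter G)} {P : Subgroup G} (hPD : IsDefectGroup p M B P)
    (N : Subgroup G) (hNN : Subgroup.normalizer (P : Set G) ≤ N)
    (c : Set (IrrCharacter N)) (hcD : IsDefectGroup p M c (P.subgroupOf N))
    (hc : IsInducedBlock M N c B) :
    ∃ (c₀ : Set (IrrCharacter (Subgroup.centralizer (P : Set G))))
      (c₁ : Set (IrrCharacter (Subgroup.centralizer ((P.subgroupOf N : Subgroup N) : Set N)))),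
      IsMaximalBrauerPair p M B P c₀ ∧ IsMaximalBrauerPair p M c (P.subgroupOf N) c₁ ∧
      ((∀ t ∈ Subgroup.normalizer (P : Set G),
          StabilizesBlock (Subgroup.centralizer (P : Set G)) c₀ t →
            t ∈ Subgroup.centralizer (P : Set G)) ↔
        (∀ t ∈ Subgroup.normalizer ((P.subgroupOf N : Subgroup N) : Set N),
          StabilizesBlock (Subgroup.centralizer ((P.subgroupOf N : Subgroup N) : Set N)) c₁ t →
            t ∈ Subgroup.centralizer ((P.subgroupOf N : Subgroup N) : Set N))) := by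
  classical
  have hMp := isPrime_of_isPModular hM
  have hcb : IsPBlock M c := hc.1
  have hPp : IsPGroup p P := isPGroup_of_isDefectGroup hPD
  have hPN : P ≤ N := Subgroup.le_normalizer.trans hNN
  have hCN : Subgroup.centralizer (P : Set G) ≤ N :=
    (Subgroup.centralizer_le_normalizer _).trans hNN
  obtain ⟨c₁, hmaxN⟩ := exists_maximal_pair hM c hcb (P.subgroupOf N) hcD
  have hS := hS_down N P hPN hCN
  obtain ⟨c₀, hc₀⟩ : ∃ c₀ : Set (IrrCharacter (Subgroup.centralizer (P : Set G))),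
      c₀ = pull (zIso N (P.subgroupOf N) P hS).symm '' c₁ := ⟨_, rfl⟩
  have hdown : down N P hPN hCN c₀ = ⟨P.subgroupOf N, c₁⟩ := by
    show (⟨P.subgroupOf N, pull (zIso N (P.subgroupOf N) P hS) '' c₀⟩ : BrauerPairIdx N) = _
    rw [hc₀, pull_image_pull_symm_image]
  have hup : up N (⟨P.subgroupOf N, c₁⟩ : BrauerPairIdx N) = ⟨P, c₀⟩ := by
    rw [← hdown]
    exact up_down N P hPN hCN c₀
  have hmap : (P.subgroupOf N).map N.subtype = P := Subgroup.map_subgroupOf_eq_of_le hPN
  have hC : Subgroup.centralizer ((((P.subgroupOf N).map N.subtype : Subgroup G)) : Set G) ≤ N := by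
    rw [hmap]
    exact hCN
  have hstab : ∀ t : N,
      (t ∈ Subgroup.normalizer ((P.subgroupOf N : Subgroup N) : Set N) ∧
        StabilizesBlock (Subgroup.centralizer ((P.subgroupOf N : Subgroup N) : Set N)) c₁ t) ↔
      ((t : G) ∈ Subgroup.normalizer (P : Set G) ∧
        StabilizesBlock (Subgroup.centralizer (P : Set G)) c₀ (t : G)) := by
    intro t
    exact (stab_up_iff N ⟨P.subgroupOf N, c₁⟩ hC t).trans (stab_congr' hup (t : G))
  -- `c₀` induces `B`
  have hPNp : IsPGroup p (P.subgroupOf N) := hmaxN.1.1.1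
  have hind1 : IsInducedBlock M (Subgroup.centralizer ((P.subgroupOf N : Subgroup N) : Set N))
      c₁ c := (isBrauerPairOf_iff_isInducedBlock hM (P.subgroupOf N) hPNp c₁ c).mp hmaxN.1
  have heqK : Subgroup.centralizer ((P.subgroupOf N : Subgroup N) : Set N) =
      (Subgroup.centralizer (P : Set G)).subgroupOf N := by
    ext t
    rw [Subgroup.mem_subgroupOf]
    constructor
    · intro ht
      exact (hS (t : G)).mpr ⟨t.2, ht⟩
    · intro ht
      obtain ⟨_, h2⟩ := (hS (t : G)).mp ht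
      exact h2
  obtain ⟨b', hheq, hb'1, -, -⟩ := transport (p := p) (M := M) c heqK c₁
  have hind2 := isInducedBlock_trans hMp (Subgroup.centralizer (P : Set G)) N hCN b' c B
    (hb'1 hind1) hc
  have hceq : c₀ = pull (sIso (Subgroup.centralizer (P : Set G)) N hCN).symm '' b' := by
    rw [hc₀]
    apply pull_symm_image_heq heqK c₁ b' hheq
    intro x₁ x₂ hx
    apply Subtype.ext
    show ((x₁ : N) : G) = ((x₂ : N) : G)
    rw [hx]
  rw [← hceq] at hind2
  have hpairG : IsBrauerPairOf p M B P c₀ :=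
    (isBrauerPairOf_iff_isInducedBlock hM P hPp c₀ B).mpr hind2
  have hmaxG : IsMaximalBrauerPair p M B P c₀ := isMaximal_of_isDefectGroup hM hpairG hPD
  refine ⟨c₀, c₁, hmaxG, hmaxN, ?_, ?_⟩
  · intro hG t ht hts
    have h1 := (hstab t).mp ⟨ht, hts⟩
    have h2 := hG (t : G) h1.1 h1.2
    rw [heqK, Subgroup.mem_subgroupOf]
    exact h2
  · intro hN t ht hts
    have h1 := (hstab ⟨t, hNN ht⟩).mpr ⟨ht, hts⟩
    have h2 := hN ⟨t, hNN ht⟩ h1.1 h1.2
    rw [heqK, Subgroup.mem_subgroupOf] at h2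
    exact h2

theorem isKleinFour_subgroupOf {P N : Subgroup G} (hPN : P ≤ N) (hV : IsKleinFour P) :
    IsKleinFour (P.subgroupOf N) where
  card_four := by
    rw [Nat.card_congr (Subgroup.subgroupOfEquivOfLe hPN).toEquiv]
    exact hV.card_four
  exponent_two := by
    rw [Monoid.exponent_eq_of_mulEquiv (Subgroup.subgroupOfEquivOfLe hPN)]
    exact hV.exponent_two

end Cfsg.Agent.Lib.Helper77.BPKlein8
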