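import Cfsg.Agent.Lib.Helper77.BPStab

/-!
# `N_P(Q)` and the defect groups of the block of the stabilizer of a Brauer pair
-/

set_option autoImplicit false

namespace Cfsg.Agent.Lib.Helper77.BPNorm

open Cfsg Cfsg.Agent.Lib.Helper77.LocalRing Cfsg.Agent.Lib.Helper77.CentralChar
  Cfsg.Agent.Lib.Helper77.ClassSum Cfsg.Agent.Lib.Helper77.BlockIdem
  Cfsg.Agent.Lib.Helper77.OsimaVanish Cfsg.Agent.Lib.Helper77.IdemIn
  Cfsg.Agent.Lib.Helper77.BPBasic Cfsg.Agent.Lib.Helper77.BPBrauer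
  Cfsg.Agent.Lib.Helper77.BPPairs Cfsg.Agent.Lib.Helper77.BPConj
  Cfsg.Agent.Lib.Helper77.BPNormal Cfsg.Agent.Lib.Helper77.BPSubpair
  Cfsg.Agent.Lib.Helper77.BPIdem Cfsg.Agent.Lib.Helper77.BPMax
  Cfsg.Agent.Lib.Helper77.BPMax2 Cfsg.Agent.Lib.Helper77.BPEquiv
  Cfsg.Agent.Lib.Helper77.BPEquiv2
  Cfsg.Agent.Lib.Helper77.BPTransport Cfsg.Agent.Lib.Helper77.BPConjMax
  Cfsg.Agent.Lib.Helper77.BPCent Cfsg.Agent.Lib.Helper77.BPStab
  Cfsg.Agent.Lib.CT.Wedderburn Cfsg.Agent.Lib.Helper16.ZR Cfsg.Agent.Lib.Helper33.Conj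
  Cfsg.Agent.Lib.Helper16.MinMax

universe u
variable {G : Type u} [Group G] {M : Ideal AlgInt}

theorem coeff_ext_blockIdem [Finite G] (H : Subgroup G) (f : Set (IrrCharacter H)) (g : G) :
    (ext H (blockIdem f)).coeff g = subgroupBlockCoeff H f g := by
  rw [← ofFun_subgroupBlockCoeff, coeff_ofFun]

/-- If `(Q, f) ≤ (P, e)` then `N_P(Q)` stabilizes `f`. -/
theorem stabilizes_of_le [Finite G] {p : ℕ} [Fact p.Prime] (hM : IsPModular p M)
    {Q P : Subgroup G} {f : Set (IrrCharacter (Subgroup.centralizer (Q : Set G)))}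
    {e : Set (IrrCharacter (Subgroup.centralizer (P : Set G)))} (hPe : IsBrauerPair p M P e)
    (hle : SubpairLE p M Q f P e) {x : G} (hx : x ∈ P ⊓ Subgroup.normalizer (Q : Set G)) :
    StabilizesBlock (Subgroup.centralizer (Q : Set G)) f x := by
  have hQP : Q ≤ P := le_of_subpairLE (p := p) (M := M) ⟨Q, f⟩ ⟨P, e⟩ hle
  obtain ⟨g, hg, -⟩ := exists_mid hM hPe hle (P ⊓ Subgroup.normalizer (Q : Set G))
    (le_inf hQP Subgroup.le_normalizer) inf_le_left inf_le_right
  have hg' : IsNormalSubpair p M Q f (P ⊓ Subgroup.normalizer (Q : Set G)) g := hg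
  exact hg'.2.2.2.2.1 x hx

/-- `N_P(Q)` lies in a defect group of the block of the stabilizer whose idempotent is that of
`f`. -/
theorem exists_defectGroup_ge_normalizer [Finite G] {p : ℕ} [Fact p.Prime]
    (hM : IsPModular p M) {Q P : Subgroup G}
    {f : Set (IrrCharacter (Subgroup.centralizer (Q : Set G)))}
    {e : Set (IrrCharacter (Subgroup.centralizer (P : Set G)))} (hPe : IsBrauerPair p M P e)
    (hle : SubpairLE p M Q f P e) (T : Subgroup G)
    (hCT : Subgroup.centralizer (Q : Set G) ≤ T) (F : Set (IrrCharacter T)) (hF : IsPBlock M F)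
    (hFc : ∀ t : T, blockCoeff F t =
      subgroupBlockCoeff (Subgroup.centralizer (Q : Set G)) f (t : G)) :
    ∃ D : Subgroup T, IsDefectGroup p M F D ∧
      (P ⊓ Subgroup.normalizer (Q : Set G)).subgroupOf T ≤ D := by
  have hQP : Q ≤ P := le_of_subpairLE (p := p) (M := M) ⟨Q, f⟩ ⟨P, e⟩ hle
  obtain ⟨h, hh, hcoef⟩ := exists_coeff_of_le hM hPe hle
    (P ⊓ Subgroup.normalizer (Q : Set G)) (le_inf hQP Subgroup.le_normalizer) inf_le_left
    inf_le_right
  have hhQ : h ∈ Subgroup.centralizer (Q : Set G) := by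
    rw [Subgroup.mem_centralizer_iff] at hh ⊢
    intro q hq
    exact hh q ⟨hQP hq, Subgroup.le_normalizer hq⟩
  refine exists_defectGroup_ge hM F hF _ ((hPe.1.to_le inf_le_left).comap_subtype)
    ⟨h, hCT hhQ⟩ ?_ ?_
  · rw [hFc, ← coeff_ext_blockIdem]
    exact hcoef
  · intro d hd
    rw [mem_centralizer_singleton]
    apply Subtype.ext
    exact (Subgroup.mem_centralizer_iff.mp hh d (Subgroup.mem_subgroupOf.mp hd)).symm

/-- **Fully normalized subpairs.**  If `|N_P(Q)|` is maximal among the conjugates of `(Q, f)`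
below the maximal pair `(P, e)`, then `N_P(Q)` is a defect group of the block of the stabilizer
whose idempotent is that of `f`. -/
theorem isDefectGroup_of_max_normalizer [Finite G] {p : ℕ} [Fact p.Prime] (hM : IsPModular p M)
    {B : Set (IrrCharacter G)} {P : Subgroup G}
    {e : Set (IrrCharacter (Subgroup.centralizer (P : Set G)))}
    (hmax : IsMaximalBrauerPair p M B P e) {Q : Subgroup G}
    {f : Set (IrrCharacter (Subgroup.centralizer (Q : Set G)))} (hle : SubpairLE p M Q f P e)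
    (T : Subgroup G) (hCT : Subgroup.centralizer (Q : Set G) ≤ T)
    (hTN : T ≤ Subgroup.normalizer (Q : Set G))
    (hst : ∀ t ∈ T, StabilizesBlock (Subgroup.centralizer (Q : Set G)) f t)
    (hRT : P ⊓ Subgroup.normalizer (Q : Set G) ≤ T)
    (F : Set (IrrCharacter T)) (hF : IsPBlock M F)
    (hFc : ∀ t : T, blockCoeff F t =
      subgroupBlockCoeff (Subgroup.centralizer (Q : Set G)) f (t : G))
    (hbig : ∀ y : G, SubpairLE p M (Q.map (MulAut.conj y).toMonoidHom) (conjBlock Q y f) P e →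
      Nat.card (P ⊓ Subgroup.normalizer
        ((Q.map (MulAut.conj y).toMonoidHom : Subgroup G) : Set G) : Subgroup G) ≤
        Nat.card (P ⊓ Subgroup.normalizer (Q : Set G) : Subgroup G)) :
    IsDefectGroup p M F ((P ⊓ Subgroup.normalizer (Q : Set G)).subgroupOf T) := by
  classical
  have hMp := isPrime_of_isPModular hM
  have hPe := hmax.1.1
  have hB := hmax.1.2.1
  have hQP : Q ≤ P := le_of_subpairLE (p := p) (M := M) ⟨Q, f⟩ ⟨P, e⟩ hle
  have hQf := isBrauerPair_of_le (p := p) (M := M) ⟨Q, f⟩ ⟨P, e⟩ hle hPe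
  obtain ⟨D, hD, hD₀⟩ := exists_defectGroup_ge_normalizer hM hPe hle T hCT F hF hFc
  obtain ⟨c₀, hc₀, hsyl⟩ := isDefectGroup_iff.mp hD
  obtain ⟨Dt, hDt⟩ : ∃ Dt : Subgroup G, Dt = D.map T.subtype := ⟨_, rfl⟩
  have hDtT : Dt ≤ T := by
    rw [hDt]
    exact Subgroup.map_subtype_le D
  have hDtp : IsPGroup p Dt := by
    rw [hDt]
    exact hsyl.2.1.map _
  have hRDt : P ⊓ Subgroup.normalizer (Q : Set G) ≤ Dt := by
    intro x hx
    rw [hDt]
    exact ⟨⟨x, hRT hx⟩, hD₀ (Subgroup.mem_subgroupOf.mpr hx), rfl⟩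
  have hQDt : Q ≤ Dt := (le_inf hQP Subgroup.le_normalizer).trans hRDt
  have hDtN : Dt ≤ Subgroup.normalizer (Q : Set G) := hDtT.trans hTN
  have hstD : ∀ x ∈ Dt, StabilizesBlock (Subgroup.centralizer (Q : Set G)) f x :=
    fun x hx => hst x (hDtT hx)
  have hcR : (c₀ : G) ∈ Subgroup.centralizer ((Dt : Subgroup G) : Set G) := by
    rw [Subgroup.mem_centralizer_iff]
    intro r hr
    rw [hDt] at hr
    obtain ⟨d, hd, rfl⟩ := hr
    have h1 := hsyl.1 hd
    rw [mem_centralizer_singleton] at h1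
    exact (congrArg Subtype.val h1).symm
  have hcoef : ¬ MemLocalIdeal M
      ((ext (Subgroup.centralizer (Q : Set G)) (blockIdem f)).coeff (c₀ : G)) := by
    rw [coeff_ext_blockIdem, ← hFc]
    exact hc₀.2.1
  obtain ⟨g, hnorm⟩ := exists_normalSuperpair hM hQf Dt hDtp hQDt hDtN hstD c₀ hcR hcoef
  have hBQ : IsBrauerPairOf p M B Q f :=
    (isBrauerPairOf_iff_of_le hM B hB ⟨Q, f⟩ ⟨P, e⟩ hle).mp hmax.1
  have hBR : IsBrauerPairOf p M B Dt g :=
    (isBrauerPairOf_iff_of_normal hM hnorm B hB).mpr hBQ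
  obtain ⟨y, hy⟩ := exists_conj_le_of_maximal hM hmax hBR
  have hnorm' : NormalSubpairRel p M
      ⟨Q.map (MulAut.conj y).toMonoidHom, conjBlock Q y f⟩
      ⟨Dt.map (MulAut.conj y).toMonoidHom, conjBlock Dt y g⟩ :=
    isNormalSubpair_conj (M := M) y hnorm
  have hley : SubpairLE p M (Q.map (MulAut.conj y).toMonoidHom) (conjBlock Q y f) P e :=
    Relation.ReflTransGen.head hnorm' hy
  have h1 := hbig y hley
  have hRyP : Dt.map (MulAut.conj y).toMonoidHom ≤ P :=
    le_of_subpairLE (p := p) (M := M) ⟨_, _⟩ ⟨P, e⟩ hy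
  have h2 : Dt.map (MulAut.conj y).toMonoidHom ≤ P ⊓ Subgroup.normalizer
      ((Q.map (MulAut.conj y).toMonoidHom : Subgroup G) : Set G) := by
    apply le_inf hRyP
    rw [normalizer_cj]
    exact cj_mono hDtN
  have hcard : Nat.card D ≤
      Nat.card ((P ⊓ Subgroup.normalizer (Q : Set G)).subgroupOf T) := by
    calc Nat.card D = Nat.card Dt := by
          rw [hDt]
          exact (Subgroup.card_map_of_injective (Subgroup.subtype_injective _)).symm
      _ = Nat.card (Dt.map (MulAut.conj y).toMonoidHom) := (card_cj y Dt).symm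
      _ ≤ Nat.card (P ⊓ Subgroup.normalizer
          ((Q.map (MulAut.conj y).toMonoidHom : Subgroup G) : Set G) : Subgroup G) :=
        Subgroup.card_le_of_le h2
      _ ≤ Nat.card (P ⊓ Subgroup.normalizer (Q : Set G) : Subgroup G) := h1
      _ = Nat.card ((P ⊓ Subgroup.normalizer (Q : Set G)).subgroupOf T) :=
        (Nat.card_congr (Subgroup.subgroupOfEquivOfLe hRT).toEquiv).symm
  rw [Subgroup.eq_of_le_of_card_ge hD₀ hcard]
  exact hD

/-- Conjugation by `g` as an isomorphism from `T` onto `g T g⁻¹`. -/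
def tIso (T : Subgroup G) (g : G) : T ≃* (T.map (MulAut.conj g).toMonoidHom : Subgroup G) where
  toFun t := ⟨g * t * g⁻¹, conj_mem_cj t.2⟩
  invFun t' := ⟨g⁻¹ * t' * g, mem_cj.mp t'.2⟩
  left_inv t := by
    apply Subtype.ext
    show g⁻¹ * (g * (t : G) * g⁻¹) * g = t
    group
  right_inv t' := by
    apply Subtype.ext
    show g * (g⁻¹ * (t' : G) * g) * g⁻¹ = t'
    group
  map_mul' a b := by
    apply Subtype.ext
    show g * ((a : G) * b) * g⁻¹ = (g * a * g⁻¹) * (g * b * g⁻¹)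
    group

theorem coe_tIso_symm (T : Subgroup G) (g : G)
    (t' : (T.map (MulAut.conj g).toMonoidHom : Subgroup G)) :
    (((tIso T g).symm t' : T) : G) = g⁻¹ * t' * g := rfl

/-- Transport of the block of the stabilizer along conjugation. -/
theorem exists_block_conj [Finite G] {p : ℕ} [Fact p.Prime] (hM : IsPModular p M)
    (Q : Subgroup G) (f : Set (IrrCharacter (Subgroup.centralizer (Q : Set G))))
    (T : Subgroup G) (F : Set (IrrCharacter T)) (hF : IsPBlock M F)
    (hFc : ∀ t : T, blockCoeff F t =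
      subgroupBlockCoeff (Subgroup.centralizer (Q : Set G)) f (t : G)) (g : G) :
    ∃ F' : Set (IrrCharacter (T.map (MulAut.conj g).toMonoidHom : Subgroup G)),
      IsPBlock M F' ∧
      (∀ t : (T.map (MulAut.conj g).toMonoidHom : Subgroup G), blockCoeff F' t =
        subgroupBlockCoeff
          (Subgroup.centralizer ((Q.map (MulAut.conj g).toMonoidHom : Subgroup G) : Set G))
          (conjBlock Q g f) (t : G)) ∧
      ∀ (D : Subgroup T) (D' : Subgroup (T.map (MulAut.conj g).toMonoidHom : Subgroup G)),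
        IsDefectGroup p M F D → IsDefectGroup p M F' D' → Nat.card D' = Nat.card D := by
  refine ⟨pull (tIso T g).symm '' F, isPBlock_pull _ hF, fun t => ?_, fun D D' hD hD' =>
    card_defectGroup_pull hM (tIso T g).symm hF hD hD'⟩
  rw [blockCoeff_pull, hFc, coe_tIso_symm, ← coeff_ext_blockIdem, ← coeff_ext_blockIdem,
    ← conjA_ext_blockIdem_conjBlock, coeff_conjA]

/-- Equivariance of block stabilizers under conjugation. -/
theorem stabilizes_conj [Finite G] (Q : Subgroup G)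
    (f : Set (IrrCharacter (Subgroup.centralizer (Q : Set G)))) (g x : G)
    (hx : x ∈ Subgroup.normalizer ((Q.map (MulAut.conj g).toMonoidHom : Subgroup G) : Set G))
    (h : StabilizesBlock
      (Subgroup.centralizer ((Q.map (MulAut.conj g).toMonoidHom : Subgroup G) : Set G))
      (conjBlock Q g f) x) :
    g⁻¹ * x * g ∈ Subgroup.normalizer (Q : Set G) ∧
      StabilizesBlock (Subgroup.centralizer (Q : Set G)) f (g⁻¹ * x * g) := by
  have hx' : g⁻¹ * x * g ∈ Subgroup.normalizer (Q : Set G) := by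
    rw [normalizer_cj] at hx
    exact mem_cj.mp hx
  refine ⟨hx', ?_⟩
  have h1 := (stabilizesBlock_iff_conjA _ x (normalizer_le_normalizer_centralizer _ hx) _).mp h
  rw [← conjA_ext_blockIdem_conjBlock] at h1
  rw [stabilizesBlock_iff_conjA _ _ (normalizer_le_normalizer_centralizer Q hx') f, conjA_mul,
    conjA_mul, h1, conjA_inv_cancel]

/-- Basic facts on the stabilizer `T` of `f` in `N_G(Q)` when `(Q, f) ≤ (P, e)`. -/
theorem stab_data [Finite G] {p : ℕ} [Fact p.Prime] (hM : IsPModular p M)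
    {Q P : Subgroup G} {f : Set (IrrCharacter (Subgroup.centralizer (Q : Set G)))}
    {e : Set (IrrCharacter (Subgroup.centralizer (P : Set G)))} (hPe : IsBrauerPair p M P e)
    (hle : SubpairLE p M Q f P e) (T : Subgroup G)
    (hT : ∀ y : G, y ∈ T ↔ y ∈ Subgroup.normalizer (Q : Set G) ∧
      StabilizesBlock (Subgroup.centralizer (Q : Set G)) f y) :
    Q ≤ T ∧ Subgroup.centralizer (Q : Set G) ≤ T ∧ T ≤ Subgroup.normalizer (Q : Set G) ∧
      (∀ t ∈ T, StabilizesBlock (Subgroup.centralizer (Q : Set G)) f t) ∧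
      P ⊓ Subgroup.normalizer (Q : Set G) ≤ T :=
  ⟨fun x hx => (hT x).mpr ⟨Subgroup.le_normalizer hx, stabilizes_of_mem Q f hx⟩,
    fun x hx => (hT x).mpr ⟨Subgroup.centralizer_le_normalizer _ hx,
      stabilizes_of_mem_centralizer Q f hx⟩,
    fun x hx => ((hT x).mp hx).1, fun t ht => ((hT t).mp ht).2,
    fun x hx => (hT x).mpr ⟨hx.2, stabilizes_of_le hM hPe hle hx⟩⟩

end Cfsg.Agent.Lib.Helper77.BPNorm
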