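import Cfsg.Agent.Lib.Helper77.BSWGrp
import Cfsg.Agent.Lib.Helper25.BSWSpec

/-!
# Bridge between `Helper77.BSWGrp` and the specification `Helper25.BSWSpec` of S3282
-/

set_option maxHeartbeats 400000
set_option autoImplicit false

namespace Cfsg.Agent.Lib.Helper77.BSWBridge

open Cfsg.Agent.Lib.Helper25.BSWSpec Cfsg.Agent.Lib.Helper77.BSWGrp Subgroup

universe u

variable {G : Type u} [Group G]

theorem hyp_of_bsw {t s : G} {K : Subgroup G} (h : BSW t K s) : Hyp t s K :=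
  ⟨h.ht, h.hKab, h.hKH, h.htK, h.hs, h.hsH, h.hsK, h.hH, h.hCK, h.hinv, h.hTI, h.hconj⟩

theorem hyp_of_basic {t s : G} {K : Subgroup G} {k : ℕ} (h : Basic t K s k) : Hyp t s K := by
  have hKH : K ≤ centralizer ({t} : Set G) := fun x hx =>
    mem_centralizer_singleton_iff.2 ((h.cent_t x).2 (Or.inl hx))
  have hsH : s ∈ centralizer ({t} : Set G) :=
    mem_centralizer_singleton_iff.2 ((h.cent_t s).2 (Or.inr ⟨1, K.one_mem, (one_mul s).symm⟩))
  have hss : s * s = 1 := sq_of_orderOf_two h.hs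
  have hsi : s⁻¹ = s := inv_of_orderOf_two h.hs
  refine ⟨h.ht, h.comm, hKH, h.htK, h.hs, hsH, h.hsK, ?_, ?_, h.inv, ?_, h.hconj⟩
  · apply le_antisymm (sup_le hKH (zpowers_le.2 hsH))
    intro x hx
    rcases (h.cent_t x).1 (mem_centralizer_singleton_iff.1 hx) with hK | ⟨y, hy, rfl⟩
    · exact mem_sup_left hK
    · exact mul_mem (mem_sup_left hy) (mem_sup_right (mem_zpowers s))
  · ext x
    constructor
    · rintro ⟨hxK, hxs⟩
      have hxs' : x * s = s * x := mem_centralizer_singleton_iff.1 hxs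
      have hinv := h.inv x hxK
      have hxx : x⁻¹ = x := by
        rw [← hinv, ← hxs', mul_assoc, hsi, hss, mul_one]
      by_cases hx1 : x = 1
      · rw [hx1]; exact one_mem _
      · have hx2 : orderOf x = 2 := by
          apply orderOf_two_of_sq hx1
          calc x * x = x * x⁻¹ := by rw [hxx]
            _ = 1 := mul_inv_cancel x
        rw [h.invol_K x hxK hx2]; exact mem_zpowers t
    · intro hx
      refine ⟨zpowers_le.2 h.htK hx, ?_⟩
      have : zpowers t ≤ centralizer ({s} : Set G) := by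
        rw [zpowers_le, mem_centralizer_singleton_iff]
        exact (mem_centralizer_singleton_iff.1 hsH).symm
      exact this hx
  · intro g hg
    rw [eq_bot_iff]
    rintro x ⟨hxK, hxm⟩
    obtain ⟨a, ha, rfl⟩ := Subgroup.mem_map.1 hxm
    have hxK' : g * a * g⁻¹ ∈ K := by simpa [MulAut.conj_apply] using hxK
    rw [Subgroup.mem_bot]
    by_contra hne
    have ha1 : a ≠ 1 := by
      rintro rfl
      apply hne
      simp
    exact hg (mem_centralizer_singleton_iff.2 (h.ti a ha ha1 g hxK'))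

theorem notConjK_iff_rest {K : Subgroup G} (z : G) : NotConjK K z ↔ Rest K z := by
  constructor
  · intro h
    refine ⟨?_, ?_⟩
    · rintro rfl
      apply h 1
      simp
    · rintro ⟨g, y, hy, hy1, rfl⟩
      apply h g⁻¹
      have : g⁻¹ * (g * y * g⁻¹) * g⁻¹⁻¹ = y := by group
      rw [this]; exact hy
  · rintro ⟨h1, h2⟩ g hg
    apply h2
    refine ⟨g⁻¹, g * z * g⁻¹, hg, ?_, by group⟩
    intro e
    apply h1
    have : z = g⁻¹ * (g * z * g⁻¹) * g := by group
    rw [this, e]; group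

theorem inConjK_iff {K : Subgroup G} (z : G) : InConjK K z ↔ (z ≠ 1 ∧ ¬ NotConjK K z) := by
  rw [notConjK_iff_rest]
  constructor
  · intro h
    have h1 : z ≠ 1 := by
      obtain ⟨g, y, hy, hy1, rfl⟩ := h
      intro e
      apply hy1
      have : y = g⁻¹ * (g * y * g⁻¹) * g := by group
      rw [this, e]; group
    exact ⟨h1, fun hr => hr.2 h⟩
  · rintro ⟨h1, h2⟩
    by_contra hc
    exact h2 ⟨h1, hc⟩

theorem conj_eq_conj_iff (t g g' : G) :
    g' * t * g'⁻¹ = g * t * g⁻¹ ↔ g⁻¹ * g' ∈ centralizer ({t} : Set G) := by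
  rw [mem_centralizer_singleton_iff]
  constructor
  · intro h1
    have h2 : g' * t = g * t * g⁻¹ * g' := by
      calc g' * t = (g' * t * g'⁻¹) * g' := by group
        _ = g * t * g⁻¹ * g' := by rw [h1]
    calc g⁻¹ * g' * t = g⁻¹ * (g' * t) := by group
      _ = g⁻¹ * (g * t * g⁻¹ * g') := by rw [h2]
      _ = t * (g⁻¹ * g') := by group
  · intro hc
    calc g' * t * g'⁻¹ = g * (g⁻¹ * g' * t) * g'⁻¹ := by group
      _ = g * (t * (g⁻¹ * g')) * g'⁻¹ := by rw [hc]
      _ = g * t * g⁻¹ := by group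

/-- the pair count of the specification in terms of pairs of involutions. -/
theorem pairCount_eq [Finite G] {t s : G} {K : Subgroup G} (h : Hyp t s K) (z : G) :
    pairCount t z = 4 * (Nat.card K) ^ 2 * nPairs z := by
  unfold pairCount
  have key := card_eq_card_range_mul
    (fun p : {p : G × G // p.1 * t * p.1⁻¹ * (p.2 * t * p.2⁻¹) = z} =>
      (p.1.1 * t * p.1.1⁻¹, p.1.2 * t * p.1.2⁻¹))
    (Nat.card (centralizer ({t} : Set G) × centralizer ({t} : Set G))) (by
      rintro ⟨⟨g, g2⟩, hp₀⟩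
      have hp₀' : g * t * g⁻¹ * (g2 * t * g2⁻¹) = z := hp₀
      refine Nat.card_congr
        { toFun := fun p => (⟨g⁻¹ * p.1.1.1, ?_⟩, ⟨g2⁻¹ * p.1.1.2, ?_⟩)
          invFun := fun c => ⟨⟨(g * c.1.1, g2 * c.2.1), ?_⟩, ?_⟩
          left_inv := ?_
          right_inv := ?_ }
      · obtain ⟨⟨⟨a, b⟩, hab⟩, hp⟩ := p
        have hp' : (a * t * a⁻¹, b * t * b⁻¹) = (g * t * g⁻¹, g2 * t * g2⁻¹) := hp
        exact (conj_eq_conj_iff t g a).1 (Prod.ext_iff.1 hp').1
      · obtain ⟨⟨⟨a, b⟩, hab⟩, hp⟩ := p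
        have hp' : (a * t * a⁻¹, b * t * b⁻¹) = (g * t * g⁻¹, g2 * t * g2⁻¹) := hp
        exact (conj_eq_conj_iff t g2 b).1 (Prod.ext_iff.1 hp').2
      · show g * c.1.1 * t * (g * c.1.1)⁻¹ * (g2 * c.2.1 * t * (g2 * c.2.1)⁻¹) = z
        have e1 : g * c.1.1 * t * (g * c.1.1)⁻¹ = g * t * g⁻¹ :=
          (conj_eq_conj_iff t g (g * c.1.1)).2 (by
            have : g⁻¹ * (g * c.1.1) = c.1.1 := by group
            rw [this]; exact c.1.2)
        have e2 : g2 * c.2.1 * t * (g2 * c.2.1)⁻¹ = g2 * t * g2⁻¹ :=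
          (conj_eq_conj_iff t g2 (g2 * c.2.1)).2 (by
            have : g2⁻¹ * (g2 * c.2.1) = c.2.1 := by group
            rw [this]; exact c.2.2)
        rw [e1, e2]; exact hp₀'
      · show (g * c.1.1 * t * (g * c.1.1)⁻¹, g2 * c.2.1 * t * (g2 * c.2.1)⁻¹)
          = (g * t * g⁻¹, g2 * t * g2⁻¹)
        have e1 : g * c.1.1 * t * (g * c.1.1)⁻¹ = g * t * g⁻¹ :=
          (conj_eq_conj_iff t g (g * c.1.1)).2 (by
            have : g⁻¹ * (g * c.1.1) = c.1.1 := by group
            rw [this]; exact c.1.2)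
        have e2 : g2 * c.2.1 * t * (g2 * c.2.1)⁻¹ = g2 * t * g2⁻¹ :=
          (conj_eq_conj_iff t g2 (g2 * c.2.1)).2 (by
            have : g2⁻¹ * (g2 * c.2.1) = c.2.1 := by group
            rw [this]; exact c.2.2)
        rw [e1, e2]
      · rintro ⟨⟨⟨a, b⟩, hab⟩, hp⟩
        apply Subtype.ext; apply Subtype.ext
        apply Prod.ext
        · show g * (g⁻¹ * a) = a; group
        · show g2 * (g2⁻¹ * b) = b; group
      · rintro ⟨⟨c1, hc1⟩, ⟨c2, hc2⟩⟩
        apply Prod.ext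
        · apply Subtype.ext; show g⁻¹ * (g * c1) = c1; group
        · apply Subtype.ext; show g2⁻¹ * (g2 * c2) = c2; group)
  have hrange : Set.range
      (fun p : {p : G × G // p.1 * t * p.1⁻¹ * (p.2 * t * p.2⁻¹) = z} =>
        (p.1.1 * t * p.1.1⁻¹, p.1.2 * t * p.1.2⁻¹))
      = {q : G × G | orderOf q.1 = 2 ∧ orderOf q.2 = 2 ∧ q.1 * q.2 = z} := by
    ext ⟨u, v⟩
    constructor
    · rintro ⟨⟨⟨a, b⟩, hab⟩, hp⟩
      have hp' : (a * t * a⁻¹, b * t * b⁻¹) = (u, v) := hp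
      obtain ⟨rfl, rfl⟩ := Prod.ext_iff.1 hp'
      refine ⟨?_, ?_, hab⟩
      · show orderOf (a * t * a⁻¹) = 2
        rw [orderOf_conj_eq]; exact h.ht
      · show orderOf (b * t * b⁻¹) = 2
        rw [orderOf_conj_eq]; exact h.ht
    · rintro ⟨hu, hv, huv⟩
      obtain ⟨a, ha⟩ := h.exists_conj_t hu
      obtain ⟨b, hb⟩ := h.exists_conj_t hv
      have hu' : orderOf u = 2 := hu
      refine ⟨⟨(a, b), ?_⟩, ?_⟩
      · show a * t * a⁻¹ * (b * t * b⁻¹) = z
        rw [← ha, ← hb]; exact huv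
      · show (a * t * a⁻¹, b * t * b⁻¹) = (u, v)
        rw [← ha, ← hb]
  rw [hrange, Nat.card_prod, h.card_H] at key
  rw [key]
  unfold nPairs
  have : Nat.card ↥{q : G × G | orderOf q.1 = 2 ∧ orderOf q.2 = 2 ∧ q.1 * q.2 = z}
      = Nat.card {p : G × G // orderOf p.1 = 2 ∧ orderOf p.2 = 2 ∧ p.1 * p.2 = z} := rfl
  rw [this]; ring

/-- `nPairs = aInv` on the rest. -/
theorem nPairs_eq_aInv [Finite G] {t s : G} {K : Subgroup G} (h : Hyp t s K) {z : G}
    (hz : Rest K z) : nPairs z = aInv z := by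
  rw [nPairs_eq]
  unfold aInv
  exact Nat.card_congr (Equiv.subtypeEquivRight (invol_pair_iff (h.rest_odd hz)))

end Cfsg.Agent.Lib.Helper77.BSWBridge
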