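import Cfsg.Agent.Lib.Helper77.BSWBridge

/-! S3282 piece `CardConj`. -/

set_option maxHeartbeats 400000
set_option autoImplicit false

namespace Cfsg.Agent.Lib.Helper77.BSWCardConj

open Cfsg.Agent.Lib.Helper25.BSWSpec Cfsg.Agent.Lib.Helper77.BSWGrp
open Cfsg.Agent.Lib.Helper77.BSWBridge Subgroup

universe u

theorem main : Cfsg.Agent.Lib.Helper25.BSWSpec.CardConj.{u} := by
  intro G _ _ t K s k hB
  have hh := hyp_of_basic hB
  have h1 : Nat.card {z : G // z ≠ 1 ∧ ¬ NotConjK K z} = Nat.card {x : G // InConjK K x} :=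
    Nat.card_congr (Equiv.subtypeEquivRight (fun z => (inConjK_iff z).symm))
  rw [h1, ← hB.card_K]
  exact hh.card_inConjK

end Cfsg.Agent.Lib.Helper77.BSWCardConj
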