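import Cfsg.Agent.Lib.Helper77.BSWBridge

/-! S3282 piece `EndP` (endgame for `q = 2k - 1`). -/

set_option maxHeartbeats 800000
set_option autoImplicit false

namespace Cfsg.Agent.Lib.Helper77.BSWEndP

open Cfsg.Agent.Lib.Helper25.BSWSpec Cfsg.Agent.Lib.Helper77.BSWGrp
open Cfsg.Agent.Lib.Helper77.BSWBridge Subgroup

universe u

/-- the join of a subgroup with the group generated by an involution normalizing it. -/
theorem mem_sup_zpowers_iff {G : Type*} [Group G] (C : Subgroup G) (w : G) (hw : w * w = 1)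
    (hn : ∀ c ∈ C, w * c * w ∈ C) (x : G) : x ∈ C ⊔ zpowers w ↔ x ∈ C ∨ x * w ∈ C := by
  have hwi : w⁻¹ = w := inv_eq_of_mul_eq_one_left hw
  constructor
  · intro hx
    let HK : Subgroup G :=
      { carrier := {x | x ∈ C ∨ x * w ∈ C}
        one_mem' := Or.inl C.one_mem
        mul_mem' := by
          rintro a b (ha | ha) (hb | hb)
          · exact Or.inl (C.mul_mem ha hb)
          · right
            have : a * b * w = a * (b * w) := by group
            rw [this]; exact C.mul_mem ha hb
          · right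
            have e : a * b * w = (a * w) * (w * b * w) := by
              calc a * b * w = a * (w * w) * b * w := by rw [hw, mul_one]
                _ = (a * w) * (w * b * w) := by group
            rw [e]
            exact C.mul_mem ha (hn b hb)
          · left
            have e : a * b = (a * w) * (w * (b * w) * w) := by
              calc a * b = a * (w * w) * b * (w * w) := by rw [hw, mul_one, mul_one]
                _ = (a * w) * (w * (b * w) * w) := by group
            rw [e]
            exact C.mul_mem ha (hn _ hb)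
        inv_mem' := by
          rintro a (ha | ha)
          · exact Or.inl (C.inv_mem ha)
          · right
            have e : a⁻¹ * w = (w * (a * w) * w)⁻¹ := by
              calc a⁻¹ * w = (w * w)⁻¹ * a⁻¹ * w⁻¹ := by rw [hw, inv_one, one_mul, hwi]
                _ = (w * (a * w) * w)⁻¹ := by group
            rw [e]; exact C.inv_mem (hn _ ha) }
    have hle : C ⊔ zpowers w ≤ HK := by
      refine sup_le (fun y hy => Or.inl hy) ?_
      rw [zpowers_le]
      right
      show w * w ∈ C
      rw [hw]; exact C.one_mem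
    exact hle hx
  · rintro (hx | hx)
    · exact mem_sup_left hx
    · have : x = (x * w) * w := by rw [mul_assoc, hw, mul_one]
      rw [this]
      exact mul_mem (mem_sup_left hx) (mem_sup_right (mem_zpowers w))

theorem conj_mem_centralizer_iff {G : Type*} [Group G] (l y d : G) :
    l * d * l⁻¹ ∈ centralizer ({l * y * l⁻¹} : Set G) ↔ d ∈ centralizer ({y} : Set G) := by
  rw [mem_centralizer_singleton_iff, mem_centralizer_singleton_iff]
  constructor
  · intro h
    have h1 : l * (d * y) * l⁻¹ = l * (y * d) * l⁻¹ := by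
      calc l * (d * y) * l⁻¹ = (l * d * l⁻¹) * (l * y * l⁻¹) := by group
        _ = (l * y * l⁻¹) * (l * d * l⁻¹) := h
        _ = l * (y * d) * l⁻¹ := by group
    exact mul_left_cancel (mul_right_cancel h1)
  · intro h
    calc (l * d * l⁻¹) * (l * y * l⁻¹) = l * (d * y) * l⁻¹ := by group
      _ = l * (y * d) * l⁻¹ := by rw [h]
      _ = (l * y * l⁻¹) * (l * d * l⁻¹) := by group

theorem mem_normalizer_centralizer {G : Type*} [Group G] (l y : G)
    (h : centralizer ({l * y * l⁻¹} : Set G) = centralizer ({y} : Set G)) :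
    l ∈ normalizer ((centralizer ({y} : Set G) : Subgroup G) : Set G) := by
  rw [mem_normalizer_iff]
  intro d
  rw [← conj_mem_centralizer_iff l y d, h]

theorem card_ne_one_subtype {A : Type*} [Group A] [Finite A] :
    Nat.card {x : A // x ≠ 1} = Nat.card A - 1 := by
  classical
  have := Nat.card_congr (Equiv.optionSubtypeNe (1 : A))
  rw [Finite.card_option] at this
  omega

theorem main : Cfsg.Agent.Lib.Helper25.BSWSpec.EndP.{u} := by
  intro hRS1 hRS2 hPL G _ _ t K s k hB hk hG hdich hR0 p hp hpb hiff hexp hcent hTI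
  haveI : Fact p.Prime := ⟨hp⟩
  have hh := hyp_of_basic hB
  obtain ⟨b, hb⟩ := hpb
  -- arithmetic facts
  have hpq : p ∣ 2 * k - 1 := by
    rw [hb]
    apply dvd_pow_self
    rintro rfl
    simp at hb
    omega
  have hp2k : ¬ p ∣ 2 * k := by
    intro h
    have h3 := Nat.dvd_sub h hpq
    have e : 2 * k - (2 * k - 1) = 1 := by omega
    rw [e] at h3
    exact hp.one_lt.ne' (Nat.dvd_one.1 h3)
  have hpk1 : ¬ p ∣ k - 1 := by
    intro h
    have h2 : p ∣ 2 * (k - 1) := Dvd.dvd.mul_left h 2
    have h3 := Nat.dvd_sub hpq h2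
    have e : 2 * k - 1 - 2 * (k - 1) = 1 := by omega
    rw [e] at h3
    exact hp.one_lt.ne' (Nat.dvd_one.1 h3)
  have hcop : Nat.Coprime p (2 * k * (k - 1)) := by
    rw [Nat.Prime.coprime_iff_not_dvd hp]
    intro h
    rcases (Nat.Prime.dvd_mul hp).1 h with h | h
    · exact hp2k h
    · exact hpk1 h
  have hcop2 : Nat.Coprime (2 * k - 1) (k - 1) := by
    have h1 : Nat.gcd (2 * k - 1) (k - 1) ∣ 2 * k - 1 := Nat.gcd_dvd_left _ _
    have h2 : Nat.gcd (2 * k - 1) (k - 1) ∣ 2 * (k - 1) :=
      Dvd.dvd.mul_left (Nat.gcd_dvd_right _ _) 2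
    have h3 := Nat.dvd_sub h1 h2
    have e : 2 * k - 1 - 2 * (k - 1) = 1 := by omega
    rw [e] at h3
    exact Nat.dvd_one.1 h3
  have hkodd : ¬ 2 ∣ k - 1 := by
    have := hB.two_dvd
    omega
  -- p-subgroups have order dividing 2k-1
  have hPcard : ∀ P : Subgroup G, IsPGroup p P → Nat.card P ∣ 2 * k - 1 := by
    intro P hP
    obtain ⟨n, hn⟩ := hP.exists_card_eq
    have h1 : Nat.card P ∣ (2 * k * (k - 1)) * (2 * k - 1) := by
      rw [← hG]; exact Subgroup.card_subgroup_dvd_card P
    rw [hn] at h1 ⊢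
    exact Nat.Coprime.dvd_of_dvd_mul_left (Nat.Coprime.pow_left n hcop) h1
  -- centralizers of elements of order p are Sylow subgroups
  have hC : ∀ x : G, orderOf x = p →
      ∃ P : Sylow p G, (P : Subgroup G) = centralizer ({x} : Set G) := by
    intro x hx
    have hc := hcent x hx
    have hPG : IsPGroup p (centralizer ({x} : Set G)) := IsPGroup.of_card (hc.trans hb)
    obtain ⟨P, hP⟩ := hPG.exists_le_sylow
    refine ⟨P, (Subgroup.eq_of_le_of_card_ge hP ?_).symm⟩
    rw [hc]
    exact Nat.le_of_dvd (by omega) (hPcard P P.2)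
  -- non-identity elements of a Sylow subgroup have order p
  have hO : ∀ P : Sylow p G, ∀ x ∈ (P : Subgroup G), x ≠ 1 → orderOf x = p := by
    intro P x hx hx1
    apply hexp x hx1
    obtain ⟨n, hn⟩ := (IsPGroup.iff_orderOf.1 P.2) ⟨x, hx⟩
    refine ⟨n, ?_⟩
    rw [← hn]
    exact (Subgroup.orderOf_mk x hx).symm
  -- and their centralizer is that Sylow subgroup
  have hU : ∀ P : Sylow p G, ∀ x ∈ (P : Subgroup G), x ≠ 1 →
      centralizer ({x} : Set G) = P := by
    intro P x hx hx1
    obtain ⟨P', hP'⟩ := hC x (hO P x hx hx1)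
    have hxP' : x ∈ (P' : Subgroup G) := by
      rw [hP']; exact mem_centralizer_singleton_iff.2 rfl
    have hPP : P = P' := by
      by_contra hne
      have hbot := hTI P P' hne
      have hmem : x ∈ (P : Subgroup G) ⊓ (P' : Subgroup G) := ⟨hx, hxP'⟩
      rw [hbot, Subgroup.mem_bot] at hmem
      exact hx1 hmem
    rw [hPP, hP']
  -- an element of order p and its Sylow subgroup
  obtain ⟨z, hz⟩ := exists_prime_orderOf_dvd_card' (G := G) p
    (by rw [hG]; exact Dvd.dvd.mul_left hpq _)
  obtain ⟨P₀, hP₀⟩ := hC z hz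
  have hcardP₀ : Nat.card (P₀ : Subgroup G) = 2 * k - 1 := by
    rw [hP₀]; exact hcent z hz
  have hcardS : ∀ P : Sylow p G, Nat.card (P : Subgroup G) = 2 * k - 1 := by
    intro P
    rw [Sylow.card_eq_multiplicity, ← hcardP₀, Sylow.card_eq_multiplicity]
  -- the number of Sylow subgroups
  have hnp : Nat.card (Sylow p G) = 2 * k := by
    have hO_card : Nat.card {z : G // orderOf z = p} = (2 * k - 1) ^ 2 - 1 := by
      rw [← hR0]
      exact Nat.card_congr (Equiv.subtypeEquivRight (fun z => (hiff z).symm))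
    have hspec : ∀ z : {z : G // orderOf z = p},
        ((Classical.choose (hC z.1 z.2) : Sylow p G) : Subgroup G) = centralizer ({z.1} : Set G) :=
      fun z => Classical.choose_spec (hC z.1 z.2)
    have hfP : ∀ (P : Sylow p G) (x : G) (hx : x ∈ (P : Subgroup G)) (hx1 : x ≠ 1),
        Classical.choose (hC x (hO P x hx hx1)) = P := by
      intro P x hx hx1
      apply Sylow.ext
      rw [hspec ⟨x, hO P x hx hx1⟩]
      exact hU P x hx hx1
    have key := card_eq_card_range_mul
      (fun z : {z : G // orderOf z = p} => Classical.choose (hC z.1 z.2)) (2 * k - 2) (by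
        intro z₀
        have hcard : Nat.card {x : ((Classical.choose (hC z₀.1 z₀.2) : Sylow p G) : Subgroup G)
            // x ≠ 1} = 2 * k - 2 := by
          rw [card_ne_one_subtype, hcardS]; omega
        rw [← hcard]
        refine Nat.card_congr
          { toFun := fun z => ⟨⟨z.1.1, ?_⟩, ?_⟩
            invFun := fun x => ⟨⟨x.1.1, hO _ x.1.1 x.1.2 (fun e => x.2 (Subtype.ext e))⟩, ?_⟩
            left_inv := ?_
            right_inv := ?_ }
        · obtain ⟨⟨z, hz⟩, hz'⟩ := z
          have hz'' : Classical.choose (hC z hz) = Classical.choose (hC z₀.1 z₀.2) := hz'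
          show z ∈ ((Classical.choose (hC z₀.1 z₀.2) : Sylow p G) : Subgroup G)
          rw [← hz'', hspec ⟨z, hz⟩]
          exact mem_centralizer_singleton_iff.2 rfl
        · intro e
          have e' : z.1.1 = 1 := congrArg Subtype.val e
          have h2 := z.1.2
          rw [e', orderOf_one] at h2
          exact hp.one_lt.ne h2
        · exact hfP _ x.1.1 x.1.2 (fun e => x.2 (Subtype.ext e))
        · rintro ⟨⟨z, hz⟩, hz'⟩; rfl
        · rintro ⟨⟨x, hx⟩, hx1⟩; rfl)
    have hsurj : Set.range (fun z : {z : G // orderOf z = p} => Classical.choose (hC z.1 z.2))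
        = Set.univ := by
      rw [Set.range_eq_univ]
      intro P
      have hne : (P : Subgroup G) ≠ ⊥ := by
        rw [← Subgroup.one_lt_card_iff_ne_bot, hcardS]; omega
      obtain ⟨x, hx1⟩ := Subgroup.ne_bot_iff_exists_ne_one.1 hne
      have hx1' : (x : G) ≠ 1 := fun e => hx1 (Subtype.ext e)
      exact ⟨⟨x.1, hO P x.1 x.2 hx1'⟩, hfP P x.1 x.2 hx1'⟩
    rw [hsurj, hO_card, Nat.card_congr (Equiv.Set.univ (Sylow p G))] at key
    obtain ⟨m, rfl⟩ : ∃ m, k = m + 4 := ⟨k - 4, by omega⟩
    have e1 : 2 * (m + 4) - 1 = 2 * m + 7 := by omega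
    have e2 : 2 * (m + 4) - 2 = 2 * m + 6 := by omega
    rw [e1, e2] at key
    have e3 : (2 * m + 7) ^ 2 - 1 = (2 * (m + 4)) * (2 * m + 6) := by
      have : (2 * m + 7) ^ 2 = (2 * (m + 4)) * (2 * m + 6) + 1 := by ring
      omega
    rw [e3] at key
    exact (Nat.eq_of_mul_eq_mul_right (by omega) key).symm
  -- the normalizer of the Sylow subgroup
  obtain ⟨N, hNdef⟩ : ∃ N : Subgroup G, N = normalizer ((P₀ : Subgroup G) : Set G) := ⟨_, rfl⟩
  have hNcard : Nat.card N = (k - 1) * (2 * k - 1) := by
    have h1 : Nat.card (Sylow p G) = (normalizer ((P₀ : Subgroup G) : Set G)).index :=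
      Sylow.card_eq_index_normalizer P₀
    have h2 := Subgroup.card_mul_index N
    rw [hNdef, ← h1, hnp, hG] at h2
    rw [hNdef]
    have h3 : Nat.card (normalizer ((P₀ : Subgroup G) : Set G)) * (2 * k)
        = ((k - 1) * (2 * k - 1)) * (2 * k) := by rw [h2]; ring
    exact Nat.eq_of_mul_eq_mul_right (by omega) h3
  have hQN : (P₀ : Subgroup G) ≤ N := by rw [hNdef]; exact le_normalizer
  haveI hnormal : ((P₀ : Subgroup G).subgroupOf N).Normal := by
    rw [hNdef]; exact normal_in_normalizer
  have hcardQ' : Nat.card ((P₀ : Subgroup G).subgroupOf N) = 2 * k - 1 := by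
    rw [Nat.card_congr (Subgroup.subgroupOfEquivOfLe hQN).toEquiv]; exact hcardP₀
  have hidx : ((P₀ : Subgroup G).subgroupOf N).index = k - 1 := by
    have h1 := Subgroup.card_mul_index ((P₀ : Subgroup G).subgroupOf N)
    rw [hcardQ', hNcard] at h1
    have h2 : (2 * k - 1) * ((P₀ : Subgroup G).subgroupOf N).index = (2 * k - 1) * (k - 1) := by
      rw [h1]; ring
    exact Nat.eq_of_mul_eq_mul_left (by omega) h2
  obtain ⟨H', hH'⟩ := Subgroup.exists_right_complement'_of_coprime
    (N := (P₀ : Subgroup G).subgroupOf N) (by rw [hcardQ', hidx]; exact hcop2)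
  have hcardH' : Nat.card H' = k - 1 := by
    have h1 := hH'.card_mul_card
    rw [hcardQ', hNcard] at h1
    have h2 : (2 * k - 1) * Nat.card H' = (2 * k - 1) * (k - 1) := by rw [h1]; ring
    exact Nat.eq_of_mul_eq_mul_left (by omega) h2
  obtain ⟨D0, hD0def⟩ : ∃ D0 : Subgroup G, D0 = H'.map N.subtype := ⟨_, rfl⟩
  have hcardD0 : Nat.card D0 = k - 1 := by
    rw [hD0def, Subgroup.card_map_of_injective (Subgroup.subtype_injective N)]; exact hcardH'
  have hQD0 : (P₀ : Subgroup G) ⊓ D0 = ⊥ := by
    rw [eq_bot_iff, hD0def]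
    rintro x ⟨hxQ, ⟨y, hy, rfl⟩⟩
    have hmem : y ∈ (P₀ : Subgroup G).subgroupOf N ⊓ H' := ⟨Subgroup.mem_subgroupOf.2 hxQ, hy⟩
    rw [hH'.disjoint.eq_bot, Subgroup.mem_bot] at hmem
    rw [Subgroup.mem_bot, hmem]; rfl
  have hsup : (P₀ : Subgroup G) ⊔ D0 = N := by
    have h1 : ((P₀ : Subgroup G).subgroupOf N ⊔ H').map N.subtype = N := by
      rw [hH'.sup_eq_top, ← MonoidHom.range_eq_map, Subgroup.range_subtype]
    rw [Subgroup.map_sup, Subgroup.subgroupOf_map_subtype, inf_of_le_left hQN] at h1
    rw [hD0def]; exact h1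
  -- elements of D0
  have hD0elt : ∀ y ∈ D0, y ≠ 1 → NotConjK K y ∧ aInv y = k - 1 := by
    intro y hy hy1
    have hord : orderOf y ∣ k - 1 := by
      rw [← hcardD0]
      have := orderOf_dvd_natCard (⟨y, hy⟩ : D0)
      rwa [Subgroup.orderOf_mk] at this
    have hnc : NotConjK K y := by
      intro g hg
      have h1 : orderOf (g * y * g⁻¹) ∣ k := by
        rw [← hB.card_K]
        have := orderOf_dvd_natCard (⟨g * y * g⁻¹, hg⟩ : K)
        rwa [Subgroup.orderOf_mk] at this
      rw [orderOf_conj_eq] at h1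
      have h2 : orderOf y ∣ 1 := by
        have h3 := Nat.dvd_sub h1 hord
        have e : k - (k - 1) = 1 := by omega
        rwa [e] at h3
      exact hy1 (orderOf_eq_one_iff.1 (Nat.dvd_one.1 h2))
    refine ⟨hnc, ?_⟩
    rcases hdich y hnc with h0 | h1
    · exfalso
      have hyp : orderOf y = p := (hiff y).1 ⟨hnc, h0⟩
      rw [hyp] at hord
      exact hpk1 hord
    · exact h1
  have hRS : ∀ y ∈ D0, y ≠ 1 → ∃ w : G, orderOf w = 2 ∧ w * y * w⁻¹ = y⁻¹ ∧
      (∀ x ∈ centralizer ({y} : Set G), w * x * w⁻¹ = x⁻¹) ∧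
      (∀ x ∈ centralizer ({y} : Set G), x ≠ 1 →
        NotConjK K x ∧ centralizer ({x} : Set G) = centralizer ({y} : Set G)) ∧
      Nat.card (centralizer ({y} : Set G)) = k - 1 ∧
      normalizer ((centralizer ({y} : Set G) : Subgroup G) : Set G)
        = centralizer ({y} : Set G) ⊔ zpowers w ∧
      w ∉ centralizer ({y} : Set G) := by
    intro y hy hy1
    obtain ⟨hnc, ha⟩ := hD0elt y hy hy1
    have hne : Nonempty {w : G // orderOf w = 2 ∧ w * y * w⁻¹ = y⁻¹} := by
      by_contra hemp
      haveI := not_nonempty_iff.1 hemp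
      have h0 : aInv y = 0 := by
        unfold aInv; exact Nat.card_of_isEmpty
      omega
    obtain ⟨⟨w, hw2, hwy⟩⟩ := hne
    obtain ⟨h1, h2, h3⟩ := hRS1 G t K s k hB y w hnc hw2 hwy
    obtain ⟨E, hE1, hE2, hwE, hE3, g, hg, hEK⟩ := hRS2 hRS1 G t K s k hB y w hnc hw2 hwy
    have hcardC : Nat.card (centralizer ({y} : Set G)) = k - 1 := by rw [← h3]; exact ha
    have hEk : Nat.card E ∣ k := by
      have h4 := Subgroup.card_dvd_of_le hEK
      rwa [Subgroup.card_map_of_injective (MulAut.conj g).injective, hB.card_K] at h4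
    have hE2' : Nat.card E ∣ k - 2 := by
      rw [hcardC] at hE3
      have e : k - 1 - 1 = k - 2 := by omega
      rwa [e] at hE3
    have hEdvd2 : Nat.card E ∣ 2 := by
      have h4 := Nat.dvd_sub hEk hE2'
      have e : k - (k - 2) = 2 := by omega
      rwa [e] at h4
    have hzw : zpowers w ≤ E := zpowers_le.2 hwE
    have hEeq : zpowers w = E := by
      apply Subgroup.eq_of_le_of_card_ge hzw
      rw [Nat.card_zpowers, hw2]
      exact Nat.le_of_dvd (by norm_num) hEdvd2
    refine ⟨w, hw2, hwy, h1, h2, hcardC, ?_, ?_⟩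
    · rw [hEeq]; exact hE1
    · intro hwC
      have hmem : w ∈ centralizer ({y} : Set G) ⊓ E := ⟨hwC, hwE⟩
      rw [hE2, Subgroup.mem_bot] at hmem
      exact ne_one_of_orderOf_two hw2 hmem
  -- D0 is abelian
  have hD0comm : ∀ a b : D0, a * b = b * a := by
    apply hPL D0
    intro y hy1
    have hy1' : (y : G) ≠ 1 := fun e => hy1 (Subtype.ext e)
    obtain ⟨w, hw2, hwy, h1, h2, hcardC, hNC, hwC⟩ := hRS y.1 y.2 hy1'
    have hww := sq_of_orderOf_two hw2
    have hwi := inv_of_orderOf_two hw2
    constructor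
    · intro x hx hx1
      have hx' : (x : G) ∈ centralizer ({(y : G)} : Set G) := by
        rw [mem_centralizer_singleton_iff] at hx ⊢
        exact congrArg Subtype.val hx
      have hx1' : (x : G) ≠ 1 := fun e => hx1 (Subtype.ext e)
      have hceq := (h2 x.1 hx' hx1').2
      ext d
      have e1 : (d : G) ∈ centralizer ({(x : G)} : Set G)
          ↔ (d : G) ∈ centralizer ({(y : G)} : Set G) := by rw [hceq]
      rw [mem_centralizer_singleton_iff, mem_centralizer_singleton_iff] at e1 ⊢
      constructor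
      · intro h; exact Subtype.ext (e1.1 (congrArg Subtype.val h))
      · intro h; exact Subtype.ext (e1.2 (congrArg Subtype.val h))
    · apply le_antisymm
      · intro l hl
        have hyC : y ∈ centralizer ({y} : Set D0) := mem_centralizer_singleton_iff.2 rfl
        have h3 := (mem_normalizer_iff.1 hl y).1 hyC
        have h3' : (l : G) * y * (l : G)⁻¹ ∈ centralizer ({(y : G)} : Set G) := by
          rw [mem_centralizer_singleton_iff] at h3 ⊢
          exact congrArg Subtype.val h3
        have hne : (l : G) * y * (l : G)⁻¹ ≠ 1 := by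
          intro e
          apply hy1'
          have : (y : G) = (l : G)⁻¹ * ((l : G) * y * (l : G)⁻¹) * l := by group
          rw [this, e]; group
        have hceq := (h2 _ h3' hne).2
        have hlN := mem_normalizer_centralizer (l : G) (y : G) hceq
        rw [hNC, mem_sup_zpowers_iff _ w hww (fun c hc => by
          have := h1 c hc; rw [hwi] at this; rw [this]; exact inv_mem hc)] at hlN
        rcases hlN with hl1 | hl2
        · rw [mem_centralizer_singleton_iff] at hl1 ⊢
          exact Subtype.ext hl1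
        · exfalso
          -- l is an involution or trivial
          have h4 := h1 _ hl2
          rw [hwi, mul_inv_rev, hwi] at h4
          -- w * (l * w) * w = w * l⁻¹
          have h5 : (l : G) = (l : G)⁻¹ := by
            have : w * ((l : G) * w) * w = w * (l : G) := by
              calc w * ((l : G) * w) * w = w * (l : G) * (w * w) := by group
                _ = w * (l : G) := by rw [hww, mul_one]
            rw [this] at h4
            exact mul_left_cancel h4
          have h6 : (l : G) ^ 2 = 1 := by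
            rw [sq]
            calc (l : G) * (l : G) = (l : G) * (l : G)⁻¹ := by rw [← h5]
              _ = 1 := mul_inv_cancel _
          have h7 : orderOf (l : G) ∣ 2 := orderOf_dvd_of_pow_eq_one h6
          have h8 : orderOf (l : G) ∣ k - 1 := by
            rw [← hcardD0]
            have := orderOf_dvd_natCard l
            rwa [← Subgroup.orderOf_coe] at this
          have h9 : orderOf (l : G) = 1 := by
            rcases (Nat.dvd_prime Nat.prime_two).1 h7 with h | h
            · exact h
            · rw [h] at h8; exact absurd h8 hkodd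
          have h10 : (l : G) = 1 := orderOf_eq_one_iff.1 h9
          rw [h10, one_mul] at hl2
          exact hwC hl2
      · exact Subgroup.le_normalizer
  -- D0 is the centralizer of each of its non-identity elements
  obtain ⟨y, hy, hy1⟩ : ∃ y ∈ D0, y ≠ 1 := by
    have hne : D0 ≠ ⊥ := by
      rw [← Subgroup.one_lt_card_iff_ne_bot, hcardD0]; omega
    obtain ⟨x, hx1⟩ := Subgroup.ne_bot_iff_exists_ne_one.1 hne
    exact ⟨x.1, x.2, fun e => hx1 (Subtype.ext e)⟩
  obtain ⟨w, hw2, hwy, h1, h2, hcardC, hNC, hwC⟩ := hRS y hy hy1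
  have hww := sq_of_orderOf_two hw2
  have hwi := inv_of_orderOf_two hw2
  have hD0C : D0 = centralizer ({y} : Set G) := by
    apply Subgroup.eq_of_le_of_card_ge
    · intro d hd
      rw [mem_centralizer_singleton_iff]
      exact congrArg Subtype.val (hD0comm ⟨d, hd⟩ ⟨y, hy⟩)
    · rw [hcardC, hcardD0]
  have hcomm : ∀ a ∈ D0, ∀ b ∈ D0, a * b = b * a := fun a ha b hb =>
    congrArg Subtype.val (hD0comm ⟨a, ha⟩ ⟨b, hb⟩)
  rw [← hD0C] at h1 h2 hNC hwC
  have hnormw : ∀ c ∈ D0, w * c * w ∈ D0 := fun c hc => by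
    have := h1 c hc; rw [hwi] at this; rw [this]; exact inv_mem hc
  refine ⟨(P₀ : Subgroup G), D0, ?_, fun x hx hx1 => hU P₀ x hx hx1,
    ⟨⟨fun a b => hD0comm a b⟩⟩, ?_, hQD0, ?_, ?_⟩
  · rw [hcardP₀, hG]
    obtain ⟨m, rfl⟩ : ∃ m, k = m + 4 := ⟨k - 4, by omega⟩
    have e1 : 2 * (m + 4) - 1 = 2 * m + 7 := by omega
    have e2 : m + 4 - 1 = m + 3 := by omega
    rw [e1, e2]
    have e3 : 2 * m + 7 - 1 = 2 * m + 6 := by omega
    rw [e3]; ring
  · rw [hcardD0, hcardP₀]; omega
  · rw [hsup, hNdef]
  · intro X hXD hX1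
    refine ⟨?_, w, hw2, hwC, h1, hNC⟩
    obtain ⟨x₀, hx₀1⟩ := Subgroup.ne_bot_iff_exists_ne_one.1 hX1
    have hx₀1' : (x₀ : G) ≠ 1 := fun e => hx₀1 (Subtype.ext e)
    apply le_antisymm
    · intro g hg
      have hgx : g * x₀ * g⁻¹ ∈ X := (mem_normalizer_iff.1 hg x₀).1 x₀.2
      have hne : g * (x₀ : G) * g⁻¹ ≠ 1 := by
        intro e
        apply hx₀1'
        have : (x₀ : G) = g⁻¹ * (g * x₀ * g⁻¹) * g := by group
        rw [this, e]; group
      have hc1 := (h2 x₀ (hXD x₀.2) hx₀1').2
      have hc2 := (h2 _ (hXD hgx) hne).2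
      have := mem_normalizer_centralizer g (x₀ : G) (hc2.trans hc1.symm)
      rwa [hc1] at this
    · intro g hg
      have hg' := hg
      rw [hNC, mem_sup_zpowers_iff _ w hww hnormw] at hg'
      have hconj : ∀ x ∈ D0, g * x * g⁻¹ = x ∨ g * x * g⁻¹ = x⁻¹ := by
        intro x hx
        rcases hg' with hgD | hgw
        · left
          rw [hcomm g hgD x hx, mul_assoc, mul_inv_cancel, mul_one]
        · right
          have e : g * x * g⁻¹ = (g * w) * (w * x * w⁻¹) * (g * w)⁻¹ := by
            rw [hwi]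
            calc g * x * g⁻¹ = g * (w * w) * x * (w * w) * g⁻¹ := by
                  rw [hww, mul_one, mul_one]
              _ = (g * w) * (w * x * w) * (g * w)⁻¹ := by rw [mul_inv_rev, hwi]; group
          rw [e, h1 x hx, hcomm (g * w) hgw x⁻¹ (inv_mem hx), mul_assoc, mul_inv_cancel,
            mul_one]
      rw [mem_normalizer_iff]
      intro x
      constructor
      · intro hx
        rcases hconj x (hXD hx) with e | e
        · rw [e]; exact hx
        · rw [e]; exact inv_mem hx
      · intro hx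
        have hxD : x ∈ D0 := (mem_normalizer_iff.1 hg x).2 (hXD hx)
        rcases hconj x hxD with e | e
        · rwa [e] at hx
        · rw [e] at hx; exact (inv_mem_iff).1 hx

end Cfsg.Agent.Lib.Helper77.BSWEndP
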