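import Mathlib
import Cfsg.Agent.Lib.Helper90.Invert
import Cfsg.Agent.S0738

/-!
# Brauer–Suzuki–Wall set-up: elementary group theory

`Hyp t s K` bundles the hypotheses of the abstract Brauer–Suzuki–Wall theorem
(`C(t) = K⟨s⟩`, `K` abelian TI, inverted by the involution `s`, `C_K(s) = ⟨t⟩`,
one class of involutions).  This file proves the elementary consequences.
-/

set_option maxHeartbeats 400000
set_option autoImplicit false

namespace Cfsg.Agent.Lib.Helper77.BSWGrp

open Subgroup

variable {G : Type*} [Group G]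

/-- The hypotheses of the abstract Brauer–Suzuki–Wall theorem. -/
structure Hyp (t s : G) (K : Subgroup G) : Prop where
  ht : orderOf t = 2
  hKab : ∀ x ∈ K, ∀ y ∈ K, x * y = y * x
  hKH : K ≤ centralizer ({t} : Set G)
  htK : t ∈ K
  hs : orderOf s = 2
  hsH : s ∈ centralizer ({t} : Set G)
  hsK : s ∉ K
  hH : K ⊔ zpowers s = centralizer ({t} : Set G)
  hCK : K ⊓ centralizer ({s} : Set G) = zpowers t
  hinv : ∀ x ∈ K, s * x * s⁻¹ = x⁻¹
  hTI : ∀ g : G, g ∉ centralizer ({t} : Set G) →
    K ⊓ K.map (MulAut.conj g).toMonoidHom = ⊥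
  hconj : ∀ x y : G, orderOf x = 2 → orderOf y = 2 → IsConj x y

/-- `x` is conjugate to a non-identity element of `K`. -/
def InConjK (K : Subgroup G) (x : G) : Prop :=
  ∃ g : G, ∃ y ∈ K, y ≠ 1 ∧ x = g * y * g⁻¹

/-- the "rest": non-identity elements not conjugate into `K`. -/
def Rest (K : Subgroup G) (x : G) : Prop := x ≠ 1 ∧ ¬ InConjK K x

/-- strongly real: inverted by an involution. -/
def SReal (x : G) : Prop := ∃ a : G, orderOf a = 2 ∧ a * x * a⁻¹ = x⁻¹

theorem inv_of_orderOf_two {a : G} (ha : orderOf a = 2) : a⁻¹ = a := by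
  have h : a ^ 2 = 1 := by rw [← ha]; exact pow_orderOf_eq_one a
  rw [inv_eq_iff_mul_eq_one, ← sq]; exact h

theorem ne_one_of_orderOf_two {a : G} (ha : orderOf a = 2) : a ≠ 1 := by
  rintro rfl; simp at ha

theorem sq_of_orderOf_two {a : G} (ha : orderOf a = 2) : a * a = 1 := by
  have h : a ^ 2 = 1 := by rw [← ha]; exact pow_orderOf_eq_one a
  rwa [sq] at h

theorem orderOf_two_of_sq {a : G} (h1 : a ≠ 1) (h2 : a * a = 1) : orderOf a = 2 := by
  have : a ^ 2 = 1 := by rw [sq]; exact h2
  exact orderOf_eq_prime this h1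

namespace Hyp

variable {t s : G} {K : Subgroup G}

theorem s_inv (h : Hyp t s K) : s⁻¹ = s := inv_of_orderOf_two h.hs

theorem s_mul_s (h : Hyp t s K) : s * s = 1 := sq_of_orderOf_two h.hs

theorem t_ne_one (h : Hyp t s K) : t ≠ 1 := ne_one_of_orderOf_two h.ht

/-- conjugation by `s` inverts `K` (form without inverse). -/
theorem s_conj (h : Hyp t s K) {x : G} (hx : x ∈ K) : s * x * s = x⁻¹ := by
  have := h.hinv x hx
  rwa [h.s_inv] at this

/-- membership in `C(t)`: `K ∪ K s`. -/
theorem mem_H_iff (h : Hyp t s K) (x : G) :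
    x ∈ centralizer ({t} : Set G) ↔ x ∈ K ∨ x * s ∈ K := by
  constructor
  · intro hx
    rw [← h.hH] at hx
    -- the subgroup K ∪ K s
    let HK : Subgroup G :=
      { carrier := {x | x ∈ K ∨ x * s ∈ K}
        one_mem' := Or.inl K.one_mem
        mul_mem' := by
          rintro a b (ha | ha) (hb | hb)
          · exact Or.inl (K.mul_mem ha hb)
          · right
            have : a * b * s = a * (b * s) := by group
            rw [this]; exact K.mul_mem ha hb
          · right
            have e : a * b * s = (a * s) * (s * b * s) := by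
              calc a * b * s = a * (s * s) * b * s := by rw [h.s_mul_s, mul_one]
                _ = (a * s) * (s * b * s) := by group
            rw [e, h.s_conj hb]
            exact K.mul_mem ha (K.inv_mem hb)
          · left
            have e : a * b = (a * s) * (s * (b * s) * s) := by
              calc a * b = a * (s * s) * b * (s * s) := by rw [h.s_mul_s, mul_one, mul_one]
                _ = (a * s) * (s * (b * s) * s) := by group
            rw [e, h.s_conj hb]
            exact K.mul_mem ha (K.inv_mem hb)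
        inv_mem' := by
          rintro a (ha | ha)
          · exact Or.inl (K.inv_mem ha)
          · right
            have e : a⁻¹ * s = (s * (a * s) * s)⁻¹ := by
              calc a⁻¹ * s = (s * s) * a⁻¹ * s := by rw [h.s_mul_s, one_mul]
                _ = (s * (a * s) * s)⁻¹ := by
                    have hs' := h.s_inv
                    calc (s * s) * a⁻¹ * s = s⁻¹ * (s⁻¹ * a⁻¹ * s⁻¹) := by
                            rw [hs']; group
                      _ = (s * (a * s) * s)⁻¹ := by group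
            rw [e, h.s_conj ha, inv_inv]; exact ha }
    have hle : K ⊔ zpowers s ≤ HK := by
      refine sup_le (fun y hy => Or.inl hy) ?_
      rw [zpowers_le]
      right
      show s * s ∈ K
      rw [h.s_mul_s]; exact K.one_mem
    exact hle hx
  · rintro (hx | hx)
    · exact h.hKH hx
    · have : x = (x * s) * s := by rw [mul_assoc, h.s_mul_s, mul_one]
      rw [this]
      exact (centralizer ({t} : Set G)).mul_mem (h.hKH hx) h.hsH

/-- elements of `K s` are involutions. -/
theorem orderOf_of_mul_s_mem (h : Hyp t s K) {x : G} (hx : x * s ∈ K) : orderOf x = 2 := by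
  have hx1 : x ≠ 1 := by
    rintro rfl
    rw [one_mul] at hx
    exact h.hsK hx
  apply orderOf_two_of_sq hx1
  have e : x * x = (x * s) * (s * (x * s) * s) := by
    calc x * x = x * (s * s) * x * (s * s) := by rw [h.s_mul_s, mul_one, mul_one]
      _ = (x * s) * (s * (x * s) * s) := by group
  rw [e, h.s_conj hx, mul_inv_cancel]

/-- elements of `K s` invert `K`. -/
theorem conj_of_mul_s_mem (h : Hyp t s K) {x : G} (hx : x * s ∈ K) {y : G} (hy : y ∈ K) :
    x * y * x⁻¹ = y⁻¹ := by
  have hx2 := inv_of_orderOf_two (h.orderOf_of_mul_s_mem hx)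
  have e : x * y * x = (x * s) * (s * y * s) * (s * (x * s) * s) := by
    calc x * y * x = x * (s * s) * y * (s * s) * x * (s * s) := by
          rw [h.s_mul_s, mul_one, mul_one, mul_one]
      _ = (x * s) * (s * y * s) * (s * (x * s) * s) := by group
  rw [hx2, e, h.s_conj hy, h.s_conj hx]
  have hc := h.hKab (x * s) hx y⁻¹ (K.inv_mem hy)
  rw [hc, mul_assoc, mul_inv_cancel, mul_one]

/-- the only involution of `K` is `t`. -/
theorem eq_t_of_orderOf_two (h : Hyp t s K) {y : G} (hy : y ∈ K) (hy2 : orderOf y = 2) :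
    y = t := by
  have hyi := inv_of_orderOf_two hy2
  have hc : y ∈ centralizer ({s} : Set G) := by
    rw [mem_centralizer_singleton_iff]
    have := h.s_conj hy
    rw [hyi] at this
    symm
    calc s * y = s * y * (s * s) := by rw [h.s_mul_s, mul_one]
      _ = (s * y * s) * s := by group
      _ = y * s := by rw [this]
  have hmem : y ∈ K ⊓ centralizer ({s} : Set G) := ⟨hy, hc⟩
  rw [h.hCK, Subgroup.mem_zpowers_iff] at hmem
  obtain ⟨k, rfl⟩ := hmem
  have ht2 : t ^ (2 : ℤ) = 1 := by
    have : t ^ 2 = 1 := by rw [← h.ht]; exact pow_orderOf_eq_one t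
    exact_mod_cast this
  rcases Int.emod_two_eq_zero_or_one k with hk | hk
  · exfalso
    have : t ^ k = 1 := by
      conv_lhs => rw [← Int.mul_ediv_add_emod k 2, hk, add_zero, zpow_mul, ht2, one_zpow]
    rw [this] at hy2; simp at hy2
  · conv_lhs => rw [← Int.mul_ediv_add_emod k 2, hk, zpow_add, zpow_mul, ht2, one_zpow, one_mul,
      zpow_one]

/-- `K` is disjoint from `K s`. -/
theorem not_both (h : Hyp t s K) {x : G} (hx : x ∈ K) (hxs : x * s ∈ K) : False := by
  apply h.hsK
  have : s = x⁻¹ * (x * s) := by group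
  rw [this]; exact K.mul_mem (K.inv_mem hx) hxs

/-- the key TI property. -/
theorem mem_H_of_conj_mem (h : Hyp t s K) {y : G} (hy : y ∈ K) (hy1 : y ≠ 1) {g : G}
    (hg : g * y * g⁻¹ ∈ K) : g ∈ centralizer ({t} : Set G) := by
  by_contra hgH
  have hbot := h.hTI g hgH
  have hmem : g * y * g⁻¹ ∈ K ⊓ K.map (MulAut.conj g).toMonoidHom := by
    exact ⟨hg, Subgroup.mem_map.2 ⟨y, hy, by simp [MulAut.conj_apply]⟩⟩
  rw [hbot, Subgroup.mem_bot] at hmem
  apply hy1
  have : y = g⁻¹ * (g * y * g⁻¹) * g := by group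
  rw [this, hmem]; group

/-- centralizers of non-identity elements of `K` lie in `C(t)`. -/
theorem centralizer_le_H (h : Hyp t s K) {y : G} (hy : y ∈ K) (hy1 : y ≠ 1) :
    centralizer ({y} : Set G) ≤ centralizer ({t} : Set G) := by
  intro g hg
  rw [mem_centralizer_singleton_iff] at hg
  apply h.mem_H_of_conj_mem hy hy1 (g := g)
  rw [hg, mul_assoc, mul_inv_cancel, mul_one]; exact hy

/-- `K` is normal in `C(t)` elementwise. -/
theorem conj_mem_K (h : Hyp t s K) {g : G} (hg : g ∈ centralizer ({t} : Set G)) {y : G}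
    (hy : y ∈ K) : g * y * g⁻¹ ∈ K := by
  rcases (h.mem_H_iff g).1 hg with hgK | hgs
  · exact K.mul_mem (K.mul_mem hgK hy) (K.inv_mem hgK)
  · rw [h.conj_of_mul_s_mem hgs hy]; exact K.inv_mem hy

/-- normalizers of non-trivial subgroups of `K` equal `C(t)`. -/
theorem normalizer_eq_H (h : Hyp t s K) {X : Subgroup G} (hX : X ≤ K) (hX1 : X ≠ ⊥) :
    normalizer (X : Set G) = centralizer ({t} : Set G) := by
  apply le_antisymm
  · intro g hg
    obtain ⟨y, hyX, hy1⟩ := (Subgroup.ne_bot_iff_exists_ne_one.1 hX1 |>.choose_spec |> fun hh =>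
      (⟨(Subgroup.ne_bot_iff_exists_ne_one.1 hX1).choose.1,
        (Subgroup.ne_bot_iff_exists_ne_one.1 hX1).choose.2, fun e => hh (Subtype.ext e)⟩ :
        ∃ y : G, y ∈ X ∧ y ≠ 1))
    have hgy : g * y * g⁻¹ ∈ X := (mem_normalizer_iff.1 hg y).1 hyX
    exact h.mem_H_of_conj_mem (hX hyX) hy1 (hX hgy)
  · intro g hg
    rw [mem_normalizer_iff]
    intro y
    rcases (h.mem_H_iff g).1 hg with hgK | hgs
    · constructor
      · intro hy
        have : g * y * g⁻¹ = y := by
          rw [h.hKab g hgK y (hX hy), mul_assoc, mul_inv_cancel, mul_one]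
        rw [this]; exact hy
      · intro hy
        have hyK : y ∈ K := by
          have := K.mul_mem (K.mul_mem (K.inv_mem hgK) (hX hy)) hgK
          have e : g⁻¹ * (g * y * g⁻¹) * g = y := by group
          rwa [e] at this
        have : g * y * g⁻¹ = y := by
          rw [h.hKab g hgK y hyK, mul_assoc, mul_inv_cancel, mul_one]
        rwa [this] at hy
    · constructor
      · intro hy
        rw [h.conj_of_mul_s_mem hgs (hX hy)]; exact X.inv_mem hy
      · intro hy
        have hg2 := inv_of_orderOf_two (h.orderOf_of_mul_s_mem hgs)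
        have hyK : y ∈ K := by
          have := h.conj_mem_K hg (hX hy)
          have e : g * (g * y * g⁻¹) * g⁻¹ = y := by
            rw [hg2]
            have hgg := sq_of_orderOf_two (h.orderOf_of_mul_s_mem hgs)
            calc g * (g * y * g) * g = (g * g) * y * (g * g) := by group
              _ = y := by rw [hgg, one_mul, mul_one]
          rwa [e] at this
        rw [h.conj_of_mul_s_mem hgs hyK] at hy
        have := X.inv_mem hy
        rwa [inv_inv] at this

/-- every involution is a conjugate of `t`. -/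
theorem exists_conj_t (h : Hyp t s K) {a : G} (ha : orderOf a = 2) :
    ∃ g : G, a = g * t * g⁻¹ := by
  obtain ⟨c, hc⟩ := isConj_iff.1 (h.hconj t a h.ht ha)
  exact ⟨c, hc.symm⟩

theorem inConjK_of_orderOf_two (h : Hyp t s K) {a : G} (ha : orderOf a = 2) : InConjK K a := by
  obtain ⟨g, rfl⟩ := h.exists_conj_t ha
  exact ⟨g, t, h.htK, h.t_ne_one, rfl⟩

/-- a non-identity element commuting with an element of `conj(K^#)` lies in `conj(K^#)`. -/
theorem inConjK_of_commute (h : Hyp t s K) {x c : G} (hx1 : x ≠ 1) (hc : InConjK K c)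
    (hcx : c * x = x * c) : InConjK K x := by
  obtain ⟨g, y, hy, hy1, rfl⟩ := hc
  have hx' : g⁻¹ * x * g ∈ centralizer ({y} : Set G) := by
    rw [mem_centralizer_singleton_iff]
    have e1 : g⁻¹ * x * g * y = g⁻¹ * (x * (g * y * g⁻¹)) * g := by group
    have e2 : y * (g⁻¹ * x * g) = g⁻¹ * ((g * y * g⁻¹) * x) * g := by group
    rw [e1, e2, hcx]
  have hH := h.centralizer_le_H hy hy1 hx'
  rcases (h.mem_H_iff _).1 hH with hK | hKs
  · refine ⟨g, g⁻¹ * x * g, hK, ?_, by group⟩
    intro e; apply hx1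
    have : x = g * (g⁻¹ * x * g) * g⁻¹ := by group
    rw [this, e]; group
  · have h2 := h.orderOf_of_mul_s_mem hKs
    obtain ⟨u, hu⟩ := h.exists_conj_t h2
    refine ⟨g * u, t, h.htK, h.t_ne_one, ?_⟩
    have : x = g * (g⁻¹ * x * g) * g⁻¹ := by group
    rw [this, hu]; group

theorem rest_of_commute (h : Hyp t s K) {x c : G} (hx : Rest K x) (hc : c ≠ 1)
    (hcx : c * x = x * c) : Rest K c :=
  ⟨hc, fun hcK => hx.2 (h.inConjK_of_commute hx.1 hcK hcx)⟩

theorem rest_pow (h : Hyp t s K) {x : G} (hx : Rest K x) {j : ℕ} (hj : x ^ j ≠ 1) :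
    Rest K (x ^ j) :=
  h.rest_of_commute hx hj (by rw [← pow_succ, ← pow_succ'])

theorem not_commute_invol (h : Hyp t s K) {x a : G} (hx : Rest K x) (ha : orderOf a = 2) :
    a * x ≠ x * a := fun e =>
  (h.rest_of_commute hx (ne_one_of_orderOf_two ha) e).2 (h.inConjK_of_orderOf_two ha)

theorem rest_odd [Finite G] (h : Hyp t s K) {x : G} (hx : Rest K x) : ¬ 2 ∣ orderOf x := by
  rintro ⟨m, hm⟩
  have hpos : 0 < orderOf x := orderOf_pos x
  have hm0 : 0 < m := by omega
  have h2 : orderOf (x ^ m) = 2 := by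
    rw [orderOf_pow' x (by omega), hm, Nat.gcd_eq_right (Dvd.intro_left 2 rfl)]
    exact Nat.mul_div_cancel _ hm0
  exact (h.rest_pow hx (ne_one_of_orderOf_two h2)).2 (h.inConjK_of_orderOf_two h2)

end Hyp

theorem inConjK_conj {K : Subgroup G} {x : G} (g : G) (hx : InConjK K x) :
    InConjK K (g * x * g⁻¹) := by
  obtain ⟨u, y, hy, hy1, rfl⟩ := hx
  exact ⟨g * u, y, hy, hy1, by group⟩

theorem rest_conj {K : Subgroup G} {x : G} (g : G) (hx : Rest K x) : Rest K (g * x * g⁻¹) := by
  refine ⟨fun e => hx.1 ?_, fun hc => hx.2 ?_⟩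
  · have : x = g⁻¹ * (g * x * g⁻¹) * g := by group
    rw [this, e]; group
  · have := inConjK_conj g⁻¹ hc
    have e : g⁻¹ * (g * x * g⁻¹) * g⁻¹⁻¹ = x := by group
    rwa [e] at this

theorem inConjK_inv {K : Subgroup G} {x : G} (hx : InConjK K x) : InConjK K x⁻¹ := by
  obtain ⟨u, y, hy, hy1, rfl⟩ := hx
  exact ⟨u, y⁻¹, K.inv_mem hy, inv_ne_one.2 hy1, by group⟩

theorem rest_inv {K : Subgroup G} {x : G} (hx : Rest K x) : Rest K x⁻¹ :=
  ⟨inv_ne_one.2 hx.1, fun hc => hx.2 (by simpa using inConjK_inv hc)⟩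

namespace Hyp

variable {t s : G} {K : Subgroup G}

/-- structure of the centralizer of a strongly real element of the rest:
inverted by the involution and abelian. -/
theorem sreal_inverts [Finite G] (h : Hyp t s K) {x a : G} (hx : Rest K x)
    (ha : orderOf a = 2) (hax : a * x * a⁻¹ = x⁻¹) :
    ∀ c ∈ centralizer ({x} : Set G), a * c * a⁻¹ = c⁻¹ := by
  apply Cfsg.Agent.Lib.Helper90.Invert.inverts_of_fixed_point_free _ a (sq_of_orderOf_two ha)
  · intro c hc
    rw [mem_centralizer_singleton_iff] at hc ⊢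
    have h1 : (a * c * a⁻¹) * (a * x * a⁻¹) = (a * x * a⁻¹) * (a * c * a⁻¹) := by
      calc (a * c * a⁻¹) * (a * x * a⁻¹) = a * (c * x) * a⁻¹ := by group
        _ = a * (x * c) * a⁻¹ := by rw [hc]
        _ = (a * x * a⁻¹) * (a * c * a⁻¹) := by group
    rw [hax] at h1
    have h2 : Commute (a * c * a⁻¹) x⁻¹ := h1
    exact (Commute.inv_right_iff.1 h2).eq
  · intro c hc hac
    by_contra hc1
    have hcx : c * x = x * c := by
      rw [mem_centralizer_singleton_iff] at hc; exact hc
    exact h.not_commute_invol (h.rest_of_commute hx hc1 hcx) ha hac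

theorem sreal_comm [Finite G] (h : Hyp t s K) {x a : G} (hx : Rest K x)
    (ha : orderOf a = 2) (hax : a * x * a⁻¹ = x⁻¹) :
    ∀ c ∈ centralizer ({x} : Set G), ∀ d ∈ centralizer ({x} : Set G), c * d = d * c := by
  intro c hc d hd
  have hinv := h.sreal_inverts hx ha hax
  have h1 := hinv c hc
  have h2 := hinv d hd
  have h3 := hinv (c * d) (Subgroup.mul_mem _ hc hd)
  have e : a * (c * d) * a⁻¹ = (a * c * a⁻¹) * (a * d * a⁻¹) := by group
  rw [e, h1, h2, mul_inv_rev] at h3
  -- c⁻¹ d⁻¹ = d⁻¹ c⁻¹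
  have h4 : (c⁻¹ * d⁻¹)⁻¹ = (d⁻¹ * c⁻¹)⁻¹ := by rw [h3]
  exact (by simpa using h4 : d * c = c * d).symm

/-- centralizers of non-identity elements of `C(x)` equal `C(x)`, `x` strongly real in the
rest. -/
theorem sreal_centralizer_eq [Finite G] (h : Hyp t s K) {x a : G} (hx : Rest K x)
    (ha : orderOf a = 2) (hax : a * x * a⁻¹ = x⁻¹) {c : G}
    (hc : c ∈ centralizer ({x} : Set G)) (hc1 : c ≠ 1) :
    centralizer ({c} : Set G) = centralizer ({x} : Set G) := by
  have hcx : c * x = x * c := by
    rw [mem_centralizer_singleton_iff] at hc; exact hc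
  have hcR : Rest K c := h.rest_of_commute hx hc1 hcx
  have hac : a * c * a⁻¹ = c⁻¹ := h.sreal_inverts hx ha hax c hc
  apply le_antisymm
  · intro d hd
    have hxc : x ∈ centralizer ({c} : Set G) := by
      rw [mem_centralizer_singleton_iff]; exact hcx.symm
    have := h.sreal_comm hcR ha hac d hd x hxc
    rw [mem_centralizer_singleton_iff]; exact this
  · intro d hd
    have := h.sreal_comm hx ha hax d hd c hc
    rw [mem_centralizer_singleton_iff]; exact this

/-- the involutions inverting a strongly real element `x` of the rest are the elements of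
`a C(x)`. -/
theorem invol_inverting_iff [Finite G] (h : Hyp t s K) {x a : G} (hx : Rest K x)
    (ha : orderOf a = 2) (hax : a * x * a⁻¹ = x⁻¹) (b : G) :
    (orderOf b = 2 ∧ b * x * b⁻¹ = x⁻¹) ↔ a * b ∈ centralizer ({x} : Set G) := by
  have hai := inv_of_orderOf_two ha
  constructor
  · rintro ⟨hb, hbx⟩
    rw [mem_centralizer_singleton_iff]
    have hbi := inv_of_orderOf_two hb
    have e1 : b * x = x⁻¹ * b := by
      have : b * x = (b * x * b⁻¹) * b := by group
      rw [this, hbx]
    have e2 : a * x⁻¹ = x * a := by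
      have h1 : a * x⁻¹ * a⁻¹ = x := by
        have : a * x⁻¹ * a⁻¹ = (a * x * a⁻¹)⁻¹ := by group
        rw [this, hax, inv_inv]
      have : a * x⁻¹ = (a * x⁻¹ * a⁻¹) * a := by group
      rw [this, h1]
    calc a * b * x = a * (b * x) := by group
      _ = a * (x⁻¹ * b) := by rw [e1]
      _ = (a * x⁻¹) * b := by group
      _ = x * a * b := by rw [e2]
      _ = x * (a * b) := by group
  · intro hc
    have hinv := h.sreal_inverts hx ha hax (a * b) hc
    have hb1 : b ≠ 1 := by
      rintro rfl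
      rw [mul_one] at hc
      rw [mem_centralizer_singleton_iff] at hc
      exact h.not_commute_invol hx ha hc
    have hbb : b * b = 1 := by
      -- a (a b) a⁻¹ = (a b)⁻¹
      have e : a * (a * b) * a⁻¹ = b * a := by
        rw [hai]
        calc a * (a * b) * a = (a * a) * b * a := by group
          _ = b * a := by rw [sq_of_orderOf_two ha, one_mul]
      rw [e] at hinv
      -- b a = (a b)⁻¹ = b⁻¹ a⁻¹ = b⁻¹ a
      rw [mul_inv_rev, hai] at hinv
      have : b = b⁻¹ := mul_right_cancel hinv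
      calc b * b = b * b⁻¹ := by rw [← this]
        _ = 1 := mul_inv_cancel b
    refine ⟨orderOf_two_of_sq hb1 hbb, ?_⟩
    rw [mem_centralizer_singleton_iff] at hc
    have hbi : b⁻¹ = b := by rw [inv_eq_iff_mul_eq_one]; exact hbb
    -- b x b⁻¹ = a (a b) x (a b)⁻¹ a⁻¹ = a x a⁻¹
    have e : b * x * b⁻¹ = a * ((a * b) * x * (a * b)⁻¹) * a⁻¹ := by
      rw [hai]
      have haa := sq_of_orderOf_two ha
      calc b * x * b⁻¹ = (a * a) * b * x * b⁻¹ * (a * a) := by rw [haa, one_mul, mul_one]
        _ = a * ((a * b) * x * (a * b)⁻¹) * a := by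
            rw [mul_inv_rev, hai]; group
    rw [e, hc, mul_assoc x, mul_inv_cancel, mul_one, hax]

end Hyp

/-! ### Counting pairs of involutions -/

/-- number of pairs of involutions with product `x`. -/
noncomputable def nPairs (x : G) : ℕ :=
  Nat.card {p : G × G // orderOf p.1 = 2 ∧ orderOf p.2 = 2 ∧ p.1 * p.2 = x}

/-- pairs of involutions with product `x` correspond to involutions `b` with `b x` an
involution. -/
theorem nPairs_eq (x : G) :
    nPairs x = Nat.card {b : G // orderOf b = 2 ∧ orderOf (b * x) = 2} := by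
  unfold nPairs
  refine Nat.card_congr
    { toFun := fun p => ⟨p.1.1, p.2.1, ?_⟩
      invFun := fun b => ⟨(b.1, b.1 * x), b.2.1, b.2.2, ?_⟩
      left_inv := ?_
      right_inv := ?_ }
  · obtain ⟨⟨p1, p2⟩, h1, h2, h3⟩ := p
    have e : p1 * x = p2 := by
      rw [← h3, ← mul_assoc, sq_of_orderOf_two h1, one_mul]
    show orderOf (p1 * x) = 2
    rw [e]; exact h2
  · show b.1 * (b.1 * x) = x
    rw [← mul_assoc, sq_of_orderOf_two b.2.1, one_mul]
  · rintro ⟨⟨p1, p2⟩, h1, h2, h3⟩
    apply Subtype.ext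
    show (p1, p1 * x) = (p1, p2)
    have : p1 * x = p2 := by
      rw [← h3, ← mul_assoc, sq_of_orderOf_two h1, one_mul]
    rw [this]
  · rintro ⟨b, hb⟩; rfl

theorem nPairs_one : nPairs (1 : G) = Nat.card {b : G // orderOf b = 2} := by
  rw [nPairs_eq]
  refine Nat.card_congr (Equiv.subtypeEquivRight ?_)
  intro b
  rw [mul_one]; tauto

theorem orderOf_conj_eq (g b : G) : orderOf (g * b * g⁻¹) = orderOf b := by
  have := (MulAut.conj g).orderOf_eq b
  simpa [MulAut.conj_apply] using this

theorem nPairs_conj (g x : G) : nPairs (g * x * g⁻¹) = nPairs x := by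
  rw [nPairs_eq, nPairs_eq]
  refine Nat.card_congr
    { toFun := fun b => ⟨g⁻¹ * b.1 * g, ?_, ?_⟩
      invFun := fun b => ⟨g * b.1 * g⁻¹, ?_, ?_⟩
      left_inv := ?_
      right_inv := ?_ }
  · have := orderOf_conj_eq g⁻¹ b.1
    rw [inv_inv] at this
    rw [this]; exact b.2.1
  · have e : g⁻¹ * b.1 * g * x = g⁻¹ * (b.1 * (g * x * g⁻¹)) * g⁻¹⁻¹ := by group
    rw [e, orderOf_conj_eq]; exact b.2.2
  · rw [orderOf_conj_eq]; exact b.2.1
  · have e : g * b.1 * g⁻¹ * (g * x * g⁻¹) = g * (b.1 * x) * g⁻¹ := by group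
    rw [e, orderOf_conj_eq]; exact b.2.2
  · rintro ⟨b, hb⟩; apply Subtype.ext; show g * (g⁻¹ * b * g) * g⁻¹ = b; group
  · rintro ⟨b, hb⟩; apply Subtype.ext; show g⁻¹ * (g * b * g⁻¹) * g = b; group

/-- for `x` of odd order, "`b` and `b x` involutions" means "`b` an involution inverting
`x`". -/
theorem invol_pair_iff {x : G} (hx : ¬ 2 ∣ orderOf x) (b : G) :
    (orderOf b = 2 ∧ orderOf (b * x) = 2) ↔ (orderOf b = 2 ∧ b * x * b⁻¹ = x⁻¹) := by
  constructor
  · rintro ⟨hb, hbx⟩
    refine ⟨hb, ?_⟩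
    have h1 := sq_of_orderOf_two hbx
    rw [inv_of_orderOf_two hb]
    -- b x b x = 1
    have : b * x * b * x = 1 := by rw [← h1]; group
    exact eq_inv_of_mul_eq_one_left this
  · rintro ⟨hb, hbx⟩
    refine ⟨hb, orderOf_two_of_sq ?_ ?_⟩
    · intro e
      have : x = b := by
        have h2 : x = b⁻¹ := (eq_inv_of_mul_eq_one_right e)
        rw [h2, inv_of_orderOf_two hb]
      rw [this, hb] at hx
      exact hx dvd_rfl
    · have : b * x * (b * x) = (b * x * b⁻¹) * (b * b) * x := by group
      rw [this, hbx, sq_of_orderOf_two hb, mul_one, inv_mul_cancel]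

namespace Hyp

variable {t s : G} {K : Subgroup G}

/-- `N(y) = |K|` for `y ∈ K^#`. -/
theorem nPairs_of_mem (h : Hyp t s K) {y : G} (hy : y ∈ K) (hy1 : y ≠ 1) :
    nPairs y = Nat.card K := by
  rw [nPairs_eq]
  refine Nat.card_congr
    { toFun := fun b => ⟨b.1 * s, ?_⟩
      invFun := fun z => ⟨z.1 * s, ?_, ?_⟩
      left_inv := ?_
      right_inv := ?_ }
  · obtain ⟨b, hb, hby⟩ := b
    show b * s ∈ K
    have hbi := inv_of_orderOf_two hb
    have h1 := sq_of_orderOf_two hby
    have hinvy : b * y * b⁻¹ = y⁻¹ := by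
      rw [hbi]
      have : b * y * b * y = 1 := by rw [← h1]; group
      exact eq_inv_of_mul_eq_one_left this
    have hbH : b ∈ centralizer ({t} : Set G) :=
      h.mem_H_of_conj_mem hy hy1 (by rw [hinvy]; exact K.inv_mem hy)
    rcases (h.mem_H_iff b).1 hbH with hbK | hbs
    · exfalso
      have hbt := h.eq_t_of_orderOf_two hbK hb
      have hbyt := h.eq_t_of_orderOf_two (K.mul_mem hbK hy) hby
      apply hy1
      rw [hbt] at hbyt
      exact mul_eq_left.1 hbyt
    · exact hbs
  · have : z.1 * s * s = z.1 := by rw [mul_assoc, h.s_mul_s, mul_one]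
    exact h.orderOf_of_mul_s_mem (by rw [this]; exact z.2)
  · apply h.orderOf_of_mul_s_mem
    have e : z.1 * s * y * s = z.1 * (s * y * s) := by group
    rw [e, h.s_conj hy]
    exact K.mul_mem z.2 (K.inv_mem hy)
  · rintro ⟨b, hb⟩
    apply Subtype.ext
    show b * s * s = b
    rw [mul_assoc, h.s_mul_s, mul_one]
  · rintro ⟨z, hz⟩
    apply Subtype.ext
    show z * s * s = z
    rw [mul_assoc, h.s_mul_s, mul_one]

theorem nPairs_of_inConjK (h : Hyp t s K) {x : G} (hx : InConjK K x) :
    nPairs x = Nat.card K := by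
  obtain ⟨g, y, hy, hy1, rfl⟩ := hx
  rw [nPairs_conj]; exact h.nPairs_of_mem hy hy1

/-- `N(x) = |C(x)|` for a strongly real element of the rest. -/
theorem nPairs_of_sreal [Finite G] (h : Hyp t s K) {x a : G} (hx : Rest K x)
    (ha : orderOf a = 2) (hax : a * x * a⁻¹ = x⁻¹) :
    nPairs x = Nat.card (centralizer ({x} : Set G)) := by
  rw [nPairs_eq]
  have hodd := h.rest_odd hx
  have haa := sq_of_orderOf_two ha
  refine Nat.card_congr
    { toFun := fun b => ⟨a * b.1, ?_⟩
      invFun := fun c => ⟨a * c.1, ?_⟩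
      left_inv := ?_
      right_inv := ?_ }
  · exact (h.invol_inverting_iff hx ha hax b.1).1 ((invol_pair_iff hodd b.1).1 b.2)
  · apply (invol_pair_iff hodd _).2
    apply (h.invol_inverting_iff hx ha hax _).2
    rw [← mul_assoc, haa, one_mul]; exact c.2
  · rintro ⟨b, hb⟩
    apply Subtype.ext
    show a * (a * b) = b
    rw [← mul_assoc, haa, one_mul]
  · rintro ⟨c, hc⟩
    apply Subtype.ext
    show a * (a * c) = c
    rw [← mul_assoc, haa, one_mul]

/-- `N(x) = 0` for an element of the rest which is not strongly real. -/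
theorem nPairs_of_not_sreal [Finite G] (h : Hyp t s K) {x : G} (hx : Rest K x)
    (hns : ¬ SReal x) : nPairs x = 0 := by
  rw [nPairs_eq]
  have hodd := h.rest_odd hx
  have : IsEmpty {b : G // orderOf b = 2 ∧ orderOf (b * x) = 2} := by
    constructor
    rintro ⟨b, hb⟩
    exact hns ⟨b, (invol_pair_iff hodd b).1 hb⟩
  exact Nat.card_of_isEmpty

end Hyp

/-! ### Cardinalities -/

/-- fiber counting. -/
theorem card_eq_card_range_mul {α β : Type*} [Finite α] (f : α → β) (c : ℕ)
    (hc : ∀ a : α, Nat.card {a' : α // f a' = f a} = c) :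
    Nat.card α = Nat.card (Set.range f) * c := by
  classical
  have e := (Equiv.sigmaFiberEquiv (Set.rangeFactorization f))
  rw [← Nat.card_congr e]
  haveI : Fintype (Set.range f) := Fintype.ofFinite _
  rw [Nat.card_sigma]
  have : ∀ y : Set.range f, Nat.card {x // Set.rangeFactorization f x = y} = c := by
    rintro ⟨_, a, rfl⟩
    rw [← hc a]
    refine Nat.card_congr (Equiv.subtypeEquivRight ?_)
    intro a'
    simp [Set.rangeFactorization, Subtype.ext_iff]
  simp [this, Nat.card_eq_fintype_card, mul_comm]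

namespace Hyp

variable {t s : G} {K : Subgroup G}

theorem card_H [Finite G] (h : Hyp t s K) :
    Nat.card (centralizer ({t} : Set G)) = 2 * Nat.card K := by
  have hidx : (K.subgroupOf (centralizer ({t} : Set G))).index = 2 := by
    rw [Subgroup.index_eq_two_iff]
    refine ⟨⟨s, h.hsH⟩, ?_⟩
    rintro ⟨b, hb⟩
    simp only [Subgroup.mem_subgroupOf, Subgroup.coe_mul]
    rcases (h.mem_H_iff b).1 hb with hK | hKs
    · exact Or.inr ⟨hK, fun hbs => h.not_both hK hbs⟩
    · exact Or.inl ⟨hKs, fun hK => h.not_both hK hKs⟩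
  have h1 := Subgroup.card_mul_index (K.subgroupOf (centralizer ({t} : Set G)))
  rw [hidx, Nat.card_congr (Subgroup.subgroupOfEquivOfLe h.hKH).toEquiv] at h1
  omega

/-- the number of involutions times `|C(t)|` is `|G|`. -/
theorem card_invol [Finite G] (h : Hyp t s K) :
    Nat.card {b : G // orderOf b = 2} * (2 * Nat.card K) = Nat.card G := by
  have key := card_eq_card_range_mul (fun g : G => g * t * g⁻¹)
    (Nat.card (centralizer ({t} : Set G))) (by
      intro g
      refine Nat.card_congr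
        { toFun := fun g' => ⟨g⁻¹ * g'.1, ?_⟩
          invFun := fun c => ⟨g * c.1, ?_⟩
          left_inv := ?_
          right_inv := ?_ }
      · rw [mem_centralizer_singleton_iff]
        obtain ⟨g', h1⟩ := g'
        have h2 : g' * t = g * t * g⁻¹ * g' := by
          calc g' * t = (g' * t * g'⁻¹) * g' := by group
            _ = g * t * g⁻¹ * g' := by rw [h1]
        calc g⁻¹ * g' * t = g⁻¹ * (g' * t) := by group
          _ = g⁻¹ * (g * t * g⁻¹ * g') := by rw [h2]
          _ = t * (g⁻¹ * g') := by group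
      · have hc := mem_centralizer_singleton_iff.1 c.2
        show g * c.1 * t * (g * c.1)⁻¹ = g * t * g⁻¹
        calc g * c.1 * t * (g * c.1)⁻¹ = g * (c.1 * t) * c.1⁻¹ * g⁻¹ := by group
          _ = g * (t * c.1) * c.1⁻¹ * g⁻¹ := by rw [hc]
          _ = g * t * g⁻¹ := by group
      · rintro ⟨g', hg'⟩; apply Subtype.ext; show g * (g⁻¹ * g') = g'; group
      · rintro ⟨c, hc⟩; apply Subtype.ext; show g⁻¹ * (g * c) = c; group)
  have hrange : Set.range (fun g : G => g * t * g⁻¹) = {b : G | orderOf b = 2} := by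
    ext b
    constructor
    · rintro ⟨g, rfl⟩
      show orderOf (g * t * g⁻¹) = 2
      rw [orderOf_conj_eq]; exact h.ht
    · intro hb
      obtain ⟨g, hg⟩ := h.exists_conj_t hb
      exact ⟨g, hg.symm⟩
  rw [hrange, h.card_H] at key
  exact key.symm

/-- the number of elements of `conj(K^#)`. -/
theorem card_inConjK [Finite G] (h : Hyp t s K) :
    Nat.card {x : G // InConjK K x} * (2 * Nat.card K) = Nat.card G * (Nat.card K - 1) := by
  have key := card_eq_card_range_mul (fun p : G × {y : K // y ≠ 1} => p.1 * (p.2.1 : G) * p.1⁻¹)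
    (Nat.card (centralizer ({t} : Set G))) (by
      rintro ⟨g, ⟨y, hy1⟩⟩
      have hy1' : (y : G) ≠ 1 := fun e => hy1 (Subtype.ext e)
      refine Nat.card_congr
        { toFun := fun p => ⟨g⁻¹ * p.1.1, ?_⟩
          invFun := fun c => ⟨(g * c.1, ⟨⟨c.1⁻¹ * (y : G) * c.1, ?_⟩, ?_⟩), ?_⟩
          left_inv := ?_
          right_inv := ?_ }
      · obtain ⟨⟨g', ⟨y', hy'1⟩⟩, hp⟩ := p
        have hp' : g' * (y' : G) * g'⁻¹ = g * (y : G) * g⁻¹ := hp
        have hy'1' : (y' : G) ≠ 1 := fun e => hy'1 (Subtype.ext e)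
        apply h.mem_H_of_conj_mem y'.2 hy'1'
        have : g⁻¹ * g' * (y' : G) * (g⁻¹ * g')⁻¹ = g⁻¹ * (g' * (y' : G) * g'⁻¹) * g := by group
        rw [this, hp']
        have : g⁻¹ * (g * (y : G) * g⁻¹) * g = y := by group
        rw [this]; exact y.2
      · have := h.conj_mem_K (inv_mem c.2) y.2
        rwa [inv_inv] at this
      · intro e
        apply hy1'
        have e' : c.1⁻¹ * (y : G) * c.1 = 1 := congrArg Subtype.val e
        have : (y : G) = c.1 * (c.1⁻¹ * (y : G) * c.1) * c.1⁻¹ := by group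
        rw [this, e']; group
      · show g * c.1 * (c.1⁻¹ * (y : G) * c.1) * (g * c.1)⁻¹ = g * (y : G) * g⁻¹
        group
      · rintro ⟨⟨g', ⟨y', hy'1⟩⟩, hp⟩
        have hp' : g' * (y' : G) * g'⁻¹ = g * (y : G) * g⁻¹ := hp
        apply Subtype.ext
        apply Prod.ext
        · show g * (g⁻¹ * g') = g'; group
        · apply Subtype.ext; apply Subtype.ext
          show (g⁻¹ * g')⁻¹ * (y : G) * (g⁻¹ * g') = y'
          have : (y : G) = g⁻¹ * (g' * (y' : G) * g'⁻¹) * g := by rw [hp']; group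
          rw [this]; group
      · rintro ⟨c, hc⟩; apply Subtype.ext; show g⁻¹ * (g * c) = c; group)
  have hrange : Set.range (fun p : G × {y : K // y ≠ 1} => p.1 * (p.2.1 : G) * p.1⁻¹)
      = {x : G | InConjK K x} := by
    ext x
    constructor
    · rintro ⟨⟨g, ⟨y, hy1⟩⟩, rfl⟩
      exact ⟨g, y, y.2, fun e => hy1 (Subtype.ext e), rfl⟩
    · rintro ⟨g, y, hy, hy1, rfl⟩
      exact ⟨(g, ⟨⟨y, hy⟩, fun e => hy1 (congrArg Subtype.val e)⟩), rfl⟩
  have hcard : Nat.card {y : K // y ≠ 1} = Nat.card K - 1 := by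
    classical
    have := Nat.card_congr (Equiv.optionSubtypeNe (1 : K))
    rw [Finite.card_option] at this
    omega
  rw [hrange, h.card_H, Nat.card_prod, hcard] at key
  exact key.symm

end Hyp

end Cfsg.Agent.Lib.Helper77.BSWGrp
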