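import Cfsg.Agent.Lib.Helper77.BSWBridge

/-! S3282 piece `PairK`. -/

set_option maxHeartbeats 400000
set_option autoImplicit false

namespace Cfsg.Agent.Lib.Helper77.BSWPairK

open Cfsg.Agent.Lib.Helper25.BSWSpec Cfsg.Agent.Lib.Helper77.BSWGrp
open Cfsg.Agent.Lib.Helper77.BSWBridge Subgroup

universe u

theorem main : Cfsg.Agent.Lib.Helper25.BSWSpec.PairK.{u} := by
  intro G _ _ t K s k hB z hz hz1
  have hh := hyp_of_basic hB
  rw [pairCount_eq hh, hh.nPairs_of_mem hz hz1, hB.card_K]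
  ring

end Cfsg.Agent.Lib.Helper77.BSWPairK
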