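import Mathlib
import Cfsg.Agent.Lib.Helper75.DCStmt

set_option maxHeartbeats 400000

/-!
# S4719, piece TWO: Theorem A when `G` contains a nontrivial `Γ`-normal 2-subgroup.
-/

namespace Cfsg.Agent.Lib.Helper77.DCTWO

open Cfsg.Agent.Lib.Helper75.DCStmt

universe u

section

variable {Γ : Type u} [Group Γ]

/-- the centre of `T`, as a subgroup of `Γ` -/
abbrev ZT (T : Subgroup Γ) : Subgroup Γ := T ⊓ Subgroup.centralizer (T : Set Γ)

theorem ZT_normal (T : Subgroup Γ) (hT : T.Normal) : (ZT T).Normal := by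
  refine ⟨fun a ha g => ?_⟩
  obtain ⟨haT, haC⟩ := Subgroup.mem_inf.1 ha
  refine Subgroup.mem_inf.2 ⟨hT.conj_mem a haT g, ?_⟩
  rw [Subgroup.mem_centralizer_iff]
  intro t ht
  have ht' : g⁻¹ * t * g ∈ T := by simpa using hT.conj_mem t ht g⁻¹
  have h := (Subgroup.mem_centralizer_iff.1 haC) (g⁻¹ * t * g) ht'
  calc t * (g * a * g⁻¹) = g * ((g⁻¹ * t * g) * a) * g⁻¹ := by group
    _ = g * (a * (g⁻¹ * t * g)) * g⁻¹ := by rw [h]
    _ = g * a * g⁻¹ * t := by group

theorem ZT_ne_bot [Finite Γ] (T : Subgroup Γ) (hT2 : IsPGroup 2 T) (hT : T ≠ ⊥) :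
    ∃ a ∈ ZT T, a ≠ 1 := by
  haveI : Nontrivial T := (Subgroup.nontrivial_iff_ne_bot T).2 hT
  haveI : Fact (Nat.Prime 2) := ⟨Nat.prime_two⟩
  haveI := hT2.center_nontrivial
  obtain ⟨⟨⟨a, haT⟩, hac⟩, hne⟩ := exists_ne (1 : Subgroup.center T)
  refine ⟨a, Subgroup.mem_inf.2 ⟨haT, ?_⟩, ?_⟩
  · rw [Subgroup.mem_centralizer_iff]
    intro t ht
    have := (Subgroup.mem_center_iff.1 hac) ⟨t, ht⟩
    exact congrArg Subtype.val this
  · intro h
    apply hne
    exact Subtype.ext (Subtype.ext h)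

/-- `|G| = |G / A| * |A|` for `A ≤ G` normal in `Γ` -/
theorem card_map_mk [Finite Γ] (G A : Subgroup Γ) [A.Normal] (hAG : A ≤ G) :
    Nat.card G = Nat.card (G.map (QuotientGroup.mk' A)) * Nat.card A := by
  have h1 : (G.map (QuotientGroup.mk' A)).index = G.index := by
    rw [Subgroup.index_map, QuotientGroup.ker_mk', sup_eq_left.2 hAG,
      MonoidHom.range_eq_top_of_surjective _ (QuotientGroup.mk'_surjective A), Subgroup.index_top,
      mul_one]
  have h2 := Subgroup.card_mul_index (G.map (QuotientGroup.mk' A))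
  have h3 := Subgroup.card_mul_index G
  have h4 := Subgroup.card_eq_card_quotient_mul_card_subgroup A
  have hpos : 0 < G.index := Nat.pos_of_ne_zero Subgroup.index_ne_zero_of_finite
  rw [h1] at h2
  have h5 : Nat.card G * G.index
      = Nat.card (G.map (QuotientGroup.mk' A)) * Nat.card A * G.index := by
    rw [h3, h4, ← h2]
    ring
  exact Nat.eq_of_mul_eq_mul_right hpos h5

/-- `G / C_G(A)` embeds in `Sym(A)` -/
theorem case1 [Finite Γ] (G A : Subgroup Γ) [A.Normal] (x : Γ) (hxA : x ∈ A) :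
    Nat.card G ≤ Nat.card ↥(G ⊓ Subgroup.centralizer ({x} : Set Γ))
      * (Nat.card A).factorial := by
  let φ : G →* Equiv.Perm A :=
    (MulAut.toPerm ↥A).comp ((MulAut.conjNormal : Γ →* MulAut ↥A).comp G.subtype)
  have h1 := Subgroup.card_eq_card_quotient_mul_card_subgroup φ.ker
  have h2 : Nat.card (↥G ⧸ φ.ker) = Nat.card φ.range :=
    Nat.card_congr (QuotientGroup.quotientKerEquivRange φ).toEquiv
  have h3 : Nat.card φ.range ≤ (Nat.card A).factorial := by
    have h := Subgroup.card_le_card_group (H := φ.range)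
    rwa [Nat.card_perm] at h
  have h4 : Nat.card φ.ker ≤ Nat.card ↥(G ⊓ Subgroup.centralizer ({x} : Set Γ)) := by
    refine Nat.card_le_card_of_injective
      (fun k => (⟨(k.1 : Γ), Subgroup.mem_inf.2 ⟨k.1.2, ?_⟩⟩ :
        ↥(G ⊓ Subgroup.centralizer ({x} : Set Γ)))) ?_
    · rw [Subgroup.mem_centralizer_iff]
      intro y hy
      rw [Set.mem_singleton_iff] at hy
      subst hy
      have hk : φ k.1 = 1 := k.2
      have h5 := congrArg (fun σ : Equiv.Perm A => ((σ ⟨y, hxA⟩ : A) : Γ)) hk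
      have h6 : (k.1 : Γ) * y * (k.1 : Γ)⁻¹ = y := h5
      calc y * (k.1 : Γ) = ((k.1 : Γ) * y * (k.1 : Γ)⁻¹) * (k.1 : Γ) := by rw [h6]
        _ = (k.1 : Γ) * y := by group
    · intro k1 k2 h
      have := congrArg (fun z : ↥(G ⊓ Subgroup.centralizer ({x} : Set Γ)) => (z : Γ)) h
      exact Subtype.ext (Subtype.ext this)
  rw [h1, h2, Nat.mul_comm]
  exact Nat.mul_le_mul h4 h3

end

theorem main (hQC : QC.{u}) : TWO.{u} := by
  intro a c N hKB Γ _ _ G v w hS hfac T hTn hTG hT2 hTne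
  classical
  haveI hAn : (ZT T).Normal := ZT_normal T hTn
  have hAT : ZT T ≤ T := inf_le_left
  have hAG : ZT T ≤ G := hAT.trans hTG
  obtain ⟨a0, ha0, ha01⟩ := ZT_ne_bot T hT2 hTne
  have hA2 : IsPGroup 2 (ZT T) := hT2.to_le hAT
  haveI : Fact (Nat.Prime 2) := ⟨Nat.prime_two⟩
  obtain ⟨k, hk⟩ := IsPGroup.iff_card.1 hA2
  have hGpos : Nat.card G ≠ 0 := Nat.card_pos.ne'
  have hk1 : 1 ≤ k := by
    by_contra hk0
    have hk00 : k = 0 := by omega
    rw [hk00, pow_zero] at hk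
    have h1 : (⟨a0, ha0⟩ : ZT T) = 1 := by
      haveI := (Nat.card_eq_one_iff_unique.1 hk).1
      exact Subsingleton.elim _ _
    exact ha01 (congrArg Subtype.val h1)
  have hkle : k ≤ a + 1 := by
    have h1 : 2 ^ k ∣ Nat.card G := by
      rw [← hk]
      exact Subgroup.card_dvd_of_le hAG
    exact ((Nat.Prime.pow_dvd_iff_le_factorization Nat.prime_two hGpos).1 h1).trans hfac
  have hAcard : Nat.card (ZT T) ≤ 2 ^ (a + 1) := by
    rw [hk]
    exact Nat.pow_le_pow_right (by norm_num) hkle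
  by_cases hx : v ∈ ZT T ∨ w ∈ ZT T ∨ v * w ∈ ZT T
  · obtain ⟨x, hxs, hxA⟩ : ∃ x : Γ, (x = v ∨ x = w ∨ x = v * w) ∧ x ∈ ZT T := by
      rcases hx with h | h | h
      · exact ⟨v, Or.inl rfl, h⟩
      · exact ⟨w, Or.inr (Or.inl rfl), h⟩
      · exact ⟨v * w, Or.inr (Or.inr rfl), h⟩
    have hc := hS.cent x hxs
    have h1 := case1 G (ZT T) x hxA
    exact le_trans (le_trans h1 (Nat.mul_le_mul hc (Nat.factorial_le hAcard)))
      (Nat.le_add_right _ _)
  · push_neg at hx
    obtain ⟨hvA, hwA, hvwA⟩ := hx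
    have hcard := card_map_mk G (ZT T) hAG
    have hS' : Setting (G.map (QuotientGroup.mk' (ZT T))) (QuotientGroup.mk' (ZT T) v)
        (QuotientGroup.mk' (ZT T) w) c := by
      refine ⟨?_, ?_, ?_, ?_, ?_, ?_, ?_, ?_⟩
      · exact hS.normal.map _ (QuotientGroup.mk'_surjective _)
      · intro h
        exact hvA ((QuotientGroup.eq_one_iff v).1 h)
      · intro h
        exact hwA ((QuotientGroup.eq_one_iff w).1 h)
      · intro h
        have h2 : v⁻¹ * w ∈ ZT T := QuotientGroup.eq.1 h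
        have h3 : v⁻¹ = v := inv_eq_of_mul_eq_one_right hS.v_sq
        rw [h3] at h2
        exact hvwA h2
      · rw [← map_mul, hS.v_sq, map_one]
      · rw [← map_mul, hS.w_sq, map_one]
      · rw [← map_mul, ← map_mul, hS.comm]
      · intro xb hxb
        obtain ⟨x, hxs, rfl⟩ : ∃ x : Γ, (x = v ∨ x = w ∨ x = v * w) ∧
            QuotientGroup.mk' (ZT T) x = xb := by
          rcases hxb with h | h | h
          · exact ⟨v, Or.inl rfl, h.symm⟩
          · exact ⟨w, Or.inr (Or.inl rfl), h.symm⟩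
          · exact ⟨v * w, Or.inr (Or.inr rfl), by rw [h, map_mul]⟩
        exact (hQC Γ (ZT T) G x hAG).trans (hS.cent x hxs)
    have hfac' : (Nat.card (G.map (QuotientGroup.mk' (ZT T)))).factorization 2 ≤ a := by
      have hpos : Nat.card (G.map (QuotientGroup.mk' (ZT T))) ≠ 0 := Nat.card_pos.ne'
      have h1 : (Nat.card G).factorization 2
          = (Nat.card (G.map (QuotientGroup.mk' (ZT T)))).factorization 2 + k := by
        rw [hcard, hk, Nat.factorization_mul hpos (pow_ne_zero _ (by norm_num)),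
          Finsupp.add_apply, Nat.factorization_pow, Finsupp.smul_apply,
          Nat.Prime.factorization_self Nat.prime_two]
        simp
      omega
    have hN := hKB (Γ ⧸ ZT T) (G.map (QuotientGroup.mk' (ZT T))) _ _ hS' hfac'
    rw [hcard]
    exact le_trans (le_trans (Nat.mul_le_mul hN hAcard) (Nat.mul_comm _ _).le)
      (Nat.le_add_left _ _)

end Cfsg.Agent.Lib.Helper77.DCTWO
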