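import Mathlib
import Cfsg.Agent.Lib.Helper31.ECStmt

set_option autoImplicit false
set_option maxHeartbeats 400000

namespace Cfsg.Agent.Lib.Helper77.ECIMBASIC

universe u

open Cfsg.Agent.Lib.Helper31.ECStmt

theorem subgroupOf_normal_of_le_normalizer {G : Type u} [Group G] (E A : Subgroup G)
    (hN : E ≤ Subgroup.normalizer (A : Set G)) : (A.subgroupOf E).Normal := by
  refine ⟨fun a ha e => ?_⟩
  rw [Subgroup.mem_subgroupOf] at ha ⊢
  have he := hN e.2
  rw [Subgroup.mem_normalizer_iff] at he
  have := (he (a : G)).1 ha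
  simpa using this

theorem main : IMBASIC.{u} := by
  intro G _ _ p _ E C _ A hAE
  refine ⟨fun hN => ?_, fun hp => ?_, ?_⟩
  · haveI := subgroupOf_normal_of_le_normalizer E A hN
    exact Subgroup.Normal.map inferInstance _ (QuotientGroup.mk'_surjective _)
  · have h1 : IsPGroup p ↥(A.subgroupOf E) := by
      have hinj : Function.Injective (A.subgroupOfEquivOfLe hAE) := (A.subgroupOfEquivOfLe hAE).injective
      exact IsPGroup.of_injective hp (A.subgroupOfEquivOfLe hAE).toMonoidHom hinj
    exact IsPGroup.map h1 _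
  · unfold im
    rw [Subgroup.map_eq_bot_iff, QuotientGroup.ker_mk']
    constructor
    · intro h a ha
      have : (⟨a, hAE ha⟩ : ↥E) ∈ C.subgroupOf E := h (by rw [Subgroup.mem_subgroupOf]; exact ha)
      rw [Subgroup.mem_subgroupOf] at this
      exact this
    · intro h a ha
      rw [Subgroup.mem_subgroupOf] at ha ⊢
      exact h ha

end Cfsg.Agent.Lib.Helper77.ECIMBASIC
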