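import Mathlib
import Cfsg.Agent.Lib.Helper31.ECStmt
import Cfsg.Agent.Lib.Helper47.PRes

set_option autoImplicit false
set_option maxHeartbeats 400000

namespace Cfsg.Agent.Lib.Helper77.ECIMK

universe u

open Cfsg.Agent.Lib.Helper31.ECStmt

theorem Kbar_eq_map {G : Type u} [Group G] (p : ℕ) (E C : Subgroup G) [(C.subgroupOf E).Normal] :
    Kbar p E C = (Cfsg.pResidual p ↥E).map (QuotientGroup.mk' (C.subgroupOf E)) := by
  unfold Kbar
  rw [Subgroup.map_sup]
  have h : (C.subgroupOf E).map (QuotientGroup.mk' (C.subgroupOf E)) = ⊥ := by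
    rw [Subgroup.map_eq_bot_iff, QuotientGroup.ker_mk']
  rw [h, sup_bot_eq]

theorem main : IMK.{u} := by
  intro G _ _ p _ E C _
  have hK := Kbar_eq_map p E C
  refine ⟨?_, ?_, ?_⟩
  · rw [hK]
    unfold im
    have h : ((Cfsg.pResidual p ↥E).map E.subtype).subgroupOf E = Cfsg.pResidual p ↥E :=
      Subgroup.comap_map_eq_self_of_injective (Subgroup.subtype_injective E) _
    rw [h]
  · rw [hK]
    haveI := Cfsg.Agent.Lib.Helper47.PRes.pResidual_normal p ↥E
    exact Subgroup.Normal.map inferInstance _ (QuotientGroup.mk'_surjective _)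
  · intro x
    obtain ⟨e, rfl⟩ := QuotientGroup.mk'_surjective (C.subgroupOf E) x
    obtain ⟨k, hk⟩ := Cfsg.Agent.Lib.Helper47.PRes.exists_pow_coprime (p := p) e
    refine ⟨k, ?_⟩
    rw [hK, ← map_pow]
    refine Subgroup.mem_map_of_mem _ ?_
    exact Subgroup.subset_closure hk

end Cfsg.Agent.Lib.Helper77.ECIMK
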