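import Mathlib
import Cfsg.Agent.Lib.Helper31.ECStmt

set_option autoImplicit false
set_option maxHeartbeats 400000

namespace Cfsg.Agent.Lib.Helper77.ECQISO

universe u

open Cfsg.Agent.Lib.Helper31.ECStmt

theorem main : QISO.{u} := by
  intro G _ p E C _ A _ hAE him
  -- the homomorphism `A → E / (C ∩ E)`
  let f : ↥A →* ↥E ⧸ C.subgroupOf E :=
    (QuotientGroup.mk' (C.subgroupOf E)).comp (Subgroup.inclusion hAE)
  have hrange : f.range = Kbar p E C := by
    rw [← him]
    unfold im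
    ext x
    constructor
    · rintro ⟨a, rfl⟩
      refine ⟨Subgroup.inclusion hAE a, ?_, rfl⟩
      show Subgroup.inclusion hAE a ∈ A.subgroupOf E
      rw [Subgroup.mem_subgroupOf]
      exact a.2
    · rintro ⟨e, he, rfl⟩
      have he : e ∈ A.subgroupOf E := he
      rw [Subgroup.mem_subgroupOf] at he
      refine ⟨⟨(e : G), he⟩, ?_⟩
      rfl
  have hker : f.ker = C.subgroupOf A := by
    ext a
    rw [MonoidHom.mem_ker]
    show (QuotientGroup.mk' (C.subgroupOf E)) (Subgroup.inclusion hAE a) = 1 ↔ _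
    rw [← MonoidHom.mem_ker, QuotientGroup.ker_mk', Subgroup.mem_subgroupOf,
      Subgroup.mem_subgroupOf]
    rfl
  have e1 : ↥A ⧸ C.subgroupOf A ≃* ↥A ⧸ f.ker := QuotientGroup.quotientMulEquivOfEq hker.symm
  have e2 : ↥A ⧸ f.ker ≃* ↥f.range := QuotientGroup.quotientKerEquivRange f
  have e3 : ↥f.range ≃* ↥(Kbar p E C) := MulEquiv.subgroupCongr hrange
  exact ⟨(e1.trans e2).trans e3⟩

end Cfsg.Agent.Lib.Helper77.ECQISO
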