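import Mathlib
import Cfsg.Agent.Lib.Helper45.EPStmt
import Cfsg.Agent.Lib.Helper44.NegPairs

/-!
# S5988 / SPLITW: an invariant nondegenerate `W` is `(W ⊓ Fix x) ⊥ R`, `R = (x - 1) W` invariant,
nondegenerate, without fixed vectors (`x ^ r = 1`, `r ≠ p`).
-/

set_option autoImplicit false
set_option maxHeartbeats 400000

namespace Cfsg.Agent.Lib.Helper77.EPSPLITW

open Module QuadraticMap
open Cfsg.Agent.Lib.Helper44.NegPairs
open Cfsg.Agent.Lib.Helper94.OPStmt Cfsg.Agent.Lib.Helper45.EPStmt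

universe u

/-- the abstract splitting lemma -/
theorem split_core {F : Type*} [Field F] {V : Type*} [AddCommGroup V] [Module F V]
    [FiniteDimensional F V] (Q : QuadraticForm F V) (A : V →ₗ[F] V) (hA : ∀ v, Q (A v) = Q v)
    (r : ℕ) (hr : (r : F) ≠ 0) (hAr : A ^ r = 1) (Fx : Submodule F V)
    (hFx : ∀ v, v ∈ Fx ↔ A v = v) (W : Submodule F V) (hAW : ∀ w ∈ W, A w ∈ W)
    (hW : ∀ y ∈ W, y ≠ 0 → ∃ z ∈ W, polar Q y z ≠ 0) :
    (∀ y ∈ W ⊓ Fx, y ≠ 0 → ∃ z ∈ W ⊓ Fx, polar Q y z ≠ 0) ∧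
    ∃ R : Submodule F V, R ≤ W ∧ (∀ t ∈ R, A t ∈ R) ∧
      (∀ y ∈ R, y ≠ 0 → ∃ z ∈ R, polar Q y z ≠ 0) ∧
      R ⊓ Fx = ⊥ ∧ (∀ u ∈ R, ∀ v ∈ Fx, polar Q u v = 0) ∧
      finrank F ↥R + finrank F ↥(W ⊓ Fx) = finrank F ↥W ∧ (W ⊓ Fx) ⊔ R = W := by
  classical
  have hpol : ∀ u v, polar Q (A u) (A v) = polar Q u v := by
    intro u v
    unfold polar
    rw [← map_add, hA, hA, hA]
  obtain ⟨N, hNdef⟩ : ∃ N : Module.End F V, N = A - 1 := ⟨_, rfl⟩
  have hNap : ∀ v, N v = A v - v := by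
    intro v
    rw [hNdef, LinearMap.sub_apply, Module.End.one_apply]
  obtain ⟨S, hSdef⟩ : ∃ S : Module.End F V, S = ∑ j ∈ Finset.range r, A ^ j := ⟨_, rfl⟩
  obtain ⟨T, hTdef⟩ : ∃ T : Module.End F V,
      T = ∑ j ∈ Finset.range r, ∑ i ∈ Finset.range j, A ^ i := ⟨_, rfl⟩
  have hNS : N * S = 0 := by rw [hNdef, hSdef, mul_geom_sum, hAr, sub_self]
  have hSN : S * N = 0 := by rw [hNdef, hSdef, geom_sum_mul, hAr, sub_self]
  have hNT : N * T = S - (r : F) • (1 : Module.End F V) := by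
    rw [hNdef, hTdef, Finset.mul_sum, hSdef,
      Finset.sum_congr rfl (fun j _ => mul_geom_sum A j), Finset.sum_sub_distrib,
      Finset.sum_const, Finset.card_range, Nat.cast_smul_eq_nsmul]
  have hpowW : ∀ j : ℕ, ∀ w ∈ W, (A ^ j) w ∈ W := by
    intro j
    induction j with
    | zero =>
      intro w hw
      simpa using hw
    | succ j ih =>
      intro w hw
      rw [pow_succ, Module.End.mul_apply]
      exact ih _ (hAW w hw)
  have hSW : ∀ w ∈ W, S w ∈ W := by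
    intro w hw
    rw [hSdef, LinearMap.sum_apply]
    exact Submodule.sum_mem _ (fun j _ => hpowW j w hw)
  have hTW : ∀ w ∈ W, T w ∈ W := by
    intro w hw
    rw [hTdef, LinearMap.sum_apply]
    refine Submodule.sum_mem _ (fun j _ => ?_)
    rw [LinearMap.sum_apply]
    exact Submodule.sum_mem _ (fun i _ => hpowW i w hw)
  have hNW : ∀ w ∈ W, N w ∈ W := by
    intro w hw
    rw [hNap]
    exact W.sub_mem (hAW w hw) hw
  have hFxN : ∀ v, v ∈ Fx ↔ N v = 0 := by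
    intro v
    rw [hFx, hNap, sub_eq_zero]
  have hRW : W.map N ≤ W := by
    intro t ht
    obtain ⟨w, hw, rfl⟩ := Submodule.mem_map.mp ht
    exact hNW w hw
  have hdec : ∀ w ∈ W, ∃ a ∈ W ⊓ Fx, ∃ b ∈ W.map N, a + b = w := by
    intro w hw
    refine ⟨(r : F)⁻¹ • S w, ⟨W.smul_mem _ (hSW w hw), ?_⟩, N (-((r : F)⁻¹ • T w)),
      Submodule.mem_map_of_mem (W.neg_mem (W.smul_mem _ (hTW w hw))), ?_⟩
    · rw [SetLike.mem_coe, hFxN, map_smul, ← Module.End.mul_apply, hNS, LinearMap.zero_apply,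
        smul_zero]
    · rw [map_neg, map_smul, ← Module.End.mul_apply, hNT, LinearMap.sub_apply,
        LinearMap.smul_apply, Module.End.one_apply, smul_sub, smul_smul, inv_mul_cancel₀ hr,
        one_smul]
      abel
  have hRFx : W.map N ⊓ Fx = ⊥ := by
    rw [eq_bot_iff]
    rintro t ⟨ht1, ht2⟩
    obtain ⟨w, hw, rfl⟩ := Submodule.mem_map.mp ht1
    rw [SetLike.mem_coe, hFx] at ht2
    have hpow : ∀ j : ℕ, (A ^ j) (N w) = N w := by
      intro j
      induction j with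
      | zero => simp
      | succ j ih => rw [pow_succ, Module.End.mul_apply, ht2, ih]
    have h1 : S (N w) = (r : F) • N w := by
      rw [hSdef, LinearMap.sum_apply, Finset.sum_congr rfl (fun j _ => hpow j), Finset.sum_const,
        Finset.card_range, Nat.cast_smul_eq_nsmul]
    have h2 : S (N w) = 0 := by rw [← Module.End.mul_apply, hSN, LinearMap.zero_apply]
    rw [h2] at h1
    rw [Submodule.mem_bot]
    exact (smul_eq_zero.mp h1.symm).resolve_left hr
  have horth : ∀ u ∈ W.map N, ∀ v ∈ Fx, polar Q u v = 0 := by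
    intro u hu v hv
    obtain ⟨w, -, rfl⟩ := Submodule.mem_map.mp hu
    rw [hFx] at hv
    have e1 : polar Q (A w) v = polar Q w v := by
      calc polar Q (A w) v = polar Q (A w) (A v) := by rw [hv]
        _ = polar Q w v := hpol w v
    rw [hNap, polar_sub_left, e1, sub_self]
  have hsupW : (W ⊓ Fx) ⊔ W.map N = W := by
    apply le_antisymm (sup_le inf_le_left hRW)
    intro w hw
    obtain ⟨a, ha, b, hb, rfl⟩ := hdec w hw
    exact Submodule.add_mem_sup ha hb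
  refine ⟨?_, W.map N, hRW, ?_, ?_, hRFx, horth, ?_, hsupW⟩
  · intro y hy hy0
    obtain ⟨z, hz, hne⟩ := hW y hy.1 hy0
    obtain ⟨a, ha, b, hb, rfl⟩ := hdec z hz
    refine ⟨a, ha, ?_⟩
    rw [polar_add_right, polar_comm Q y b, horth b hb y hy.2, add_zero] at hne
    exact hne
  · intro t ht
    obtain ⟨w, hw, rfl⟩ := Submodule.mem_map.mp ht
    have e : A (N w) = N (A w) := by rw [hNap, hNap, map_sub]
    rw [e]
    exact Submodule.mem_map_of_mem (hAW w hw)
  · intro y hy hy0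
    obtain ⟨z, hz, hne⟩ := hW y (hRW hy) hy0
    obtain ⟨a, ha, b, hb, rfl⟩ := hdec z hz
    refine ⟨b, hb, ?_⟩
    rw [polar_add_right, horth y hy a ha.2, zero_add] at hne
    exact hne
  · have h := Submodule.finrank_sup_add_finrank_inf_eq (W ⊓ Fx) (W.map N)
    have hinf : (W ⊓ Fx) ⊓ W.map N = ⊥ := by
      rw [eq_bot_iff, ← hRFx]
      exact fun t ht => ⟨ht.2, ht.1.2⟩
    rw [hinf, finrank_bot, hsupW] at h
    omega

theorem main : SplitE.{u} := by
  intro F _ _ p _ _ d r _ hrp x hx hxr W hStab hND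
  have hr : r.Prime := Fact.out
  have hp : p.Prime := Fact.out
  have hrF : (r : F) ≠ 0 := by
    intro h0
    rw [CharP.cast_eq_zero_iff F p r] at h0
    exact hrp ((Nat.prime_dvd_prime_iff_eq hp hr).mp h0).symm
  have hA : ∀ v, plusQ d F (Matrix.toLin' (x : Matrix (P d) (P d) F) v) = plusQ d F v := by
    intro v
    rw [Matrix.toLin'_apply]
    exact hx v v
  have hAr : (Matrix.toLin' (x : Matrix (P d) (P d) F)) ^ r = 1 := by
    rw [← Matrix.toLin'_pow, ← Units.val_pow_eq_pow_val, hxr, Units.val_one, Matrix.toLin'_one]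
    rfl
  have hFx : ∀ v, v ∈ FxP (x : Matrix (P d) (P d) F) ↔
      Matrix.toLin' (x : Matrix (P d) (P d) F) v = v := by
    intro v
    rw [mem_FxP, Matrix.toLin'_apply]
  have hAW : ∀ w ∈ W, Matrix.toLin' (x : Matrix (P d) (P d) F) w ∈ W := by
    intro w hw
    exact hStab (Submodule.mem_map_of_mem hw)
  have hW : ∀ y ∈ W, y ≠ 0 → ∃ z ∈ W, polar (plusQ d F) y z ≠ 0 := by
    intro y hy hy0
    obtain ⟨-, z, hz, hz0⟩ := hND y hy hy0
    exact ⟨z, hz, hz0⟩
  obtain ⟨h1, R, hRW, hRst, hRnd, hRFx, horth, hfin, hsup⟩ :=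
    split_core (plusQ d F) (Matrix.toLin' (x : Matrix (P d) (P d) F)) hA r hrF hAr
      (FxP (x : Matrix (P d) (P d) F)) hFx W hAW hW
  have hconv : ∀ U : Submodule F (P d → F),
      (∀ y ∈ U, y ≠ 0 → ∃ z ∈ U, polar (plusQ d F) y z ≠ 0) → NDegP d F U := by
    intro U hU w hw hw0
    obtain ⟨z, hz, hne⟩ := hU w hw hw0
    refine ⟨⟨z, hz, ?_⟩, ⟨z, hz, hne⟩⟩
    rw [polar_comm]
    exact hne
  refine ⟨hconv _ h1, R, hRW, ?_, hconv R hRnd, hRFx, horth, hfin, hsup⟩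
  intro t ht
  obtain ⟨w, hw, rfl⟩ := Submodule.mem_map.mp ht
  exact hRst w hw

end Cfsg.Agent.Lib.Helper77.EPSPLITW
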