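import Mathlib
import Cfsg.Prelude.Def_OddOrderLocal
import Cfsg.Agent.Lib.Helper77.FHCore

/-!
# `(M')_F = M_F` when `M_F ≤ M'` and `|M'|` is prime to `|M : M'|`
(`FHCore.main` for `D = ⁅M, M⁆`; pure group theory, for S1381).
-/

set_option autoImplicit false
set_option maxHeartbeats 400000

namespace Cfsg.Agent.Lib.Helper77.FHComm

universe u

theorem comm_le {G : Type*} [Group G] (M : Subgroup G) : ⁅M, M⁆ ≤ M := by
  rw [Subgroup.commutator_le]
  intro g₁ h₁ g₂ h₂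
  rw [commutatorElement_def]
  exact M.mul_mem (M.mul_mem (M.mul_mem h₁ h₂) (M.inv_mem h₁)) (M.inv_mem h₂)

theorem comm_conj {G : Type*} [Group G] (M : Subgroup G) :
    ∀ m ∈ M, ∀ d ∈ ⁅M, M⁆, m * d * m⁻¹ ∈ ⁅M, M⁆ := by
  intro m hm
  have h1 : ⁅M, M⁆ ≤ (⁅M, M⁆).comap (MulAut.conj m).toMonoidHom := by
    rw [Subgroup.commutator_le]
    intro g₁ h₁ g₂ h₂
    rw [Subgroup.mem_comap, map_commutatorElement]
    apply Subgroup.commutator_mem_commutator
    · exact M.mul_mem (M.mul_mem hm h₁) (M.inv_mem hm)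
    · exact M.mul_mem (M.mul_mem hm h₂) (M.inv_mem hm)
  intro d hd
  exact h1 hd

theorem main {G : Type u} [Group G] [Finite G] (M : Subgroup G)
    (hcop : (Nat.card ↥(⁅M, M⁆ : Subgroup G)).Coprime ((⁅M, M⁆ : Subgroup G).relIndex M))
    (hF : Cfsg.fittingHallOf M ≤ ⁅M, M⁆) :
    Cfsg.fittingHallOf (⁅M, M⁆ : Subgroup G) = Cfsg.fittingHallOf M :=
  Cfsg.Agent.Lib.Helper77.FHCore.main M ⁅M, M⁆ (comm_le M) (comm_conj M) hcop hF

end Cfsg.Agent.Lib.Helper77.FHComm
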