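import Mathlib
import Cfsg.Agent.Lib.Helper40.GFStmt
import Cfsg.Agent.Lib.Helper8.GFZ1BStmt

set_option maxHeartbeats 400000

namespace Cfsg.Agent.Lib.Helper77.GFZ1BALGX

open Cfsg.Agent.Lib.Helper40.GFStmt Cfsg.Agent.Lib.Helper8.GFZ1BStmt

universe u

theorem main : AlgX.{u} := by
  intro F L _ _ _ _ A A' X κ lam c₃ hA1 hA' hmul hκ hlam hlam1 hcomp
  refine ⟨c₃ * A lam * A (κ / (lam - 1)), fun t => ?_⟩
  have hAlam : A lam ≠ 0 := by
    intro h
    apply hlam
    have h0 := hA' lam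
    rw [h, map_zero] at h0
    exact h0.symm
  have hl1 : lam - 1 ≠ 0 := sub_ne_zero.mpr hlam1
  have h1 := LinearMap.congr_fun hcomp (A lam * A (κ / (lam - 1) * t))
  simp only [LinearMap.comp_apply, LinearMap.mulLeft_apply] at h1
  rw [← mul_assoc, inv_mul_cancel₀ hAlam, one_mul, hA'] at h1
  have h2 : (lam - 1) / κ * (κ / (lam - 1) * t) = t := by field_simp
  rw [h2, hmul] at h1
  rw [h1]
  ring

end Cfsg.Agent.Lib.Helper77.GFZ1BALGX
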