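import Mathlib
import Cfsg.Agent.Lib.Helper68.MixStmt

set_option autoImplicit false
set_option maxHeartbeats 400000

namespace Cfsg.Agent.Lib.Helper77.MixOP

open Cfsg.Agent.Lib.Helper68.MixStmt
open Subgroup

universe u

theorem main (hQUO : QUO.{u}) : OP.{u} := by
  intro G _ _ p Q y hH hE hIH hnot hQ2 hyN hyp hyC A hAn hAp
  by_contra hA
  have hH' := hH
  obtain ⟨hp, hq, hpq, hp2, hpG, hqG, hmix, hlarge⟩ := hH
  haveI : Fact p.Prime := ⟨hp⟩
  haveI := hAn
  have hcard : Nat.card G = Nat.card (G ⧸ A) * Nat.card A :=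
    Subgroup.card_eq_card_quotient_mul_card_subgroup A
  have hA1 : 1 < Nat.card A := (Subgroup.one_lt_card_iff_ne_bot A).mpr hA
  obtain ⟨n, hn⟩ := IsPGroup.iff_card.mp hAp
  by_cases hdvd : p ∣ Nat.card (G ⧸ A)
  · have hHq : Hyp (G ⧸ A) p 2 := hQUO G p 2 hH' hE A hAp hdvd
    have hpos : 0 < Nat.card (G ⧸ A) := Nat.card_pos
    have hlt : Nat.card (G ⧸ A) < Nat.card G := by
      rw [hcard]
      calc Nat.card (G ⧸ A) = Nat.card (G ⧸ A) * 1 := (mul_one _).symm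
        _ < Nat.card (G ⧸ A) * Nat.card A := Nat.mul_lt_mul_of_pos_left hA1 hpos
    have hPQ : PQNum p 2 (Nat.card (G ⧸ A)) := hIH (G ⧸ A) p 2 hlt hHq
    apply hnot
    intro r hr hrd
    rw [hcard] at hrd
    rcases (Nat.Prime.dvd_mul hr).mp hrd with h | h
    · exact hPQ r hr h
    · left
      rw [hn] at h
      exact (Nat.prime_dvd_prime_iff_eq hr hp).mp (hr.dvd_of_dvd_pow h)
  · -- `A` is a normal Sylow `p`-subgroup: `y ∈ A`
    obtain ⟨k, hk⟩ := hyp
    have hyA : y ∈ A := by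
      have h1 : orderOf (QuotientGroup.mk' A y) ∣ p ^ k := by
        rw [← hk]; exact orderOf_map_dvd (QuotientGroup.mk' A) y
      have h2 : orderOf (QuotientGroup.mk' A y) ∣ Nat.card (G ⧸ A) := orderOf_dvd_natCard _
      have hcop : Nat.Coprime (p ^ k) (Nat.card (G ⧸ A)) :=
        Nat.Coprime.pow_left k ((Nat.Prime.coprime_iff_not_dvd hp).mpr hdvd)
      have h3 : orderOf (QuotientGroup.mk' A y) = 1 :=
        Nat.eq_one_of_dvd_coprimes hcop h1 h2
      have h4 : QuotientGroup.mk' A y = 1 := orderOf_eq_one_iff.mp h3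
      exact (QuotientGroup.eq_one_iff y).mp h4
    apply hyC
    rw [Subgroup.mem_centralizer_iff]
    intro s hs
    have hsQ : s ∈ Q := hs
    have hdisj : Disjoint Q A := IsPGroup.disjoint_of_ne 2 p (Ne.symm hp2) Q A hQ2 hAp
    have hc1 : y * s * y⁻¹ * s⁻¹ ∈ Q :=
      Q.mul_mem ((Subgroup.mem_set_normalizer_iff.mp hyN s).mp hsQ) (Q.inv_mem hsQ)
    have hc2 : y * s * y⁻¹ * s⁻¹ ∈ A := by
      have h5 : s * y⁻¹ * s⁻¹ ∈ A := hAn.conj_mem y⁻¹ (A.inv_mem hyA) s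
      have h6 : y * (s * y⁻¹ * s⁻¹) ∈ A := A.mul_mem hyA h5
      have e : y * s * y⁻¹ * s⁻¹ = y * (s * y⁻¹ * s⁻¹) := by group
      rw [e]; exact h6
    have hc : y * s * y⁻¹ * s⁻¹ = 1 := by
      have : y * s * y⁻¹ * s⁻¹ ∈ Q ⊓ A := ⟨hc1, hc2⟩
      rw [hdisj.eq_bot] at this
      exact Subgroup.mem_bot.mp this
    have h7 : y * s = s * y := by
      have h8 : y * s * y⁻¹ = s := by
        have := mul_inv_eq_one.mp hc
        exact this
      calc y * s = y * s * y⁻¹ * y := by group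
        _ = s * y := by rw [h8]
    exact h7.symm

end Cfsg.Agent.Lib.Helper77.MixOP
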