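import Mathlib
import Cfsg.Agent.Lib.Helper44.PGStmt
import Cfsg.Agent.Lib.Helper42.SpOrdD

set_option autoImplicit false
set_option maxHeartbeats 400000

namespace Cfsg.Agent.Lib.Helper77.PGCNEC1

open Matrix Polynomial
open Cfsg.Agent.Lib.Helper44.PGStmt

universe u

/-- an element of odd order `k` of `PSp(2n, F)` gives a `J`-isometry of order exactly `k` -/
theorem lift {F : Type u} [Field F] (n k : ℕ) (hn : 1 ≤ n) (hk : Odd k) (h : HasPC F n k) :
    ∃ A : Matrix (Fin n ⊕ Fin n) (Fin n ⊕ Fin n) F,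
      Aᵀ * Matrix.J (Fin n) F * A = Matrix.J (Fin n) F ∧ ∀ j : ℕ, A ^ j = 1 ↔ k ∣ j := by
  obtain ⟨g, hg⟩ := h
  have hodd : Odd (orderOf g) := by rw [hg]; exact hk
  obtain ⟨A, -, hA⟩ := Cfsg.Agent.Lib.Helper42.SpOrdD.exists_odd_lift hn g hodd
  rw [hg] at hA
  refine ⟨(A : Matrix (Fin n ⊕ Fin n) (Fin n ⊕ Fin n) F), ?_, ?_⟩
  · have := SymplecticGroup.mem_iff.mp (SymplecticGroup.transpose_mem A.2)
    rwa [Matrix.transpose_transpose] at this
  · intro j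
    rw [← hA, orderOf_dvd_iff_pow_eq_one, Cfsg.Agent.Lib.Helper42.SpOrdC.sp_pow_eq_one_iff]

theorem J_det_ne_zero (F : Type u) [Field F] (n : ℕ) : (Matrix.J (Fin n) F).det ≠ 0 := by
  intro h
  have := Matrix.J_det_mul_J_det (Fin n) F
  rw [h, zero_mul] at this
  exact zero_ne_one this

theorem two_ne_zero' (F : Type u) [Field F] (p : ℕ) [Fact p.Prime] [CharP F p] (hp2 : p ≠ 2) :
    (2 : F) ≠ 0 := by
  intro h
  have h' : ((2 : ℕ) : F) = 0 := by exact_mod_cast h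
  have := (CharP.cast_eq_zero_iff F p 2).mp h'
  exact hp2 ((Nat.prime_dvd_prime_iff_eq Fact.out Nat.prime_two).mp this)

theorem main (hG : GNecI.{u}) : CNecI.{u} := by
  intro F _ _ p _ _ hp2 n hn r s hr hs hrs hr2 hs2 hrp hsp hhas
  have hodd : Odd (r * s) := (hr.odd_of_ne_two hr2).mul (hs.odd_of_ne_two hs2)
  obtain ⟨A, hiso, hord⟩ := lift n (r * s) (by omega) hodd hhas
  have := hG F p (Fin n ⊕ Fin n) (Matrix.J (Fin n) F) A r s (two_ne_zero' F p hp2)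
    (J_det_ne_zero F n) hiso hr hs hrs hr2 hs2 hrp hsp hord
  rcases this with ⟨k₁, k₂, h1, h2', h3, h4, h5⟩ | ⟨k, h1, h2', h3⟩
  · left
    refine ⟨k₁, k₂, h1, h2', ?_, h4, h5⟩
    rw [Fintype.card_sum, Fintype.card_fin] at h3
    omega
  · right
    refine ⟨k, h1, ?_, h3⟩
    rw [Fintype.card_sum, Fintype.card_fin] at h2'
    omega

end Cfsg.Agent.Lib.Helper77.PGCNEC1
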