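import Mathlib
import Cfsg.Agent.Lib.Helper44.PGStmt
import Cfsg.Agent.Lib.Helper77.PGCNEC1

set_option autoImplicit false
set_option maxHeartbeats 400000

namespace Cfsg.Agent.Lib.Helper77.PGCNEC2

open Matrix Polynomial
open Cfsg.Agent.Lib.Helper44.PGStmt

universe u

theorem main (hG : GNecII.{u}) : CNecII.{u} := by
  intro F _ _ p hpF _ hp2 n hn s hs hs2 hsp hhas
  have hodd : Odd (p * s) := (hpF.out.odd_of_ne_two hp2).mul (hs.odd_of_ne_two hs2)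
  obtain ⟨A, hiso, hord⟩ := Cfsg.Agent.Lib.Helper77.PGCNEC1.lift n (p * s) (by omega) hodd hhas
  obtain ⟨k, h1, h2', h3⟩ := hG F p (Fin n ⊕ Fin n) (Matrix.J (Fin n) F) A s
    (Cfsg.Agent.Lib.Helper77.PGCNEC1.two_ne_zero' F p hp2)
    (Cfsg.Agent.Lib.Helper77.PGCNEC1.J_det_ne_zero F n) hiso hs hs2 hsp hord
  refine ⟨k, h1, ?_, h3⟩
  rw [Fintype.card_sum, Fintype.card_fin] at h2'
  omega

end Cfsg.Agent.Lib.Helper77.PGCNEC2
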