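import Mathlib
import Cfsg.Agent.Lib.Helper22.S56Stmt
import Cfsg.Agent.Lib.Helper91.Hall
import Cfsg.Agent.Lib.Helper47.Basic

/-!
# S1356 / HALLD: an `R`-invariant complement `D` of `O = Oq X H q` in `H`
(Hall's containment theorem in the solvable group `X`: `R` lies in a Hall `q'`-subgroup `T`;
`D = T ⊓ H`).
-/

set_option autoImplicit false
set_option maxHeartbeats 400000

namespace Cfsg.Agent.Lib.Helper77.S56HALLD

open Cfsg Cfsg.Agent.Lib.Helper93.S64Stmt Cfsg.Agent.Lib.Helper22.S56Stmt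

universe u

theorem main : HallD.{u} := by
  intro X _ _ H R _ q hA hB hidx
  have hq : q.Prime := hB.qprime
  haveI : Fact q.Prime := ⟨hq⟩
  haveI : Group.IsSolvable X := hA.solv
  obtain ⟨O, hOdef⟩ : ∃ O : Subgroup X, O = Oq X H q := ⟨_, rfl⟩
  rw [← hOdef] at hidx ⊢
  have hOH : O ≤ H := by rw [hOdef]; exact Oq_le X H q
  haveI hOn : O.Normal := by rw [hOdef]; infer_instance
  have hOp : IsPGroup q ↥O := by
    have h1 : O ≤ Cfsg.pCore q X := by rw [hOdef]; exact inf_le_left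
    exact (Cfsg.Agent.Lib.Helper47.Basic.pCore_isPGroup q X).to_le h1
  obtain ⟨k, hk⟩ := IsPGroup.iff_card.mp hOp
  have hcq : Nat.Coprime O.index q := ((Nat.Prime.coprime_iff_not_dvd hq).mpr hidx).symm
  have hG : Nat.card X = O.index * Nat.card ↥O := by
    rw [mul_comm]
    exact (Subgroup.card_mul_index O).symm
  have hmn : (O.index).Coprime (Nat.card ↥O) := by
    rw [hk]
    exact Nat.Coprime.pow_right k hcq
  have hqH : q ∣ Nat.card ↥H := by
    have h1 : Nat.card ↥(H ⊓ Subgroup.centralizer (R : Set X)) ∣ Nat.card ↥H :=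
      Subgroup.card_dvd_of_le inf_le_left
    rw [hB.card] at h1
    exact h1
  have hRq : Nat.Coprime (Nat.card ↥R) q :=
    (Nat.Coprime.coprime_dvd_left hqH hA.cop).symm
  have hK : (Nat.card ↥R).Coprime (Nat.card ↥O) := by
    rw [hk]
    exact Nat.Coprime.pow_right k hRq
  obtain ⟨T, hTcard, hRT⟩ :=
    Cfsg.Agent.Lib.Helper91.Hall.hall_contain (O.index) (Nat.card ↥O) hG hmn R hK
  have hcompl : Subgroup.IsComplement' O T := by
    apply Subgroup.isComplement'_of_coprime
    · rw [hTcard, mul_comm]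
      exact hG.symm
    · rw [hTcard]
      exact hmn.symm
  have hTO : T ⊓ O = ⊥ := by
    rw [inf_comm]
    exact hcompl.disjoint.eq_bot
  have hsup : O ⊔ T = ⊤ := hcompl.sup_eq_top
  refine ⟨T ⊓ H, inf_le_right, ?_, ?_, ?_, ?_⟩
  · apply le_antisymm _ bot_le
    rw [← hTO]
    exact inf_le_inf_right O inf_le_left
  · intro h hh
    have h1 : h ∈ O ⊔ T := by rw [hsup]; exact Subgroup.mem_top h
    rw [← SetLike.mem_coe, Subgroup.normal_mul] at h1
    obtain ⟨o, ho, t, ht, rfl⟩ := h1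
    have ho' : o ∈ O := ho
    have ht' : t ∈ T := ht
    have htH : t ∈ H := by
      have h2 : t = o⁻¹ * (o * t) := by group
      rw [h2]
      exact H.mul_mem (H.inv_mem (hOH ho')) hh
    exact Subgroup.mul_mem _ (Subgroup.mem_sup_left ho') (Subgroup.mem_sup_right ⟨ht', htH⟩)
  · intro r hr
    have hrT : r ∈ T := hRT hr
    rw [Subgroup.mem_normalizer_iff]
    intro h
    constructor
    · rintro ⟨h1, h2⟩
      exact ⟨T.mul_mem (T.mul_mem hrT h1) (T.inv_mem hrT),
        Subgroup.Normal.conj_mem inferInstance h h2 r⟩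
    · rintro ⟨h1, h2⟩
      have h3 : h = r⁻¹ * (r * h * r⁻¹) * r⁻¹⁻¹ := by group
      rw [h3]
      exact ⟨T.mul_mem (T.mul_mem (T.inv_mem hrT) h1) (T.inv_mem (T.inv_mem hrT)),
        Subgroup.Normal.conj_mem inferInstance _ h2 r⁻¹⟩
  · have h1 : Nat.card ↥(T ⊓ H) ∣ Nat.card ↥T := Subgroup.card_dvd_of_le inf_le_left
    rw [hTcard] at h1
    exact Nat.Coprime.coprime_dvd_left h1 hcq

end Cfsg.Agent.Lib.Helper77.S56HALLD
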