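import Mathlib
import Cfsg.Agent.Lib.Helper54.S68Stmt

set_option autoImplicit false
set_option maxHeartbeats 400000

namespace Cfsg.Agent.Lib.Helper77.S68CARDZ

universe u

open Cfsg.Agent.Lib.Helper54.S68Stmt

theorem main : CardZ.{u} := by
  intro G _ _ K Ks hdisj _hcomm hTI
  classical
  have hbot : ∀ x : G, x ∈ K → x ∈ Ks → x = 1 := by
    intro x hx hx'
    have : x ∈ K ⊓ Ks := ⟨hx, hx'⟩
    rw [hdisj] at this
    exact Subgroup.mem_bot.mp this
  have hA : ((K : Set G) \ {1}).ncard = Nat.card K - 1 := by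
    rw [Set.ncard_diff_singleton_of_mem (show (1:G) ∈ (K : Set G) from K.one_mem)]
    exact congrArg (· - 1) (Nat.card_coe_set_eq (K : Set G)).symm
  have hB : ((Ks : Set G) \ {1}).ncard = Nat.card Ks - 1 := by
    rw [Set.ncard_diff_singleton_of_mem (show (1:G) ∈ (Ks : Set G) from Ks.one_mem)]
    exact congrArg (· - 1) (Nat.card_coe_set_eq (Ks : Set G)).symm
  have key : ∀ k ∈ (K : Set G) \ {1}, ∀ s ∈ (Ks : Set G) \ {1}, k * s ∈ Zhat K Ks := by
    rintro k ⟨hk, hk1⟩ s ⟨hs, hs1⟩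
    refine ⟨?_, ?_⟩
    · exact (K ⊔ Ks).mul_mem (Subgroup.mem_sup_left hk) (Subgroup.mem_sup_right hs)
    · rintro (h | h)
      · have : s ∈ K := by
          have := K.mul_mem (K.inv_mem hk) h
          simpa using this
        exact hs1 (hbot s this hs)
      · have : k ∈ Ks := by
          have := Ks.mul_mem h (Ks.inv_mem hs)
          simpa using this
        exact hk1 (hbot k hk this)
  let f : (G ⧸ (K ⊔ Ks)) × ↥((K : Set G) \ {1}) × ↥((Ks : Set G) \ {1}) →
      ↥{y : G | ∃ z ∈ Zhat K Ks, ∃ g : G, y = g * z * g⁻¹} :=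
    fun x => ⟨x.1.out * ((x.2.1 : G) * (x.2.2 : G)) * x.1.out⁻¹,
      (x.2.1 : G) * (x.2.2 : G), key _ x.2.1.2 _ x.2.2.2, x.1.out, rfl⟩
  have hf : Function.Injective f := by
    rintro ⟨q, a, b⟩ ⟨q', a', b'⟩ h
    have h1 : q.out * ((a : G) * (b : G)) * q.out⁻¹
        = q'.out * ((a' : G) * (b' : G)) * q'.out⁻¹ :=
      congrArg Subtype.val h
    have h2 : (q'.out⁻¹ * q.out) * ((a : G) * (b : G)) * (q'.out⁻¹ * q.out)⁻¹
        = (a' : G) * (b' : G) := by
      have : (a' : G) * (b' : G)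
          = q'.out⁻¹ * (q.out * ((a : G) * (b : G)) * q.out⁻¹) * q'.out := by
        rw [h1]; group
      rw [this]; group
    have hg : q'.out⁻¹ * q.out ∈ K ⊔ Ks := by
      apply hTI _ (key _ a.2 _ b.2)
      rw [h2]
      exact key _ a'.2 _ b'.2
    have hq : q' = q := by
      rw [← QuotientGroup.out_eq' q', ← QuotientGroup.out_eq' q]
      exact QuotientGroup.eq.mpr hg
    subst hq
    have h3 : (a : G) * (b : G) = (a' : G) * (b' : G) :=
      mul_left_cancel (mul_right_cancel h1)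
    have h4 : (a' : G)⁻¹ * (a : G) = (b' : G) * (b : G)⁻¹ := by
      have : (a : G) = (a' : G) * (b' : G) * (b : G)⁻¹ := by rw [← h3]; group
      rw [this]; group
    have h5 : (a' : G)⁻¹ * (a : G) = 1 := by
      apply hbot
      · exact K.mul_mem (K.inv_mem a'.2.1) a.2.1
      · rw [h4]; exact Ks.mul_mem b'.2.1 (Ks.inv_mem b.2.1)
    have ha : (a : G) = (a' : G) := (inv_mul_eq_one.mp h5).symm
    have hb : (b : G) = (b' : G) := by
      rw [ha] at h3
      exact mul_left_cancel h3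
    have ha' : a = a' := Subtype.ext ha
    have hb' : b = b' := Subtype.ext hb
    rw [ha', hb']
  have hcard := Nat.card_le_card_of_injective f hf
  rw [Nat.card_prod, Nat.card_prod, Nat.card_coe_set_eq, Nat.card_coe_set_eq,
    Nat.card_coe_set_eq, hA, hB] at hcard
  have hidx : (K ⊔ Ks).index = Nat.card (G ⧸ (K ⊔ Ks)) := rfl
  rw [hidx]
  calc (Nat.card K - 1) * (Nat.card Ks - 1) * Nat.card (G ⧸ (K ⊔ Ks))
      = Nat.card (G ⧸ (K ⊔ Ks)) * ((Nat.card K - 1) * (Nat.card Ks - 1)) := by ring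
    _ ≤ _ := hcard

end Cfsg.Agent.Lib.Helper77.S68CARDZ
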