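import Mathlib
import Cfsg.Agent.Lib.Helper54.S68Stmt

set_option autoImplicit false
set_option maxHeartbeats 400000

namespace Cfsg.Agent.Lib.Helper77.S68ZG

universe u

open Cfsg.Agent.Lib.Helper54.S68Stmt

theorem main : ZG.{u} := by
  intro G _ _ Ms Ks hH
  obtain ⟨hle, hπ, -⟩ := hH
  refine ⟨fun p hp P => ?_⟩
  haveI : Fact p.Prime := ⟨hp⟩
  by_cases hdvd : p ∣ Nat.card Ks
  · have hκ := hπ p hp hdvd
    obtain ⟨-, -, -, hcyc⟩ := hκ
    let f : ↥Ks →* ↥Ms := Subgroup.inclusion hle
    have hf : Function.Injective f := Subgroup.inclusion_injective hle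
    have hpg : IsPGroup p ↥((P : Subgroup Ks).map f) := P.isPGroup'.map f
    obtain ⟨Q, hQ⟩ := hpg.exists_le_sylow
    haveI : IsCyclic ↥(Q : Subgroup Ms) := (hcyc Q).1
    let g : ↥(P : Subgroup Ks) →* ↥(Q : Subgroup Ms) :=
      (Subgroup.inclusion hQ).comp (f.subgroupMap (P : Subgroup Ks))
    have hg : Function.Injective g := by
      intro a b hab
      have h1 : (f.subgroupMap (P : Subgroup Ks)) a = (f.subgroupMap (P : Subgroup Ks)) b :=
        Subgroup.inclusion_injective hQ hab
      have h2 : f (a : Ks) = f (b : Ks) := congrArg Subtype.val h1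
      exact Subtype.ext (hf h2)
    exact isCyclic_of_injective g hg
  · have hcard : Nat.card (P : Subgroup Ks) = 1 := by
      rw [Sylow.card_eq_multiplicity, Nat.factorization_eq_zero_of_not_dvd hdvd, pow_zero]
    haveI : Subsingleton ↥(P : Subgroup Ks) := (Nat.card_eq_one_iff_unique.mp hcard).1
    exact isCyclic_of_subsingleton

end Cfsg.Agent.Lib.Helper77.S68ZG
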