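import Mathlib
import Cfsg.Agent.Lib.Lead.TuanStmt
import Cfsg.Agent.Lib.CT.Wedderburn
import Cfsg.Agent.Lib.CT.Orth
import Cfsg.Agent.Lib.Helper21.BrCPerSum
import Cfsg.Agent.Lib.Helper21.BrCPerSq

set_option autoImplicit false
set_option maxHeartbeats 400000

namespace Cfsg.Agent.Lib.Helper77.TSColX

open Cfsg Cfsg.Agent.Lib.Lead.Tuan Cfsg.Agent.Lib.Lead.BrHalf Cfsg.Agent.Lib.CT
open scoped ComplexConjugate

universe u

variable {G : Type u} [Group G] [Fintype G] {p : ℕ} [Fact p.Prime]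

theorem p_mod4 (c : TCtx G p) : p % 4 = 1 := by
  have h1 := c.hp
  have h2 := c.he
  have h3 := c.hj
  obtain ⟨i, hi⟩ : ∃ i, c.j = i + 2 := ⟨c.j - 2, by omega⟩
  have h2' : c.e = 4 * 2 ^ i := by rw [h2, hi, pow_add]; ring
  omega

theorem p_ne_two (c : TCtx G p) : p ≠ 2 := by
  have := p_mod4 c
  omega

theorem not_dvd_one : ¬ p ∣ 1 := by
  intro h
  exact (Fact.out : p.Prime).one_lt.ne' (Nat.dvd_one.mp h)

theorem p_cast (c : TCtx G p) : (p : ℂ) = 2 * (c.e : ℂ) + 1 := by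
  have := c.hp
  exact_mod_cast congrArg (Nat.cast : ℕ → ℂ) this

/-- the two period relations -/
theorem per_rel (c : TCtx G p) (a : ℕ) (ha : ¬ p ∣ a) :
    per p c.ζ a + per p c.ζ (a * c.ν) = -1 ∧
    (per p c.ζ a - per p c.ζ (a * c.ν)) ^ 2 = (p : ℂ) := by
  refine ⟨Cfsg.Agent.Lib.Helper21.BrCPerSum.main p (p_ne_two c) c.ζ c.hζ a c.ν ha c.hν, ?_⟩
  have := Cfsg.Agent.Lib.Helper21.BrCPerSq.main p (p_ne_two c) c.ζ c.hζ a c.ν ha c.hν
  rwa [if_pos (p_mod4 c)] at this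

theorem theta_ne (c : TCtx G p) : c.θ₁ ≠ c.θ₂ := by
  intro h
  obtain ⟨-, h2⟩ := per_rel c 1 not_dvd_one
  have e1 := c.hθ₁ 1
  have e2 := c.hθ₂ 1
  rw [h] at e1
  rw [e1] at e2
  have hAB : per p c.ζ 1 = per p c.ζ (1 * c.ν) := add_left_cancel e2
  rw [hAB, sub_self] at h2
  have : (p : ℂ) = 0 := by rw [← h2]; ring
  exact (Fact.out : p.Prime).ne_zero (Nat.cast_eq_zero.mp this)

theorem not_mem_aux (A B : ℂ) (hs : A + B = -1) (hd : (A - B) ^ 2 = (p : ℂ)) (ε : ℤ)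
    (hε : ε = 1 ∨ ε = -1) (h : 1 + A = (ε : ℂ)) : False := by
  rcases hε with rfl | rfl
  · have hA : A = 0 := by push_cast at h; linear_combination h
    have hB : B = -1 := by linear_combination hs - hA
    rw [hA, hB] at hd
    have h1 : ((p : ℕ) : ℂ) = ((1 : ℕ) : ℂ) := by rw [← hd]; norm_num
    have := Nat.cast_injective h1
    exact (Fact.out : p.Prime).one_lt.ne' this
  · have hA : A = -2 := by push_cast at h; linear_combination h
    have hB : B = 1 := by linear_combination hs - hA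
    rw [hA, hB] at hd
    have h1 : ((p : ℕ) : ℂ) = ((9 : ℕ) : ℂ) := by rw [← hd]; norm_num
    have h9 := Nat.cast_injective h1
    have hp := (Fact.out : p.Prime)
    rw [h9] at hp
    exact absurd hp (by norm_num)

theorem theta1_not_mem (c : TCtx G p) : c.θ₁ ∉ c.X := by
  intro h
  obtain ⟨h1, h2⟩ := per_rel c 1 not_dvd_one
  have e1 := c.hθ₁ 1
  rw [c.hXval c.θ₁ h 1 not_dvd_one] at e1
  exact not_mem_aux _ _ h1 h2 _ (c.hXε c.θ₁ h) e1.symm

theorem theta2_not_mem (c : TCtx G p) : c.θ₂ ∉ c.X := by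
  intro h
  obtain ⟨h1, h2⟩ := per_rel c 1 not_dvd_one
  have e1 := c.hθ₂ 1
  rw [c.hXval c.θ₂ h 1 not_dvd_one] at e1
  refine not_mem_aux (p := p) (per p c.ζ (1 * c.ν)) (per p c.ζ 1) ?_ ?_ _ (c.hXε c.θ₂ h) e1.symm
  · rw [add_comm]; exact h1
  · rw [← h2]; ring

/-- the centralizer of `x ^ a` is `⟨x⟩` -/
theorem cent_card (c : TCtx G p) (a : ℕ) (ha : ¬ p ∣ a) :
    Nat.card (Subgroup.centralizer ({c.x ^ a} : Set G)) = p := by
  have hp := (Fact.out : p.Prime)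
  have hcop : Nat.Coprime a p := (Nat.Coprime.symm ((Nat.Prime.coprime_iff_not_dvd hp).mpr ha))
  obtain ⟨b, -, hb⟩ := Nat.exists_mul_mod_eq_one_of_coprime hcop hp.one_lt
  have hxb : (c.x ^ a) ^ b = c.x := by
    rw [← pow_mul, ← pow_mod_orderOf, c.hx, hb, pow_one]
  have : Subgroup.centralizer ({c.x ^ a} : Set G) = Subgroup.zpowers c.x := by
    ext g
    rw [Subgroup.mem_centralizer_iff]
    constructor
    · intro hg
      have h1 : c.x ^ a * g = g * c.x ^ a := hg _ rfl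
      have h2 : Commute g (c.x ^ a) := h1.symm
      have h3 : Commute g c.x := by
        have := h2.pow_right b
        rwa [hxb] at this
      obtain ⟨k, rfl⟩ := c.hC g h3.eq
      exact Subgroup.pow_mem _ (Subgroup.mem_zpowers c.x) k
    · rintro ⟨k, rfl⟩ h hh
      rw [Set.mem_singleton_iff.mp hh]
      exact (((Commute.refl c.x).pow_left a).zpow_right k).eq
  rw [this, Nat.card_zpowers, c.hx]

theorem main (hPR : PerReal) : ColX.{u} := by
  intro G _ _ p _ c χ hχX hχ1 hχ2 a ha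
  classical
  haveI := Wedderburn.finite_irrCharacter G
  letI : Fintype (IrrCharacter G) := Fintype.ofFinite _
  obtain ⟨hs, hd⟩ := per_rel c a ha
  have hmod := p_mod4 c
  have hA := hPR p hmod c.ζ c.hζ a
  have hB := hPR p hmod c.ζ c.hζ (a * c.ν)
  have hcent := cent_card c a ha
  have hso := Orth.second_orthogonality_sum_of_isConj (c.x ^ a) (c.x ^ a) (IsConj.refl _)
  rw [hcent] at hso
  have hN : ∀ ψ : IrrCharacter G, (ψ : G → ℂ) (c.x ^ a) * conj ((ψ : G → ℂ) (c.x ^ a))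
      = ((Complex.normSq ((ψ : G → ℂ) (c.x ^ a)) : ℝ) : ℂ) := fun ψ => Complex.mul_conj _
  simp_rw [hN] at hso
  rw [← Complex.ofReal_sum] at hso
  have hso' : ∑ ψ : IrrCharacter G, Complex.normSq ((ψ : G → ℂ) (c.x ^ a)) = (p : ℝ) := by
    exact_mod_cast hso
  have h1 : c.θ₁ ∉ insert c.θ₂ c.X := by
    rw [Finset.mem_insert]
    rintro (h | h)
    · exact theta_ne c h
    · exact theta1_not_mem c h
  have h2 : c.θ₂ ∉ c.X := theta2_not_mem c
  have hsplit := Finset.sum_add_sum_compl (insert c.θ₁ (insert c.θ₂ c.X))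
    (fun ψ : IrrCharacter G => Complex.normSq ((ψ : G → ℂ) (c.x ^ a)))
  rw [hso', Finset.sum_insert h1, Finset.sum_insert h2] at hsplit
  have hX : ∑ ψ ∈ c.X, Complex.normSq ((ψ : G → ℂ) (c.x ^ a)) = (c.e : ℝ) := by
    have h1' : ∀ ψ ∈ c.X, Complex.normSq ((ψ : G → ℂ) (c.x ^ a)) = 1 := by
      intro ψ hψ
      rw [c.hXval ψ hψ a ha]
      rcases c.hXε ψ hψ with h | h
      · rw [h]; simp
      · rw [h]; simp
    rw [Finset.sum_congr rfl h1', Finset.sum_const, c.hXcard, nsmul_eq_mul, mul_one]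
  have hθ : Complex.normSq ((c.θ₁ : G → ℂ) (c.x ^ a))
      + Complex.normSq ((c.θ₂ : G → ℂ) (c.x ^ a)) = (c.e : ℝ) + 1 := by
    have hc : (((Complex.normSq ((c.θ₁ : G → ℂ) (c.x ^ a))
        + Complex.normSq ((c.θ₂ : G → ℂ) (c.x ^ a)) : ℝ)) : ℂ) = (((c.e : ℝ) + 1 : ℝ) : ℂ) := by
      push_cast
      rw [← Complex.mul_conj, ← Complex.mul_conj, c.hθ₁ a, c.hθ₂ a, map_add, map_add, map_one,
        hA, hB]
      rw [p_cast c] at hd
      linear_combination ((per p c.ζ a + per p c.ζ (a * c.ν) + 3) / 2) * hs + (1 / 2) * hd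
    exact_mod_cast hc
  have hp' : (p : ℝ) = 2 * (c.e : ℝ) + 1 := by
    have := c.hp
    exact_mod_cast congrArg (Nat.cast : ℕ → ℝ) this
  have hcompl : ∑ ψ ∈ (insert c.θ₁ (insert c.θ₂ c.X))ᶜ,
      Complex.normSq ((ψ : G → ℂ) (c.x ^ a)) = 0 := by linarith
  have hmem : χ ∈ (insert c.θ₁ (insert c.θ₂ c.X))ᶜ := by
    rw [Finset.mem_compl, Finset.mem_insert, Finset.mem_insert]
    rintro (h | h | h)
    · exact hχ1 h
    · exact hχ2 h
    · exact hχX h
  have := (Finset.sum_eq_zero_iff_of_nonneg (fun ψ _ => Complex.normSq_nonneg _)).mp hcompl χ hmem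
  exact Complex.normSq_eq_zero.mp this

end Cfsg.Agent.Lib.Helper77.TSColX
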