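import Mathlib
import Cfsg.Agent.Lib.Lead.TuanStmt
import Cfsg.Agent.Lib.CT.NormOne
import Cfsg.Agent.Lib.CT.Ops
import Cfsg.Agent.Lib.CT.Clifford

set_option autoImplicit false
set_option maxHeartbeats 400000

namespace Cfsg.Agent.Lib.Helper77.TSFNat

open Cfsg Cfsg.Agent.Lib.Lead.Tuan Cfsg.Agent.Lib.CT
open scoped ComplexConjugate

universe u

/-- a sum over the cyclic group generated by `x` is a sum over the exponents -/
theorem sum_zpowers {G : Type u} [Group G] [Finite G] (x : G) (p : ℕ) (hx : orderOf x = p)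
    [Fintype (Subgroup.zpowers x)] (F : G → ℂ) :
    ∑ k : Subgroup.zpowers x, F (k : G) = ∑ a ∈ Finset.range p, F (x ^ a) := by
  subst hx
  rw [Finset.sum_range]
  exact (Fintype.sum_equiv (finEquivZPowers (isOfFinOrder_of_finite x))
    (fun i => F (x ^ (i : ℕ))) (fun k => F (k : G))
    (fun i => by rw [finEquivZPowers_apply])).symm

/-- generic form: the sum of a character over a cyclic subgroup of order `p` -/
theorem sum_pow_nat {G : Type u} [Group G] [Finite G] (x : G) (p : ℕ) (hp : p ≠ 0)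
    (hx : orderOf x = p) (χ : G → ℂ) (hχ : IsCharacter G χ) :
    ∃ f : ℕ, ∑ a ∈ Finset.range p, χ (x ^ a) = (p : ℂ) * (f : ℂ) := by
  classical
  letI : Fintype (Subgroup.zpowers x) := Fintype.ofFinite _
  have hres : IsCharacter (Subgroup.zpowers x) (fun k : Subgroup.zpowers x => χ (k : G)) :=
    Ops.isCharacter_restrict (Subgroup.zpowers x) hχ
  obtain ⟨f, hf⟩ := Clifford.classInner_char_nat hres
    (Ops.isCharacter_one (G := Subgroup.zpowers x))
  refine ⟨f, ?_⟩
  have hcard : Nat.card (Subgroup.zpowers x) = p := by rw [Nat.card_zpowers, hx]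
  unfold classInner at hf
  rw [hcard] at hf
  have hp0 : (p : ℂ) ≠ 0 := Nat.cast_ne_zero.mpr hp
  have hsum : ∑ k : Subgroup.zpowers x, χ (k : G) * conj (1 : ℂ)
      = ∑ a ∈ Finset.range p, χ (x ^ a) := by
    rw [← sum_zpowers x p hx χ]
    exact Finset.sum_congr rfl (fun k _ => by rw [map_one, mul_one])
  rw [hsum] at hf
  rw [← hf, ← mul_assoc, mul_inv_cancel₀ hp0, one_mul]

theorem main : FNat.{u} := by
  intro G _ _ p hp c χ hχ
  exact sum_pow_nat c.x p hp.out.ne_zero c.hx χ hχ

end Cfsg.Agent.Lib.Helper77.TSFNat
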