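import Mathlib
import Cfsg.Agent.Lib.Lead.TuanStmt
import Cfsg.Agent.Lib.CT.NormOne
import Cfsg.Agent.Lib.CT.Ops

set_option autoImplicit false
set_option maxHeartbeats 400000

namespace Cfsg.Agent.Lib.Helper77.TSMulDec

open Cfsg Cfsg.Agent.Lib.Lead.Tuan Cfsg.Agent.Lib.CT
open scoped ComplexConjugate

universe u

theorem main : MulDec.{u} := by
  intro G _ _ _ φ₁ φ₂ h1 h2
  obtain ⟨m, -, hexp⟩ := NormOne.exists_mult_sum (Ops.isCharacter_mul h1 h2)
  refine ⟨m, fun g => ?_⟩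
  have := congrFun hexp g
  rw [Finset.sum_apply] at this
  simpa using this

end Cfsg.Agent.Lib.Helper77.TSMulDec
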