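import Mathlib
import Cfsg.Agent.Lib.Lead.TuanStmt
import Cfsg.Agent.Lib.CT.Wedderburn

set_option autoImplicit false
set_option maxHeartbeats 400000

namespace Cfsg.Agent.Lib.Helper77.TSPars

open Cfsg Cfsg.Agent.Lib.Lead.Tuan Cfsg.Agent.Lib.CT
open scoped ComplexConjugate

universe u

theorem main : Pars.{u} := by
  intro G _ _ _ m m'
  classical
  have hG : (Nat.card G : ℂ) ≠ 0 := Nat.cast_ne_zero.mpr Nat.card_pos.ne'
  have key : ∀ ψ ψ' : IrrCharacter G,
      ∑ g : G, (ψ : G → ℂ) g * conj ((ψ' : G → ℂ) g)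
        = (Nat.card G : ℂ) * (if ψ = ψ' then 1 else 0) := by
    intro ψ ψ'
    rw [← Wedderburn.irr_orthonormal ψ ψ']
    unfold classInner
    rw [← mul_assoc, mul_inv_cancel₀ hG, one_mul]
  calc ∑ g : G, (∑ ψ : IrrCharacter G, (m ψ : ℂ) * (ψ : G → ℂ) g) *
        conj (∑ ψ : IrrCharacter G, (m' ψ : ℂ) * (ψ : G → ℂ) g)
      = ∑ g : G, ∑ ψ : IrrCharacter G, ∑ ψ' : IrrCharacter G,
          ((m ψ : ℂ) * (m' ψ' : ℂ)) * ((ψ : G → ℂ) g * conj ((ψ' : G → ℂ) g)) := by
        apply Finset.sum_congr rfl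
        intro g _
        rw [map_sum, Finset.sum_mul_sum]
        apply Finset.sum_congr rfl
        intro ψ _
        apply Finset.sum_congr rfl
        intro ψ' _
        rw [map_mul, map_intCast]
        ring
    _ = ∑ ψ : IrrCharacter G, ∑ ψ' : IrrCharacter G,
          ((m ψ : ℂ) * (m' ψ' : ℂ)) * ∑ g : G, ((ψ : G → ℂ) g * conj ((ψ' : G → ℂ) g)) := by
        rw [Finset.sum_comm]
        apply Finset.sum_congr rfl
        intro ψ _
        rw [Finset.sum_comm]
        apply Finset.sum_congr rfl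
        intro ψ' _
        rw [Finset.mul_sum]
    _ = ∑ ψ : IrrCharacter G, (Nat.card G : ℂ) * ((m ψ : ℂ) * (m' ψ : ℂ)) := by
        apply Finset.sum_congr rfl
        intro ψ _
        simp_rw [key]
        rw [Finset.sum_eq_single ψ]
        · rw [if_pos rfl]; ring
        · intro b _ hb
          rw [if_neg (Ne.symm hb)]; ring
        · intro h
          exact absurd (Finset.mem_univ _) h
    _ = _ := by rw [Finset.mul_sum]

end Cfsg.Agent.Lib.Helper77.TSPars
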