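import Mathlib
import Cfsg.Agent.Lib.Lead.TuanStmt
import Cfsg.Agent.Lib.Helper77.TSColX

set_option autoImplicit false
set_option maxHeartbeats 400000

namespace Cfsg.Agent.Lib.Helper77.TSUniq

open Cfsg Cfsg.Agent.Lib.Lead.Tuan Cfsg.Agent.Lib.Lead.BrHalf Cfsg.Agent.Lib.CT
open Cfsg.Agent.Lib.Helper77.TSColX
open scoped ComplexConjugate

universe u

theorem zero_aux {p : ℕ} [Fact p.Prime] (A B : ℂ) (hs : A + B = -1) (hd : (A - B) ^ 2 = (p : ℂ))
    (h : 1 + A = 0) : False := by
  have hA : A = -1 := by linear_combination h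
  have hB : B = 0 := by linear_combination hs - hA
  rw [hA, hB] at hd
  have h1 : ((p : ℕ) : ℂ) = ((1 : ℕ) : ℂ) := by rw [← hd]; norm_num
  have := Nat.cast_injective h1
  exact (Fact.out : p.Prime).one_lt.ne' this

theorem eq_aux {p : ℕ} [Fact p.Prime] (A B : ℂ) (hd : (A - B) ^ 2 = (p : ℂ))
    (h : A = B) : False := by
  rw [h, sub_self] at hd
  have : (p : ℂ) = 0 := by rw [← hd]; ring
  exact (Fact.out : p.Prime).ne_zero (Nat.cast_eq_zero.mp this)

theorem main (hCol : ColX.{u}) : Uniq.{u} := by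
  intro G _ _ p _ c
  refine ⟨theta_ne c, theta1_not_mem c, theta2_not_mem c, fun χ => ⟨?_, ?_⟩⟩
  · intro h
    by_contra hne
    obtain ⟨hs, hd⟩ := per_rel c 1 not_dvd_one
    have e1 := c.hθ₁ 1
    rw [pow_one] at e1
    rw [e1] at h
    by_cases hX : χ ∈ c.X
    · have h3 := c.hXval χ hX 1 not_dvd_one
      rw [pow_one, h] at h3
      exact not_mem_aux _ _ hs hd _ (c.hXε χ hX) h3
    · by_cases h2 : χ = c.θ₂
      · rw [h2] at h
        have e2 := c.hθ₂ 1
        rw [pow_one, h] at e2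
        exact eq_aux _ _ hd (add_left_cancel e2)
      · have h0 := hCol p c χ hX hne h2 1 not_dvd_one
        rw [pow_one, h] at h0
        exact zero_aux _ _ hs hd h0
  · intro h
    by_contra hne
    obtain ⟨hs, hd⟩ := per_rel c 1 not_dvd_one
    have hs' : per p c.ζ (1 * c.ν) + per p c.ζ 1 = -1 := by rw [add_comm]; exact hs
    have hd' : (per p c.ζ (1 * c.ν) - per p c.ζ 1) ^ 2 = (p : ℂ) := by rw [← hd]; ring
    have e2 := c.hθ₂ 1
    rw [pow_one] at e2
    rw [e2] at h
    by_cases hX : χ ∈ c.X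
    · have h3 := c.hXval χ hX 1 not_dvd_one
      rw [pow_one, h] at h3
      exact not_mem_aux _ _ hs' hd' _ (c.hXε χ hX) h3
    · by_cases h1 : χ = c.θ₁
      · rw [h1] at h
        have e1 := c.hθ₁ 1
        rw [pow_one, h] at e1
        exact eq_aux _ _ hd' (add_left_cancel e1)
      · have h0 := hCol p c χ hX h1 hne 1 not_dvd_one
        rw [pow_one, h] at h0
        exact zero_aux _ _ hs' hd' h0

end Cfsg.Agent.Lib.Helper77.TSUniq
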